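import Cfsg.Agent.Lib.InvolTwo.StdTypes
import Cfsg.Agent.Lib.Geometry.OmegaCharTwo
import Cfsg.Agent.Lib.Geometry.MaxSingular

/-! Splitting of involution classes between the orthogonal group and `Ω` in characteristic two. -/

set_option autoImplicit false

namespace CfsgLib.InvolTwo.OmegaClasses

open Module Matrix QuadraticMap CfsgLib.Geometry CfsgLib.InvolTwo.OrthGroup

section Abstract

variable {F V : Type*} [Field F] [AddCommGroup V] [Module F V] [FiniteDimensional F V]
variable {Q : QuadraticForm F V}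

theorem dickson_mul (hQ : (polarBilin Q).Nondegenerate) (hR : reflGroup Q = orth Q)
    {g h : V ≃ₗ[F] V} (hg : g ∈ orth Q) (hh : h ∈ orth Q) :
    dickson (g * h) = dickson g + dickson h := by
  have e : ∀ x : orth Q, dicksonHom hQ hR x = Multiplicative.ofAdd (dickson (x : V ≃ₗ[F] V)) :=
    fun x => by rw [dicksonHom, MonoidHom.mk'_apply]; rfl
  have h2 := map_mul (dicksonHom hQ hR) (⟨g, hg⟩ : orth Q) (⟨h, hh⟩ : orth Q)
  rw [e, e, e, ← ofAdd_add, EmbeddingLike.apply_eq_iff_eq] at h2
  exact h2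

theorem isMaxSing_map {m : ℕ} {g : V ≃ₗ[F] V} (hg : g ∈ orth Q) {X : Submodule F V}
    (hX : IsMaxSing Q m X) : IsMaxSing Q m (X.map g.toLinearMap) := by
  refine ⟨by rw [LinearEquiv.finrank_map_eq]; exact hX.1, ?_⟩
  rintro _ ⟨x, hx, rfl⟩
  exact (hg x).trans (hX.2 x hx)

/-- The Dickson invariant as a parity of intersection of maximal singular subspaces. -/
theorem parity_eq_dickson (hQ : (polarBilin Q).Nondegenerate) (hR : reflGroup Q = orth Q) {m : ℕ}
    (hV : finrank F V = 2 * m) {g : V ≃ₗ[F] V} (hg : g ∈ orth Q) :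
    ∀ X : Submodule F V, IsMaxSing Q m X →
      ((m - finrank F ↥(X ⊓ X.map g.toLinearMap) : ℕ) : ZMod 2) = dickson g := by
  rw [← hR, reflGroup] at hg
  induction hg using Subgroup.closure_induction with
  | mem g hg =>
    obtain ⟨a, ha, rfl⟩ := hg
    intro X hX
    rw [dickson_refl hQ ha]
    have haX : ¬∀ x ∈ X, polar Q x a = 0 := fun h => ha (hX.2 a (by
      rw [← polarPerp_eq_self hQ hV hX]; exact mem_polarPerp.2 h))
    push Not at haX
    obtain ⟨x₀, hx₀, hx₀a⟩ := haX
    let f := (polarLeft Q a).comp X.subtype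
    have hf : LinearMap.range f = ⊤ := LinearMap.range_eq_top.2 fun c =>
      ⟨(c / polar Q x₀ a) • ⟨x₀, hx₀⟩, by
        simp [f, Geometry.polar_smul_left', div_mul_cancel₀ _ hx₀a]⟩
    have hset : X ⊓ X.map (refl Q a ha).toLinearMap = (LinearMap.ker f).map X.subtype := by
      ext y
      constructor
      · rintro ⟨hy, z, hz, rfl⟩
        have hz' : polar Q z a = 0 := by
          by_contra hne
          have hd : ((Q a)⁻¹ * polar Q z a) • a ∈ X := by
            have := X.sub_mem hz hy
            rw [LinearEquiv.coe_coe, refl_apply, sub_sub_cancel] at this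
            exact this
          have haX : a ∈ X := by
            have hne' : (Q a)⁻¹ * polar Q z a ≠ 0 := mul_ne_zero (inv_ne_zero ha) hne
            have := X.smul_mem ((Q a)⁻¹ * polar Q z a)⁻¹ hd
            rwa [inv_smul_smul₀ hne'] at this
          exact ha (hX.2 a haX)
        refine ⟨⟨z, hz⟩, hz', ?_⟩
        rw [LinearEquiv.coe_coe, refl_eq_self Q a ha hz']
        rfl
      · rintro ⟨⟨z, hz⟩, hz', rfl⟩
        exact ⟨hz, z, hz, refl_eq_self Q a ha hz'⟩
    have hdim : finrank F ↥(X ⊓ X.map (refl Q a ha).toLinearMap) + 1 = m := by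
      rw [hset, Submodule.finrank_map_subtype_eq]
      have h := LinearMap.finrank_range_add_finrank_ker f
      rw [hf, finrank_top, Module.finrank_self, hX.1] at h
      omega
    rw [show m - finrank F ↥(X ⊓ X.map (refl Q a ha).toLinearMap) = 1 by omega, Nat.cast_one]
  | one =>
    intro X hX
    rw [dickson_one, show X.map (1 : V ≃ₗ[F] V).toLinearMap = X from Submodule.map_id X, inf_idem,
      hX.1, Nat.sub_self, Nat.cast_zero]
  | mul g h hg hh ihg ihh =>
    intro X hX
    have hgo : g ∈ orth Q := hR ▸ hg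
    have hho : h ∈ orth Q := hR ▸ hh
    rw [dickson_mul hQ hR hgo hho, ← ihg X hX, ← ihh X hX]
    set U := X.map g.toLinearMap
    set W := X.map (g * h).toLinearMap
    have hU : IsMaxSing Q m U := isMaxSing_map hgo hX
    have hW : IsMaxSing Q m W := isMaxSing_map (mul_mem hgo hho) hX
    have e : finrank F ↥(U ⊓ W) = finrank F ↥(X ⊓ X.map h.toLinearMap) := by
      have : U ⊓ W = (X ⊓ X.map h.toLinearMap).map g.toLinearMap := by
        rw [Submodule.map_inf _ g.injective, ← Submodule.map_comp]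
        rfl
      rw [this, LinearEquiv.finrank_map_eq]
    have h2 := maxSing_parity hQ hV hW _ X U hX hU rfl
    rw [← ZMod.natCast_eq_zero_iff_even, Nat.cast_add, Nat.cast_add, e] at h2
    have h3 := eq_neg_of_add_eq_zero_right h2
    rw [h3, ZMod.neg_eq_self_mod_two]
  | inv g hg ihg =>
    intro X hX
    have hgo : g ∈ orth Q := hR ▸ hg
    have hinv : dickson g⁻¹ = dickson g := by
      have := dickson_mul hQ hR (inv_mem hgo) hgo
      rw [inv_mul_cancel, dickson_one] at this
      rw [← ZMod.neg_eq_self_mod_two (dickson g)]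
      exact eq_neg_of_add_eq_zero_left this.symm
    rw [hinv, ← ihg _ (isMaxSing_map (inv_mem hgo) hX)]
    have : (X.map (g⁻¹ : V ≃ₗ[F] V).toLinearMap).map g.toLinearMap = X := by
      rw [← Submodule.map_comp]
      convert Submodule.map_id X
      exact LinearMap.ext fun v => g.apply_symm_apply v
    rw [this, inf_comm]

variable [CharP F 2]

/-- In dimension four the minus type needs no excluded field. -/
theorem reflGroup_eq_orth_of_anisotropic (hQ : (polarBilin Q).Nondegenerate)
    (h : ∀ X : Submodule F V, (∀ x ∈ X, Q x = 0) → finrank F X ≤ 1) : reflGroup Q = orth Q := by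
  have hsp : SplitSingular Q := fun e u he0 he heu hu => Or.inl (by
    have hX : ∀ x ∈ Submodule.span F {e, u}, Q x = 0 := by
      intro x hx
      obtain ⟨a, b, rfl⟩ := Submodule.mem_span_pair.1 hx
      rw [Geometry.map_add', Geometry.map_smul', Geometry.map_smul', Geometry.polar_smul_left',
        Geometry.polar_smul_right', he, hu, heu]
      ring
    have hle : Submodule.span F {e} ≤ Submodule.span F {e, u} :=
      Submodule.span_mono (Set.singleton_subset_iff.2 (Set.mem_insert _ _))
    have : Submodule.span F {e} = Submodule.span F {e, u} :=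
      Submodule.eq_of_le_of_finrank_le hle (by rw [finrank_span_singleton he0]; exact h _ hX)
    rw [this]
    exact Submodule.subset_span (Set.mem_insert_of_mem _ rfl))
  exact le_antisymm (reflGroup_le_orth Q) fun g hg =>
    mem_reflGroup_of_fix hQ hsp (Module.finrank F V) ⊥ (by simp)
      (Or.inl fun t ht _ => (Submodule.mem_bot F).1 ht) g hg
      (fun t ht => by rw [(Submodule.mem_bot F).1 ht, map_zero])

end Abstract

variable {F : Type*} [Field F] [CharP F 2] [Finite F] {ι : Type} [Fintype ι] [DecidableEq ι]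
variable {Q : QuadraticForm F (ι → F)}

theorem mem_Omega_iff (hQ : (polarBilin Q).Nondegenerate) (hR : reflGroup Q = orth Q)
    (g : Cfsg.isometryGroup F ⇑Q) : g ∈ Cfsg.Omega F ⇑Q ↔ dickson (lin g) = 0 := by
  rw [mem_Omega_iff_invariant hQ hR]
  exact ⟨fun h => Multiplicative.ofAdd.injective (congrArg Prod.snd h),
    fun h => Prod.ext (sqClass_eq_one_of_two CharTwo.two_eq_zero _) (congrArg Multiplicative.ofAdd h)⟩

theorem mem_Omega_iff_even (hQ : (polarBilin Q).Nondegenerate) (hR : reflGroup Q = orth Q)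
    (g : Cfsg.isometryGroup F ⇑Q) :
    g ∈ Cfsg.Omega F ⇑Q ↔ Even (((g : GL ι F) : Matrix ι ι F) - 1).rank := by
  rw [mem_Omega_iff hQ hR, dickson, ZMod.natCast_eq_zero_iff_even, finrank_movSpace_eq_rank Q g]

theorem range_conj {c g h : Cfsg.isometryGroup F ⇑Q} (e : c * g * c⁻¹ = h) :
    LinearMap.range (mov (lin h)) = (LinearMap.range (mov (lin g))).map (lin c).toLinearMap := by
  have hv : ∀ v, lin c (mov (lin g) v) = mov (lin h) (lin c v) := fun v => by
    rw [mov_apply, mov_apply, map_sub, ← lin_mul, ← lin_mul, ← e, inv_mul_cancel_right]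
  apply le_antisymm
  · rintro _ ⟨v, rfl⟩
    obtain ⟨w, rfl⟩ := (lin c).surjective v
    exact ⟨_, LinearMap.mem_range_self _ w, hv w⟩
  · rintro _ ⟨_, ⟨v, rfl⟩, rfl⟩
    exact ⟨lin c v, (hv v).symm⟩

/-- No splitting when the centraliser contains a reflection. -/
theorem omega_conj (hQ : (polarBilin Q).Nondegenerate) (hR : reflGroup Q = orth Q)
    {g h : Cfsg.isometryGroup F ⇑Q} (hg : g * g = 1)
    (hns : ¬(IsAltType g ∧ 2 * finrank F (LinearMap.range (mov (lin g))) = Fintype.card ι))
    (hgh : IsConj g h) : ∃ c ∈ Cfsg.Omega F ⇑Q, c * g * c⁻¹ = h := by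
  obtain ⟨c, hc⟩ := isConj_iff.1 hgh
  obtain ⟨a, haN, ha⟩ := exists_nonsingular_fixed hQ (lin_mem g) (lin_invol hg)
    (fun H => hns ⟨H.1, H.2.trans (Module.finrank_fintype_fun_eq_card F)⟩)
  obtain ⟨r, hr⟩ := exists_lin_eq (refl Q a ha) (refl_mem_orth Q a ha)
  have hrg : r * g * r⁻¹ = g := by
    rw [mul_inv_eq_iff_eq_mul]
    refine lin_ext fun v => ?_
    have hNv : polar Q (mov (lin g) v) a = 0 := by
      rw [← polarBilin_apply_apply, (isMov hg).adj, haN, map_zero]
    rw [lin_mul, lin_mul, hr]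
    refine comm_of_intertwine (g := refl Q a ha) (t := lin g) (t' := lin g) (fun w => ?_) v
    rw [refl_eq_self Q a ha (by rw [← polarBilin_apply_apply, (isMov hg).adj, haN, map_zero]),
      refl_apply, map_sub, map_smul, haN, smul_zero, sub_zero]
  by_cases hcΩ : c ∈ Cfsg.Omega F ⇑Q
  · exact ⟨c, hcΩ, hc⟩
  · refine ⟨c * r, (mem_Omega_iff hQ hR _).2 ?_, ?_⟩
    · rw [mem_Omega_iff hQ hR] at hcΩ
      have e : lin (c * r) = lin c * lin r := LinearEquiv.ext fun v => lin_mul c r v
      rw [e, dickson_mul hQ hR (lin_mem c) (lin_mem r), hr, dickson_refl hQ ha]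
      revert hcΩ
      generalize dickson (lin c) = d
      revert d
      decide
    · conv_rhs => rw [← hc, ← hrg]
      group

/-- Splitting by the parity of the intersection of the images. -/
theorem omega_conj_iff (hQ : (polarBilin Q).Nondegenerate) (hR : reflGroup Q = orth Q) {m : ℕ}
    (hn : Fintype.card ι = 2 * m) {g h : Cfsg.isometryGroup F ⇑Q} (hg : g * g = 1)
    (halt : IsAltType g) (hrk : finrank F (LinearMap.range (mov (lin g))) = m) (hgh : IsConj g h) :
    (∃ c ∈ Cfsg.Omega F ⇑Q, c * g * c⁻¹ = h) ↔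
      Even (finrank F ↥(LinearMap.range (mov (lin g)) ⊓ LinearMap.range (mov (lin h)))) := by
  have hm : Even m := by
    have := even_rank hQ hg halt
    rwa [OrthGroup.rank_eq, hrk] at this
  have hX : IsMaxSing Q m (LinearMap.range (mov (lin g))) :=
    ⟨hrk, alt_range_singular (lin_mem g) halt⟩
  have key : ∀ c, c * g * c⁻¹ = h → (dickson (lin c) = 0 ↔
      Even (finrank F ↥(LinearMap.range (mov (lin g)) ⊓ LinearMap.range (mov (lin h))))) := by
    intro c hc
    rw [← parity_eq_dickson hQ hR (by rw [Module.finrank_fintype_fun_eq_card, hn]) (lin_mem c) _ hX,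
      ← range_conj hc, ZMod.natCast_eq_zero_iff_even]
    have : finrank F ↥(LinearMap.range (mov (lin g)) ⊓ LinearMap.range (mov (lin h))) ≤ m :=
      hrk ▸ Submodule.finrank_mono inf_le_left
    rw [Nat.even_sub this]
    exact ⟨fun H => H.1 hm, fun H => iff_of_true hm H⟩
  constructor
  · rintro ⟨c, hcΩ, hc⟩
    exact (key c hc).1 ((mem_Omega_iff hQ hR c).1 hcΩ)
  · intro H
    obtain ⟨c, hc⟩ := isConj_iff.1 hgh
    exact ⟨c, (mem_Omega_iff hQ hR c).2 ((key c hc).2 H), hc⟩

theorem isConj_subgroup_iff {G : Type*} [Group G] {H : Subgroup G} (a b : H) :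
    IsConj a b ↔ ∃ c ∈ H, c * (a : G) * c⁻¹ = b := by
  rw [isConj_iff]
  exact ⟨fun ⟨c, hc⟩ => ⟨c, c.2, congrArg Subtype.val hc⟩, fun ⟨c, hc, e⟩ => ⟨⟨c, hc⟩, Subtype.ext e⟩⟩

end CfsgLib.InvolTwo.OmegaClasses
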