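import Cfsg.Agent.Lib.InvolTwo.Normal

/-! Involutive isometries with prescribed type. -/

set_option autoImplicit false

namespace CfsgLib.InvolTwo

open Module

universe u v

variable {F : Type u} {V : Type v} [Field F] [CharP F 2] [AddCommGroup V] [Module F V]
  [FiniteDimensional F V]
variable {B : LinearMap.BilinForm F V}
variable {ι : Type} [Fintype ι] [DecidableEq ι]

/-- The map `v ↦ ∑ B(v, w i) • w (σ i)`. -/
def buildMov (B : LinearMap.BilinForm F V) (σ : ι → ι) (w : ι → V) : V →ₗ[F] V :=
  ∑ i, (B.flip (w i)).smulRight (w (σ i))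

omit [CharP F 2] [FiniteDimensional F V] [DecidableEq ι] in
theorem buildMov_apply (σ : ι → ι) (w : ι → V) (v : V) :
    buildMov B σ w v = ∑ i, B v (w i) • w (σ i) := by
  simp [buildMov, LinearMap.sum_apply]

omit [DecidableEq ι] in
theorem isMov_build (hA : B.IsAlt) {σ : ι → ι} (hσ : Function.Involutive σ) {w : ι → V}
    (hw : ∀ i j, B (w i) (w j) = 0) : IsMov B (buildMov B σ w) := by
  refine ⟨fun v => ?_, fun u v => ?_⟩
  · simp [buildMov_apply, hw]
  · simp only [buildMov_apply, map_sum, map_smul, LinearMap.sum_apply, LinearMap.smul_apply,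
      smul_eq_mul]
    rw [← Equiv.sum_comp (Function.Involutive.toPerm σ hσ)]
    refine Finset.sum_congr rfl fun i _ => ?_
    simp only [Function.Involutive.coe_toPerm, hσ i]
    rw [alt_comm hA (w i) v]; ring

omit [DecidableEq ι] [CharP F 2] in
theorem range_build (hB : B.Nondegenerate) {σ : ι → ι} (hσ : Function.Involutive σ) {w : ι → V}
    (hind : LinearIndependent F w) :
    finrank F (LinearMap.range (buildMov B σ w)) = Fintype.card ι := by
  classical
  let X : Submodule F V := Submodule.span F (Set.range w)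
  have hle : LinearMap.range (buildMov B σ w) ≤ X := by
    rintro _ ⟨v, rfl⟩
    rw [buildMov_apply]
    exact Submodule.sum_mem _ fun i _ =>
      Submodule.smul_mem _ _ (Submodule.subset_span (Set.mem_range_self _))
  have hdual : ∀ j, ∃ v, ∀ i, B v (w i) = if i = j then 1 else 0 := by
    intro j
    have hj : w j ∉ Submodule.span F (w '' (Set.univ \ {j})) :=
      hind.notMem_span_image fun h => h.2 rfl
    obtain ⟨v, hv, hvj⟩ := Geometry.exists_perp (σ := RingHom.id F) Function.surjective_id B hB.1
      _ hj (1 : F)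
    refine ⟨v, fun i => ?_⟩
    split_ifs with hij
    · exact hij ▸ hvj
    · exact hv _ (Submodule.subset_span ⟨i, ⟨trivial, hij⟩, rfl⟩)
  have hge : X ≤ LinearMap.range (buildMov B σ w) := by
    refine Submodule.span_le.2 ?_
    rintro _ ⟨i, rfl⟩
    obtain ⟨v, hv⟩ := hdual (σ i)
    refine ⟨v, ?_⟩
    simp [buildMov_apply, hv, hσ i]
  rw [le_antisymm hle hge]
  exact finrank_span_eq_card hind

omit [FiniteDimensional F V] [DecidableEq ι] in
/-- The type of a built map with a fixed-point-free pairing. -/
theorem build_swap_alt (hA : B.IsAlt) {k : ℕ} {w : Fin k ⊕ Fin k → V} (v : V) :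
    B v (buildMov B Sum.swap w v) = 0 := by
  have _ := hA
  simp only [buildMov_apply, map_add, map_sum, map_smul, smul_eq_mul, Fintype.sum_sum_type, Sum.swap_inl,
    Sum.swap_inr]
  rw [Finset.sum_congr rfl fun i _ => mul_comm (B v (w (Sum.inl i))) (B v (w (Sum.inr i)))]
  exact CharTwo.add_self_eq_zero (∑ i, B v (w (Sum.inr i)) * B v (w (Sum.inl i)))

omit [DecidableEq ι] in
/-- The type of a built diagonal map. -/
theorem build_id_nonalt (hB : B.Nondegenerate) [Nonempty ι] {w : ι → V}
    (hind : LinearIndependent F w) : ∃ v, B v (buildMov B id w v) ≠ 0 := by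
  classical
  obtain ⟨j⟩ := ‹Nonempty ι›
  have hj : w j ∉ Submodule.span F (w '' (Set.univ \ {j})) :=
    hind.notMem_span_image fun h => h.2 rfl
  obtain ⟨v, hv, hvj⟩ := Geometry.exists_perp (σ := RingHom.id F) Function.surjective_id B hB.1
    _ hj (1 : F)
  refine ⟨v, ?_⟩
  simp only [buildMov_apply, map_sum, map_smul, smul_eq_mul, id]
  rw [Finset.sum_eq_single j (fun i _ hij => by
    rw [hv _ (Submodule.subset_span ⟨i, ⟨trivial, hij⟩, rfl⟩), zero_mul]) (by simp), hvj, one_mul]
  exact one_ne_zero

omit [FiniteDimensional F V] in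
/-- `1 + N` as an equivalence. -/
def addMov {N : V →ₗ[F] V} (hN : IsMov B N) : V ≃ₗ[F] V :=
  LinearEquiv.ofInvolutive (LinearMap.id + N) fun v => by
    simp only [LinearMap.add_apply, LinearMap.id_apply, map_add, hN.sq, add_zero]
    rw [add_assoc, add_self_vec (F := F), add_zero]

omit [FiniteDimensional F V] in
theorem addMov_apply {N : V →ₗ[F] V} (hN : IsMov B N) (v : V) : addMov hN v = v + N v := rfl

omit [FiniteDimensional F V] in
theorem addMov_addMov {N : V →ₗ[F] V} (hN : IsMov B N) (v : V) : addMov hN (addMov hN v) = v := by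
  simp only [addMov_apply, map_add, hN.sq, add_zero]
  rw [add_assoc, add_self_vec (F := F), add_zero]

omit [FiniteDimensional F V] in
theorem mov_addMov {N : V →ₗ[F] V} (hN : IsMov B N) : mov (addMov hN) = N :=
  LinearMap.ext fun v => by rw [mov_apply, addMov_apply, add_sub_cancel_left]

omit [FiniteDimensional F V] in
theorem addMov_preserves {N : V →ₗ[F] V} (hN : IsMov B N) (u v : V) :
    B (addMov hN u) (addMov hN v) = B u v := by
  simp only [addMov_apply, map_add, LinearMap.add_apply, hN.orth_range, hN.adj, add_zero]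
  rw [add_assoc, CharTwo.add_self_eq_zero, add_zero]

end CfsgLib.InvolTwo
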