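import Cfsg.Agent.Lib.InvolTwo.Dot

/-! Centralisers of involutive isometries of an alternating form: counting adapted frames. -/

set_option autoImplicit false

namespace CfsgLib.InvolTwo

open Module

universe u v

variable {F : Type u} {V : Type v} [Field F] [CharP F 2] [AddCommGroup V] [Module F V]
  [FiniteDimensional F V]
variable {B : LinearMap.BilinForm F V} {N : V →ₗ[F] V}
variable {ι : Type} [Fintype ι] [DecidableEq ι] {σ : ι → ι}

/-- The centraliser of `N` in the isometry group. -/
abbrev Cent (B : LinearMap.BilinForm F V) (N : V →ₗ[F] V) : Type v :=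
  {g : Isom B // ∀ x, g.1 (N x) = N (g.1 x)}

/-- Isometries fixing a frame are those of the orthogonal of the frame. -/
theorem card_frame_fix [Finite F] (hB : B.Nondegenerate) (hA : B.IsAlt) (hN : IsMov B N)
    {u : ι → V} (h : Frame B N σ u) {r : ℕ} (hr : finrank F V = 2 * Fintype.card ι + 2 * r) :
    Nat.card {g : Isom B // ∀ i, g.1 (u i) = u i ∧ g.1 (N (u i)) = N (u i)} =
      spOrder (Nat.card F) r := by
  classical
  let v : ι ⊕ ι → V := Sum.elim u fun i => N (u i)
  let π : V →ₗ[F] V := LinearMap.id + (∑ i, (B.flip (N (u (σ i)))).smulRight (u i))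
    + ∑ i, (B.flip (u (σ i))).smulRight (N (u i))
  have hπx : ∀ x, π x = x + (∑ i, B x (N (u (σ i))) • u i) + ∑ i, B x (u (σ i)) • N (u i) :=
    fun x => by simp [π, LinearMap.sum_apply]
  have hπ : ∀ x, π x ∈ perpFam v B := fun x => by
    rw [mem_perpFam]
    rintro (j | j)
    · show B (π x) (u j) = 0
      rw [hπx]
      simp only [map_add, map_sum, map_smul, LinearMap.add_apply, LinearMap.sum_apply,
        LinearMap.smul_apply, smul_eq_mul, h.iso, mul_zero, Finset.sum_const_zero, add_zero,
        h.sum_gram' hN (fun i => B x (u (σ i))), h.invol j, CharTwo.add_self_eq_zero]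
    · show B (π x) (N (u j)) = 0
      rw [hπx]
      simp only [map_add, map_sum, map_smul, LinearMap.add_apply, LinearMap.sum_apply,
        LinearMap.smul_apply, smul_eq_mul, hN.orth_range, mul_zero, Finset.sum_const_zero, add_zero,
        h.sum_gram (fun i => B x (N (u (σ i)))), h.invol j, CharTwo.add_self_eq_zero]
  have hsub : ∀ x, x - π x ∈ Submodule.span F (Set.range v) := fun x => by
    rw [hπx, add_assoc, sub_add_cancel_left]
    exact Submodule.neg_mem _ (Submodule.add_mem _
      (Submodule.sum_mem _ fun i _ => Submodule.smul_mem _ _ (Submodule.subset_span ⟨Sum.inl i, rfl⟩))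
      (Submodule.sum_mem _ fun i _ => Submodule.smul_mem _ _ (Submodule.subset_span ⟨Sum.inr i, rfl⟩)))
  have hs : ∀ x y, B x y = B y x := alt_comm hA
  have hnd : ∀ x ∈ perpFam v B, (∀ y ∈ perpFam v B, B x y = 0) → x = 0 := fun x hx hxy =>
    hB.1 x fun y => by
      rw [show y = (y - π y) + π y by rw [sub_add_cancel], map_add, hxy _ (hπ y), add_zero, hs,
        perp_span v hs hx (hsub y)]
  have e : {g : Isom B // ∀ i, g.1 (u i) = u i ∧ g.1 (N (u i)) = N (u i)} ≃
      {g : Isom B // ∀ i, g.1 (v i) = v i} :=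
    Equiv.subtypeEquiv (Equiv.refl _) fun g => by
      simp [v, Sum.forall, forall_and]
  rw [Nat.card_congr e, card_fix v π hs hπ hsub hnd,
    card_isom_alt (B := B.restrict (perpFam v B)) (fun x => hA x)
      (fun x hx => Subtype.ext (hnd _ x.2 fun y hy => hx ⟨y, hy⟩)) (k := r) ?_]
  have := finrank_perpFam v π hs hπ hsub hnd
  rw [finrank_span_eq_card (h.indep hN), Fintype.card_sum, hr] at this
  omega

omit [CharP F 2] [FiniteDimensional F V] in
theorem frame_map {u : ι → V} (h : Frame B N σ u) {g : V ≃ₗ[F] V}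
    (hg : ∀ x y, B (g x) (g y) = B x y) (hc : ∀ x, g (N x) = N (g x)) :
    Frame B N σ fun i => g (u i) := by
  refine ⟨h.invol, fun i j => by rw [← hc, hg, h.gram], fun i j => by rw [hg, h.iso], fun x hx => ?_⟩
  obtain ⟨y, rfl⟩ := g.surjective x
  rw [← hc, h.resid y fun i => by rw [← hg, hc]; exact hx i, map_zero]

/-- The centraliser is transitive on frames of a fixed shape. -/
theorem card_cent_eq (hB : B.Nondegenerate) (hA : B.IsAlt) (hN : IsMov B N) {u₀ : ι → V}
    (h₀ : Frame B N σ u₀) :
    Nat.card (Cent B N) = Nat.card {u : ι → V // Frame B N σ u} *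
      Nat.card {g : Isom B // ∀ i, g.1 (u₀ i) = u₀ i ∧ g.1 (N (u₀ i)) = N (u₀ i)} := by
  classical
  have hex : ∀ f : {u : ι → V // Frame B N σ u}, ∃ g : Cent B N, ∀ i, g.1.1 (u₀ i) = f.1 i := by
    intro f
    obtain ⟨g, hg, hgu, hgN⟩ := exists_intertwine hB hA hN hN h₀ f.2
    exact ⟨⟨⟨g, hg⟩, hgN⟩, hgu⟩
  choose c hc using hex
  have hcw : ∀ f i, (c f).1.1 (N (u₀ i)) = N (f.1 i) := fun f i => by rw [(c f).2, hc]
  let img : Cent B N → {u : ι → V // Frame B N σ u} := fun g =>
    ⟨fun i => g.1.1 (u₀ i), frame_map h₀ g.1.2 g.2⟩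
  let fwd : {u : ι → V // Frame B N σ u} ×
      {g : Isom B // ∀ i, g.1 (u₀ i) = u₀ i ∧ g.1 (N (u₀ i)) = N (u₀ i)} → Cent B N := fun p =>
    ⟨⟨(c p.1).1.1 * p.2.1.1, fun x y => ((c p.1).1.2 _ _).trans (p.2.1.2 x y)⟩, fun x => by
      show (c p.1).1.1 (p.2.1.1 (N x)) = N ((c p.1).1.1 (p.2.1.1 x))
      rw [h₀.intertwine hN h₀ hN hA p.2.1.2 (fun i => (p.2.2 i).1) (fun i => (p.2.2 i).2) x,
        (c p.1).2]⟩
  rw [← Nat.card_prod]
  refine (Nat.card_congr (Equiv.ofBijective fwd ⟨?_, fun g => ?_⟩)).symm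
  · rintro ⟨f, k⟩ ⟨f', k'⟩ h
    have hv : ∀ x, (c f).1.1 (k.1.1 x) = (c f').1.1 (k'.1.1 x) := fun x =>
      congrArg (fun g : Cent B N => g.1.1 x) h
    have hf : f = f' := Subtype.ext (funext fun i => by
      have := hv (u₀ i)
      rwa [(k.2 i).1, (k'.2 i).1, hc, hc] at this)
    subst hf
    exact Prod.ext rfl (Subtype.ext (Subtype.ext (LinearEquiv.ext fun x => (c f).1.1.injective (hv x))))
  · refine ⟨(img g, ⟨⟨(c (img g)).1.1⁻¹ * g.1.1, fun x y => ?_⟩, fun i => ⟨?_, ?_⟩⟩), ?_⟩
    · rw [← (c (img g)).1.2]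
      show B ((c (img g)).1.1 ((c (img g)).1.1.symm (g.1.1 x)))
        ((c (img g)).1.1 ((c (img g)).1.1.symm (g.1.1 y))) = _
      rw [LinearEquiv.apply_symm_apply, LinearEquiv.apply_symm_apply, g.1.2]
    · show (c (img g)).1.1.symm (g.1.1 (u₀ i)) = u₀ i
      rw [LinearEquiv.symm_apply_eq, hc]
    · show (c (img g)).1.1.symm (g.1.1 (N (u₀ i))) = N (u₀ i)
      rw [LinearEquiv.symm_apply_eq, hcw, g.2]
    · refine Subtype.ext (Subtype.ext (LinearEquiv.ext fun x => ?_))
      exact (c (img g)).1.1.apply_symm_apply _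

/-- Families with the Gram pattern of `σ`. -/
abbrev GramFam (B : LinearMap.BilinForm F V) (N : V →ₗ[F] V) (σ : ι → ι) : Type v :=
  {u : ι → V // ∀ i j, B (u i) (N (u j)) = if j = σ i then 1 else 0}

/-- `GramFam` is `CoordIso` times translations by the fixed space. -/
noncomputable def gramEquiv (hA : B.IsAlt) (hN : IsMov B N) {u₀ : ι → V} (h₀ : Frame B N σ u₀) :
    GramFam B N σ ≃ CoordIso F σ × (ι → LinearMap.ker N) := by
  classical
  have hco : ∀ (A : ι → ι → F) (a : ι → LinearMap.ker N) (i j : ι),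
      B ((∑ k, A i k • u₀ k) + a i) (N ((∑ k, A j k • u₀ k) + a j)) =
        ∑ k, A i k * A j (σ k) := fun A a i j => by
    have hj : N ((∑ k, A j k • u₀ k) + a j) = ∑ k, A j k • N (u₀ k) := by
      rw [map_add, LinearMap.mem_ker.1 (a j).2, add_zero, map_sum]
      simp only [map_smul]
    have ha : ∀ k, B (a i : V) (N (u₀ k)) = 0 := fun k => by
      rw [← hN.adj, LinearMap.mem_ker.1 (a i).2, map_zero, LinearMap.zero_apply]
    rw [hj]
    simp only [map_add, map_sum, map_smul, LinearMap.add_apply, LinearMap.sum_apply,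
      LinearMap.smul_apply, smul_eq_mul, ha, mul_zero, add_zero, h₀.sum_gram,
      mul_comm (A i _)]
    rw [← Equiv.sum_comp (Function.Involutive.toPerm σ h₀.invol)]
    simp [h₀.gram_ite, h₀.invol _]
  let coord : V → ι → F := fun x k => B (u₀ (σ k)) (N x)
  have hker : ∀ x, x - ∑ k, coord x k • u₀ k ∈ LinearMap.ker N := fun x => h₀.split x
  refine
    { toFun := fun u => (⟨fun i => coord (u.1 i), fun i j => ?_⟩, fun i => ⟨_, hker (u.1 i)⟩)
      invFun := fun p => ⟨fun i => (∑ k, p.1.1 i k • u₀ k) + p.2 i, fun i j => by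
        rw [hco]; exact p.1.2 i j⟩
      left_inv := fun u => Subtype.ext (funext fun i => add_sub_cancel _ _)
      right_inv := fun p => ?_ }
  · have := hco (fun i => coord (u.1 i)) (fun i => ⟨_, hker (u.1 i)⟩) i j
    simp only [add_sub_cancel] at this
    rw [← this]
    exact u.2 i j
  · have hc : ∀ i, coord ((∑ k, p.1.1 i k • u₀ k) + p.2 i) = p.1.1 i := fun i => funext fun k => by
      show B (u₀ (σ k)) (N ((∑ l, p.1.1 i l • u₀ l) + p.2 i)) = _
      rw [map_add N, LinearMap.mem_ker.1 (p.2 i).2, add_zero, map_sum, map_sum]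
      simp [h₀.gram, h₀.invol k]
    refine Prod.ext (Subtype.ext (funext hc)) (funext fun i => Subtype.ext ?_)
    simp only [hc, add_sub_cancel_left]

theorem card_pairs (e : ι ≃ Fin (Fintype.card ι)) :
    Nat.card {p : ι × ι // e p.1 < e p.2} = Fintype.card ι * (Fintype.card ι - 1) / 2 := by
  have e1 : {p : ι × ι // e p.1 < e p.2} ≃ Σ j : Fin (Fintype.card ι), Fin (j : ℕ) :=
    { toFun := fun p => ⟨e p.1.2, ⟨e p.1.1, p.2⟩⟩
      invFun := fun q => ⟨(e.symm ⟨q.2, q.2.isLt.trans q.1.isLt⟩, e.symm q.1), by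
        simp only [Equiv.apply_symm_apply]; exact q.2.isLt⟩
      left_inv := fun p => Subtype.ext (Prod.ext (by simp) (by simp))
      right_inv := fun q => Sigma.ext (Equiv.apply_symm_apply e _)
        ((Fin.heq_ext_iff (by simp)).2 (by simp)) }
  rw [Nat.card_congr e1, Nat.card_sigma]
  simp only [Nat.card_eq_fintype_card, Fintype.card_fin]
  rw [Fin.sum_univ_eq_sum_range fun i => i, Finset.sum_range_id]

/-- Frames times strictly triangular arrays are the Gram families. -/
theorem card_frames_mul [Finite F] (hA : B.IsAlt) (hN : IsMov B N) (hσ : Function.Involutive σ)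
    (hres : finrank F (LinearMap.range N) = Fintype.card ι) :
    Nat.card {u : ι → V // Frame B N σ u} *
        Nat.card F ^ (Fintype.card ι * (Fintype.card ι - 1) / 2) = Nat.card (GramFam B N σ) := by
  classical
  let e := Fintype.equivFin ι
  let P := {p : ι × ι // e p.1 < e p.2}
  have hcard : Nat.card (P → F) = Nat.card F ^ (Fintype.card ι * (Fintype.card ι - 1) / 2) := by
    rw [Nat.card_fun, card_pairs e]
  let ext' : (P → F) → ι → ι → F := fun M i j => if h : e i < e j then M ⟨(i, j), h⟩ else 0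
  let shift : (P → F) → (ι → V) → ι → V := fun M u i => u i + ∑ k, ext' M i (σ k) • N (u k)
  have hshiftN : ∀ M u i, N (shift M u i) = N (u i) := fun M u i => by
    simp [shift, map_sum, hN.sq]
  have hshift2 : ∀ M u, shift M (shift M u) = u := fun M u => funext fun i => by
    show shift M u i + ∑ k, ext' M i (σ k) • N (shift M u k) = u i
    simp only [hshiftN]
    rw [add_assoc, add_self_vec (F := F), add_zero]
  have hgram : ∀ M u, (∀ i j, B (u i) (N (u j)) = if j = σ i then (1 : F) else 0) →
      ∀ i j, B (shift M u i) (N (shift M u j)) = if j = σ i then 1 else 0 := fun M u h i j => by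
    rw [hshiftN]
    simp [shift, hN.orth_range, h]
  have hiso : ∀ M u, (∀ i j, B (u i) (N (u j)) = if j = σ i then (1 : F) else 0) →
      ∀ i j, B (shift M u i) (shift M u j) = B (u i) (u j) + ext' M i j + ext' M j i :=
    fun M u h i j => by
    have hgl : ∀ i j, B (N (u i)) (u j) = if i = σ j then 1 else 0 := fun i j => by
      rw [alt_comm hA, h]
    simp only [shift, map_add, map_sum, map_smul, LinearMap.add_apply, LinearMap.sum_apply,
      LinearMap.smul_apply, smul_eq_mul, hN.orth_range, mul_zero, Finset.sum_const_zero, add_zero]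
    simp [h, hgl, hσ i, hσ j]
  let cor : (ι → V) → P → F := fun u p => B (u p.1.1) (u p.1.2)
  have hframe : ∀ u, (∀ i j, B (u i) (N (u j)) = if j = σ i then (1 : F) else 0) →
      (∀ i j, B (u i) (u j) = 0) → Frame B N σ u := fun u hg hi => by
    refine ⟨hσ, hg, hi, fun x hx => ?_⟩
    have hind : LinearIndependent F fun i => N (u i) := by
      rw [Fintype.linearIndependent_iff]
      intro g hg' i
      have := congrArg (fun y => B y (u (σ i))) hg'
      simp only [map_sum, map_smul, LinearMap.sum_apply, LinearMap.smul_apply, smul_eq_mul,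
        map_zero, LinearMap.zero_apply, hN.adj, hg] at this
      simpa [hσ.injective.eq_iff] using this
    have hspan : Submodule.span F (Set.range fun i => N (u i)) = LinearMap.range N :=
      Submodule.eq_of_le_of_finrank_eq
        (Submodule.span_le.2 (by rintro _ ⟨i, rfl⟩; exact LinearMap.mem_range_self N _))
        (by rw [finrank_span_eq_card hind, hres])
    obtain ⟨c, hc⟩ : ∃ c : ι → F, ∑ i, c i • N (u i) = N x :=
      Submodule.mem_span_range_iff_exists_fun _ |>.1 (hspan ▸ LinearMap.mem_range_self N x)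
    have h0 : ∀ i, c i = 0 := fun i => by
      have := hx (σ i)
      rw [← hc, map_sum] at this
      simpa [hg, hσ i] using this
    rw [← hc]; simp [h0]
  rw [← hcard, ← Nat.card_prod]
  refine Nat.card_congr
    { toFun := fun p => ⟨shift p.2 p.1.1, hgram _ _ p.1.2.gram⟩
      invFun := fun u => (⟨shift (cor u.1) u.1, hframe _ (hgram _ _ u.2) fun i j => ?_⟩, cor u.1)
      left_inv := fun p => ?_
      right_inv := fun u => Subtype.ext (hshift2 _ _) }
  · rw [hiso _ _ u.2]
    rcases lt_trichotomy (e i) (e j) with hlt | heq | hlt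
    · simp only [ext', dif_pos hlt, dif_neg (not_lt.2 hlt.le), add_zero, cor]
      exact CharTwo.add_self_eq_zero _
    · obtain rfl := e.injective heq
      simp [ext', hA.self_eq_zero]
    · simp only [ext', dif_pos hlt, dif_neg (not_lt.2 hlt.le), add_zero, cor]
      rw [alt_comm hA (u.1 i) (u.1 j), CharTwo.add_self_eq_zero]
  · have hcor : cor (shift p.2 p.1.1) = p.2 := funext fun q => by
      show B (shift p.2 p.1.1 q.1.1) (shift p.2 p.1.1 q.1.2) = _
      rw [hiso _ _ p.1.2.gram, p.1.2.iso]
      simp [ext', q.2, not_lt.2 q.2.le]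
    refine Prod.ext (Subtype.ext ?_) hcor
    show shift (cor (shift p.2 p.1.1)) (shift p.2 p.1.1) = p.1.1
    rw [hcor, hshift2]

/-- The centraliser order, given one frame. -/
theorem card_cent_mul [Finite F] (hB : B.Nondegenerate) (hA : B.IsAlt) (hN : IsMov B N)
    {u₀ : ι → V} (h₀ : Frame B N σ u₀) {r : ℕ} (hr : finrank F V = 2 * Fintype.card ι + 2 * r) :
    Nat.card (Cent B N) * Nat.card F ^ (Fintype.card ι * (Fintype.card ι - 1) / 2) =
      Nat.card (CoordIso F σ) * Nat.card F ^ ((Fintype.card ι + 2 * r) * Fintype.card ι) *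
        spOrder (Nat.card F) r := by
  classical
  rw [card_cent_eq hB hA hN h₀, card_frame_fix hB hA hN h₀ hr, mul_right_comm,
    card_frames_mul hA hN h₀.invol (h₀.finrank_range hN), Nat.card_congr (gramEquiv hA hN h₀),
    Nat.card_prod, Nat.card_fun, Module.natCard_eq_pow_finrank (K := F) (V := LinearMap.ker N),
    ← pow_mul, Nat.card_eq_fintype_card (α := ι)]
  congr 3
  have h1 := LinearMap.finrank_range_add_finrank_ker N
  have h2 := h₀.finrank_range hN
  have : finrank F (LinearMap.ker N) = Fintype.card ι + 2 * r := by omega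
  rw [this]

end CfsgLib.InvolTwo
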