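import Mathlib

/-! Counting conjugacy classes of involutions through representatives. -/

set_option autoImplicit false

namespace CfsgLib.InvolTwo

variable {G : Type*} [Group G]

/-- Representatives, pairwise non-conjugate and complete, count the classes of involutions. -/
theorem card_invol_classes {I : Type*} (f : I → G) (hf : ∀ i, orderOf (f i) = 2)
    (hinj : ∀ i j, IsConj (f i) (f j) → i = j)
    (hsurj : ∀ g : G, orderOf g = 2 → ∃ i, IsConj g (f i)) :
    Nat.card {C : ConjClasses G // ∃ g : G, ConjClasses.mk g = C ∧ orderOf g = 2} = Nat.card I := by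
  refine (Nat.card_congr (Equiv.ofBijective (fun i => (⟨ConjClasses.mk (f i), f i, rfl, hf i⟩ :
    {C : ConjClasses G // ∃ g : G, ConjClasses.mk g = C ∧ orderOf g = 2})) ⟨fun i j h => ?_, ?_⟩)).symm
  · exact hinj i j (ConjClasses.mk_eq_mk_iff_isConj.1 (congrArg Subtype.val h))
  · rintro ⟨C, g, rfl, hg⟩
    obtain ⟨i, hi⟩ := hsurj g hg
    exact ⟨i, Subtype.ext (ConjClasses.mk_eq_mk_iff_isConj.2 hi.symm)⟩

theorem sq_eq_one_of_orderOf {a : G} (ha : orderOf a = 2) : a * a = 1 := by
  have := pow_orderOf_eq_one a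
  rwa [ha, sq] at this

theorem orderOf_eq_two {a : G} (h : a * a = 1) (h1 : a ≠ 1) : orderOf a = 2 :=
  orderOf_eq_prime (by rw [sq, h]) h1

theorem ne_one_of_orderOf {a : G} (ha : orderOf a = 2) : a ≠ 1 := fun h => by
  rw [h, orderOf_one] at ha
  exact absurd ha (by norm_num)

end CfsgLib.InvolTwo
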