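import Cfsg.Agent.Lib.InvolTwo.Isom

/-! Orthonormal and symplectic families of coordinates in characteristic two. -/

set_option autoImplicit false

namespace CfsgLib.InvolTwo

open Module

variable {F : Type*} [Field F] [CharP F 2]

/-- Coordinate arrays preserving the Gram pattern of `σ`. -/
abbrev CoordIso (F : Type*) [Field F] {ι : Type} [Fintype ι] [DecidableEq ι] (σ : ι → ι) : Type _ :=
  {A : ι → ι → F // ∀ i j, ∑ k, A i k * A j (σ k) = if j = σ i then 1 else 0}

theorem card_coordIso_swap [Finite F] (k : ℕ) :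
    Nat.card (CoordIso F (Sum.swap : Fin k ⊕ Fin k → Fin k ⊕ Fin k)) = spOrder (Nat.card F) k := by
  classical
  have hJ : ∀ l l' : Fin k ⊕ Fin k,
      Matrix.J (Fin k) F l l' = if l' = Sum.swap l then 1 else 0 := by
    rintro (l | l) (l' | l') <;> simp [Matrix.J, Matrix.one_apply, CharTwo.neg_eq, eq_comm]
  have hmul : ∀ (A : Matrix (Fin k ⊕ Fin k) (Fin k ⊕ Fin k) F) (i j : Fin k ⊕ Fin k),
      (A * Matrix.J (Fin k) F * A.transpose) i j = ∑ l, A i l * A j (Sum.swap l) := fun A i j => by
    rw [Matrix.mul_assoc]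
    simp [Matrix.mul_apply, hJ]
  have e : CoordIso F (Sum.swap : Fin k ⊕ Fin k → Fin k ⊕ Fin k) ≃ Matrix.symplecticGroup (Fin k) F :=
    Equiv.subtypeEquiv Matrix.of fun A => by
      show _ ↔ Matrix.of A ∈ Matrix.symplecticGroup (Fin k) F
      rw [SymplecticGroup.mem_iff]
      constructor
      · intro h
        ext i j
        rw [hmul, hJ]
        exact h i j
      · intro h i j
        have := congrFun (congrFun h i) j
        rw [hmul, hJ] at this
        exact this
  have hc := Classical.card_symplecticGroup (l := Fin k) (F := F)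
  rw [Fintype.card_fin] at hc
  rw [Nat.card_congr e, hc, spOrder_eq_range]

variable (n : ℕ) (F)

/-- The dot product. -/
def dotForm : LinearMap.BilinForm F (Fin n → F) :=
  LinearMap.mk₂ F (fun x y => ∑ i, x i * y i)
    (fun a b v => by simp [add_mul, Finset.sum_add_distrib])
    (fun c a v => by simp [Finset.mul_sum, mul_assoc])
    (fun u a b => by simp [mul_add, Finset.sum_add_distrib])
    (fun c u a => by simp [Finset.mul_sum, mul_left_comm])

variable {n F}

omit [CharP F 2] in
theorem dotForm_apply (x y : Fin n → F) : dotForm F n x y = ∑ i, x i * y i := rfl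

omit [CharP F 2] in
theorem dotForm_comm (x y : Fin n → F) : dotForm F n x y = dotForm F n y x := by
  simp [dotForm_apply, mul_comm]

theorem dotForm_self (x : Fin n → F) : dotForm F n x x = (∑ i, x i) ^ 2 := by
  simp only [dotForm_apply, ← sq]
  exact (CharTwo.sum_sq _ _).symm

omit [CharP F 2] in
theorem dotForm_one (x : Fin n → F) : dotForm F n x 1 = ∑ i, x i := by simp [dotForm_apply]

omit [CharP F 2] in
theorem dotForm_sep (x : Fin n → F) (h : ∀ y, dotForm F n x y = 0) : x = 0 :=
  funext fun i => by simpa [dotForm_apply, Pi.single_apply] using h (Pi.single i 1)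

omit [CharP F 2] in
theorem card_coordIso_id : Nat.card (CoordIso F (id : Fin n → Fin n)) = Nat.card (Isom (dotForm F n)) := by
  classical
  refine (Nat.card_congr (Equiv.ofBijective (fun g : Isom (dotForm F n) =>
    (⟨fun i => g.1 (Pi.single i 1), fun i j => ?_⟩ : CoordIso F (id : Fin n → Fin n)))
    ⟨fun g g' h => ?_, fun A => ?_⟩)).symm
  · simp only [id]
    rw [← dotForm_apply, g.2, dotForm_apply]
    simp [Pi.single_apply, eq_comm]
  · refine Subtype.ext ((Pi.basisFun F (Fin n)).ext' fun i => ?_)
    simpa using congrFun (congrArg Subtype.val h) i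
  · let f := (Pi.basisFun F (Fin n)).constr F A.1
    have hf : ∀ i, f (Pi.single i 1) = A.1 i := fun i => by
      rw [← Pi.basisFun_apply]
      exact (Pi.basisFun F (Fin n)).constr_basis F A.1 i
    have hpres : ∀ x y, dotForm F n (f x) (f y) = dotForm F n x y := by
      have : (dotForm F n).comp f f = dotForm F n :=
        LinearMap.BilinForm.ext_basis (Pi.basisFun F (Fin n)) fun i j => by
          rw [LinearMap.BilinForm.comp_apply, Pi.basisFun_apply, Pi.basisFun_apply, hf, hf,
            dotForm_apply, dotForm_apply]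
          have := A.2 i j
          simp only [id] at this
          rw [this]
          simp [Pi.single_apply, eq_comm]
      exact fun x y => LinearMap.congr_fun₂ this x y
    refine ⟨⟨Geometry.isoOfPreserves (dotForm F n) dotForm_sep f hpres, fun x y => hpres x y⟩,
      Subtype.ext (funext fun i => ?_)⟩
    exact hf i

theorem fix_one (g : Isom (dotForm F n)) : g.1 1 = 1 := by
  have hsum : ∀ x, (∑ i, g.1 x i) = ∑ i, x i := fun x =>
    CharTwo.sq_injective (show (∑ i, g.1 x i) ^ 2 = (∑ i, x i) ^ 2 by
      rw [← dotForm_self, g.2, dotForm_self])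
  refine (sub_eq_zero.1 (dotForm_sep _ fun y => ?_))
  obtain ⟨x, rfl⟩ := g.1.surjective y
  rw [map_sub, LinearMap.sub_apply, g.2, dotForm_comm 1 (g.1 x), dotForm_one, hsum,
    dotForm_comm 1 x, dotForm_one, sub_self]

variable [Finite F]

theorem spOrder_succ (q k : ℕ) :
    spOrder q (k + 1) = q ^ (2 * k + 1) * spOrder q k * (q ^ (2 * (k + 1)) - 1) := by
  rw [spOrder, spOrder, Fin.prod_univ_castSucc]
  simp only [Fin.val_castSucc, Fin.val_last]
  ring

theorem card_isom_dot_even (k : ℕ) :
    Nat.card (Isom (dotForm F (2 * k + 2))) = Nat.card F ^ (2 * k + 1) * spOrder (Nat.card F) k := by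
  classical
  set n := 2 * k + 2
  haveI := Fintype.ofFinite F
  have hn : (n : F) = 0 := by
    simp only [n, Nat.cast_add, Nat.cast_mul, Nat.cast_ofNat, CharTwo.two_eq_zero, zero_mul, add_zero]
  let d : Fin n → F := 1
  let β : LinearMap.BilinForm F (Fin n → F) :=
    dotForm F n + LinearMap.mk₂ F (fun x y => (∑ i, x i) * ∑ i, y i)
      (fun a b v => by simp [Finset.sum_add_distrib, add_mul])
      (fun c a v => by simp [← Finset.mul_sum, mul_assoc])
      (fun u a b => by simp [Finset.sum_add_distrib, mul_add])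
      (fun c u a => by simp [← Finset.mul_sum, mul_left_comm])
  have hβ : ∀ x y, β x y = dotForm F n x y + (∑ i, x i) * ∑ i, y i := fun x y => rfl
  have hA : β.IsAlt := fun x => by rw [hβ, dotForm_self, sq, CharTwo.add_self_eq_zero]
  have hsep : ∀ x, (∀ y, β x y = 0) → x = 0 := fun x hx => by
    have hj : ∀ j, x j = ∑ i, x i := fun j => by
      have := hx (Pi.single j 1)
      rw [hβ, dotForm_apply] at this
      simp [Pi.single_apply] at this
      rw [add_eq_zero_iff_eq_neg, CharTwo.neg_eq] at this
      exact this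
    have h0 : ∑ i, x i = 0 := by
      calc ∑ i, x i = ∑ _i : Fin n, ∑ l, x l := Finset.sum_congr rfl fun i _ => hj i
        _ = 0 := by simp [hn]
    exact funext fun j => by rw [hj, h0]; rfl
  have hB : β.Nondegenerate := hA.isRefl.nondegenerate_iff_separatingLeft.2 hsep
  have hβd : ∀ x, β x d = ∑ i, x i := fun x => by
    rw [hβ, dotForm_one]
    simp [d, hn]
  have e : {g : Isom β // g.1 d = d} ≃ Isom (dotForm F n) :=
    { toFun := fun g => ⟨g.1.1, fun x y => by
        have hs : ∀ z, (∑ i, g.1.1 z i) = ∑ i, z i := fun z => by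
          rw [← hβd, ← hβd, ← g.1.2 z d, g.2]
        have := g.1.2 x y
        rwa [hβ, hβ, hs, hs, add_left_inj] at this⟩
      invFun := fun g => ⟨⟨g.1, fun x y => by
        rw [hβ, hβ, g.2, show (∑ i, g.1 x i) = ∑ i, x i by
          rw [← dotForm_one, ← dotForm_one, ← g.2 x 1, fix_one],
          show (∑ i, g.1 y i) = ∑ i, y i by
          rw [← dotForm_one, ← dotForm_one, ← g.2 y 1, fix_one]]⟩, fix_one g⟩
      left_inv := fun _ => rfl
      right_inv := fun _ => rfl }
  have h1 := card_fix_vector hB hA (d := d) (fun h => one_ne_zero (congrFun h ⟨0, by omega⟩))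
  have hk : finrank F (Fin n → F) = 2 * (k + 1) := by simp [n]; omega
  rw [Nat.card_congr e, card_isom_alt hA hsep hk, spOrder_succ, Nat.card_fun,
    Nat.card_eq_fintype_card (α := Fin n), Fintype.card_fin, show n = 2 * (k + 1) by omega] at h1
  refine Nat.eq_of_mul_eq_mul_right ?_ h1
  exact Nat.sub_pos_of_lt (Nat.one_lt_pow (by omega) Finite.one_lt_card)

theorem card_isom_dot_odd (k : ℕ) :
    Nat.card (Isom (dotForm F (2 * k + 1))) = spOrder (Nat.card F) k := by
  classical
  set n := 2 * k + 1
  have hn : (n : F) = 1 := by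
    simp only [n, Nat.cast_add, Nat.cast_mul, Nat.cast_ofNat, CharTwo.two_eq_zero, zero_mul, zero_add,
      Nat.cast_one]
  let v : Unit → (Fin n → F) := fun _ => 1
  let π : (Fin n → F) →ₗ[F] (Fin n → F) :=
    LinearMap.id + ((dotForm F n).flip 1).smulRight (1 : Fin n → F)
  have hπx : ∀ x, π x = x + (∑ i, x i) • (1 : Fin n → F) := fun x => by
    simp [π, dotForm_one]
  have hd1 : dotForm F n (1 : Fin n → F) 1 = 1 := by
    rw [dotForm_one]; simp [hn]
  have hπ : ∀ x, π x ∈ perpFam v (dotForm F n) := fun x => (mem_perpFam v).2 fun _ => by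
    show dotForm F n (π x) 1 = 0
    rw [hπx, map_add, map_smul, LinearMap.add_apply, LinearMap.smul_apply, hd1, smul_eq_mul, mul_one,
      dotForm_one, CharTwo.add_self_eq_zero]
  have hsub : ∀ x, x - π x ∈ Submodule.span F (Set.range v) := fun x => by
    rw [hπx, sub_add_cancel_left]
    exact Submodule.neg_mem _ (Submodule.smul_mem _ _ (Submodule.subset_span ⟨(), rfl⟩))
  have hnd : ∀ x ∈ perpFam v (dotForm F n), (∀ y ∈ perpFam v (dotForm F n), dotForm F n x y = 0) →
      x = 0 := fun x hx h => dotForm_sep x fun y => by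
    have hx1 : dotForm F n x 1 = 0 := (mem_perpFam v).1 hx ()
    have := h _ (hπ y)
    rw [hπx, map_add, map_smul, hx1, smul_zero, add_zero] at this
    exact this
  have e : {g : Isom (dotForm F n) // ∀ i, g.1 (v i) = v i} ≃ Isom (dotForm F n) :=
    Equiv.subtypeUnivEquiv fun g _ => fix_one g
  rw [← Nat.card_congr e, card_fix v π dotForm_comm hπ hsub hnd,
    card_isom_alt (B := (dotForm F n).restrict (perpFam v (dotForm F n)))
      (fun x => by
        show dotForm F n (x : Fin n → F) (x : Fin n → F) = 0
        rw [dotForm_self, show (∑ i, (x : Fin n → F) i) = 0 by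
          rw [← dotForm_one]; exact (mem_perpFam v).1 x.2 (), zero_pow two_ne_zero])
      (fun x h => Subtype.ext (hnd _ x.2 fun y hy => h ⟨y, hy⟩)) (k := k) ?_]
  have h := finrank_perpFam v π dotForm_comm hπ hsub hnd
  rw [Module.finrank_fintype_fun_eq_card, Fintype.card_fin, Set.range_const,
    finrank_span_singleton (fun h => one_ne_zero (congrFun h (⟨0, by omega⟩ : Fin n)))] at h
  omega

end CfsgLib.InvolTwo
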