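import Cfsg.Agent.Lib.Geometry.Alternating
import Cfsg.Agent.Lib.Geometry.SymplecticBasis

/-!
Involutive isometries of a non-degenerate alternating form in characteristic two: the map
`N = t - 1`, adapted frames, and classification by the rank and the type of `(u,v) ↦ B(u, N v)`.
-/

set_option autoImplicit false

namespace CfsgLib.InvolTwo

open Module

universe u v

variable {F : Type u} {V : Type v} [Field F] [AddCommGroup V] [Module F V]

/-- `N = t - 1` for an involutive isometry `t`. -/
structure IsMov (B : LinearMap.BilinForm F V) (N : V →ₗ[F] V) : Prop where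
  sq : ∀ v, N (N v) = 0
  adj : ∀ u v, B (N u) v = B u (N v)

/-- An adapted family for `N`. -/
structure Frame (B : LinearMap.BilinForm F V) (N : V →ₗ[F] V) {ι : Type} [DecidableEq ι]
    (σ : ι → ι) (u : ι → V) : Prop where
  invol : Function.Involutive σ
  gram : ∀ i j, B (u i) (N (u j)) = if j = σ i then 1 else 0
  iso : ∀ i j, B (u i) (u j) = 0
  resid : ∀ v, (∀ i, B (u i) (N v) = 0) → N v = 0

section CharTwo

variable [CharP F 2]

omit [Module F V] in
theorem two_eq_zero' : (1 : F) + 1 = 0 := CharTwo.add_self_eq_zero 1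

include F in
theorem add_self_vec (v : V) : v + v = 0 := by
  rw [← one_smul F v, ← add_smul, two_eq_zero', zero_smul]

include F in
theorem neg_vec (v : V) : -v = v :=
  neg_eq_of_add_eq_zero_left (add_self_vec (F := F) v)

include F in
theorem sub_vec (u v : V) : u - v = u + v := by rw [sub_eq_add_neg, neg_vec (F := F) v]

variable {B : LinearMap.BilinForm F V}

theorem alt_comm (hA : B.IsAlt) (u v : V) : B u v = B v u := by
  rw [← hA.neg_eq v u, CharTwo.neg_eq]

/-- `t - 1`. -/
def mov (t : V ≃ₗ[F] V) : V →ₗ[F] V := t.toLinearMap - LinearMap.id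

omit [CharP F 2] in
theorem mov_apply (t : V ≃ₗ[F] V) (v : V) : mov t v = t v - v := rfl

theorem apply_eq_add_mov (t : V ≃ₗ[F] V) (v : V) : t v = v + mov t v := by
  rw [mov_apply, add_sub_cancel]

theorem isMov_mov {t : V ≃ₗ[F] V} (ht : ∀ u v, B (t u) (t v) = B u v) (ht2 : ∀ v, t (t v) = v) :
    IsMov B (mov t) := by
  refine ⟨fun v => ?_, fun u v => ?_⟩
  · simp only [mov_apply, map_sub, ht2, sub_vec (F := F)]
    rw [map_add, ht2, add_comm (t v) v]
    exact add_self_vec (F := F) _
  · have : B (t u) v = B u (t v) := by rw [← ht (t u), ht2]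
    simp only [mov_apply, map_sub, LinearMap.sub_apply, this]

theorem comm_of_intertwine {g t t' : V ≃ₗ[F] V} (h : ∀ v, g (mov t v) = mov t' (g v)) (v : V) :
    g (t v) = t' (g v) := by
  rw [apply_eq_add_mov t, apply_eq_add_mov t', map_add, h]

section

variable {N : V →ₗ[F] V} (hN : IsMov B N)
include hN

omit [CharP F 2] in
theorem IsMov.orth_range (u v : V) : B (N u) (N v) = 0 := by rw [hN.adj, hN.sq, map_zero]

theorem IsMov.symm (hA : B.IsAlt) (u v : V) : B u (N v) = B v (N u) := by
  rw [← hN.adj, alt_comm hA]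

theorem IsMov.diag_add (hA : B.IsAlt) (u v : V) :
    B (u + v) (N (u + v)) = B u (N u) + B v (N v) := by
  simp only [map_add, LinearMap.add_apply, hN.symm hA u v]
  linear_combination B v (N u) * CharTwo.two_eq_zero (R := F)

omit [CharP F 2] in
theorem IsMov.diag_smul (c : F) (u : V) : B (c • u) (N (c • u)) = c ^ 2 * B u (N u) := by
  simp only [map_smul, LinearMap.smul_apply, smul_eq_mul]; ring

end

namespace Frame

variable {N : V →ₗ[F] V} {ι : Type} [DecidableEq ι] {σ : ι → ι} {u : ι → V}

omit [CharP F 2] in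
theorem gram' (h : Frame B N σ u) (hN : IsMov B N) (i j : ι) :
    B (N (u i)) (u j) = if j = σ i then 1 else 0 := by rw [hN.adj, h.gram]

omit [CharP F 2] in
theorem gram_ite (h : Frame B N σ u) (i j : ι) :
    B (u i) (N (u j)) = if i = σ j then 1 else 0 := by
  rw [h.gram]
  by_cases hj : j = σ i
  · rw [if_pos hj, if_pos (by rw [hj, h.invol i])]
  · rw [if_neg hj, if_neg fun hi => hj (by rw [hi, h.invol j])]

variable [Fintype ι]

omit [CharP F 2] in
theorem sum_gram (h : Frame B N σ u) (c : ι → F) (j : ι) :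
    ∑ i, c i * B (u i) (N (u j)) = c (σ j) := by
  simp [h.gram_ite]

omit [CharP F 2] in
theorem sum_gram' (h : Frame B N σ u) (hN : IsMov B N) (c : ι → F) (j : ι) :
    ∑ i, c i * B (N (u i)) (u j) = c (σ j) := by
  simp only [hN.adj]; exact h.sum_gram c j

omit [CharP F 2] in
theorem indep (h : Frame B N σ u) (hN : IsMov B N) :
    LinearIndependent F (Sum.elim u (fun i => N (u i))) := by
  rw [Fintype.linearIndependent_iff]
  intro g hg
  rw [Fintype.sum_sum_type] at hg
  have ha : ∀ i, g (Sum.inl i) = 0 := fun i => by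
    have := congrArg (fun x => B x (N (u (σ i)))) hg
    simp only [Sum.elim_inl, Sum.elim_inr, map_add, map_sum, map_smul, LinearMap.add_apply,
      LinearMap.sum_apply, LinearMap.smul_apply, smul_eq_mul, hN.orth_range, mul_zero,
      Finset.sum_const_zero, add_zero, map_zero, LinearMap.zero_apply] at this
    rwa [h.sum_gram (fun j => g (Sum.inl j)), h.invol] at this
  rintro (i | i)
  · exact ha i
  · have := congrArg (fun x => B x (u (σ i))) hg
    simp only [Sum.elim_inl, Sum.elim_inr, map_add, map_sum, map_smul, LinearMap.add_apply,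
      LinearMap.sum_apply, LinearMap.smul_apply, smul_eq_mul, h.iso, mul_zero,
      Finset.sum_const_zero, zero_add, map_zero, LinearMap.zero_apply] at this
    rwa [h.sum_gram' hN (fun j => g (Sum.inr j)), h.invol] at this

omit [CharP F 2] in
/-- Expansion of `v` along the frame. -/
theorem split (h : Frame B N σ u) (v : V) :
    N (v - ∑ i, B (u (σ i)) (N v) • u i) = 0 := by
  refine h.resid _ fun i => ?_
  simp only [map_sub, map_sum, map_smul, smul_eq_mul, h.gram]
  simp [h.invol i]

omit [CharP F 2] in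
theorem apply_eq_sum (h : Frame B N σ u) (v : V) :
    N v = ∑ i, B (u (σ i)) (N v) • N (u i) := by
  have := h.split v
  rwa [map_sub, map_sum, sub_eq_zero, Finset.sum_congr rfl fun i _ => map_smul N _ _] at this

omit [CharP F 2] in
theorem range_eq (h : Frame B N σ u) :
    LinearMap.range N = Submodule.span F (Set.range fun i => N (u i)) := by
  refine le_antisymm ?_ (Submodule.span_le.2 ?_)
  · rintro _ ⟨v, rfl⟩
    rw [h.apply_eq_sum v]
    exact Submodule.sum_mem _ fun i _ =>
      Submodule.smul_mem _ _ (Submodule.subset_span (Set.mem_range_self i))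
  · rintro _ ⟨i, rfl⟩
    exact LinearMap.mem_range_self N _

omit [CharP F 2] in
theorem finrank_range (h : Frame B N σ u) (hN : IsMov B N) :
    finrank F (LinearMap.range N) = Fintype.card ι := by
  rw [h.range_eq, finrank_span_eq_card]
  exact (h.indep hN).comp Sum.inr Sum.inr_injective

theorem apply_eq_zero_iff (h : Frame B N σ u) (hN : IsMov B N) (hA : B.IsAlt) (z : V) :
    N z = 0 ↔ ∀ i, B z (N (u i)) = 0 := by
  refine ⟨fun hz i => by rw [← hN.adj, hz, map_zero, LinearMap.zero_apply], fun hz => ?_⟩
  exact h.resid z fun i => by rw [← hN.adj, alt_comm hA, hz]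

theorem gram_comm (h : Frame B N σ u) (hN : IsMov B N) (hA : B.IsAlt) (i j : ι) :
    B (u j) (N (u i)) = B (u i) (N (u j)) := hN.symm hA _ _

omit [CharP F 2] [Fintype ι] in
/-- Re-indexing a frame. -/
theorem reindex {κ : Type} [DecidableEq κ] (h : Frame B N σ u) (e : κ ≃ ι) :
    Frame B N (fun k => e.symm (σ (e k))) (fun k => u (e k)) :=
  ⟨fun k => by simp [h.invol (e k)], fun i j => by simp [h.gram, Equiv.eq_symm_apply],
    fun i j => h.iso _ _, fun v hv => h.resid v fun i => by simpa using hv (e.symm i)⟩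

omit [CharP F 2] in
/-- An isometry carrying one frame to another intertwines. -/
theorem intertwine {N' : V →ₗ[F] V} {u' : ι → V} (h : Frame B N σ u) (hN : IsMov B N)
    (h' : Frame B N' σ u') (hN' : IsMov B N') (hA : B.IsAlt) [CharP F 2] {g : V ≃ₗ[F] V}
    (hg : ∀ x y, B (g x) (g y) = B x y) (hu : ∀ i, g (u i) = u' i)
    (hw : ∀ i, g (N (u i)) = N' (u' i)) (v : V) : g (N v) = N' (g v) := by
  set z := v - ∑ i, B (u (σ i)) (N v) • u i with hz
  have hzN : N z = 0 := h.split v
  have hv : v = (∑ i, B (u (σ i)) (N v) • u i) + z := by rw [hz, add_sub_cancel]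
  have hgz : N' (g z) = 0 := (h'.apply_eq_zero_iff hN' hA _).2 fun i => by
    rw [← hw, hg, (h.apply_eq_zero_iff hN hA z).1 hzN]
  rw [hv]
  simp [map_add, map_sum, map_smul, hzN, hgz, hu, hw]

end Frame

end CharTwo

end CfsgLib.InvolTwo
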