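import Cfsg.Agent.Lib.InvolTwo.Frames
import Cfsg.Agent.Lib.Geometry.Quadratic

/-! The sign sum `∑ ψ(Q v)` of a quadratic form in characteristic two. -/

set_option autoImplicit false

namespace CfsgLib.InvolTwo

open QuadraticMap

variable (F : Type*) [Field F] [CharP F 2]

/-- `x ↦ x² + x`. -/
def asMap : F →+ F :=
  AddMonoidHom.mk' (fun x => x ^ 2 + x) fun x y => by rw [CharTwo.add_sq]; ring

variable {F}

theorem asMap_apply (x : F) : asMap F x = x ^ 2 + x := rfl

theorem index_asMap [Finite F] : (asMap F).range.index = 2 := by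
  classical
  have hker : Nat.card (asMap F).ker = 2 := by
    have hset : ((asMap F).ker : Set F) = {0, 1} := by
      ext x
      simp only [SetLike.mem_coe, AddMonoidHom.mem_ker, asMap_apply, Set.mem_insert_iff,
        Set.mem_singleton_iff]
      rw [show x ^ 2 + x = x * (x + 1) by ring, mul_eq_zero, add_eq_zero_iff_eq_neg,
        CharTwo.neg_eq]
    rw [← SetLike.coe_sort_coe, Nat.card_coe_set_eq, hset, Set.ncard_pair zero_ne_one]
  have h1 := AddSubgroup.card_mul_index (asMap F).ker
  have h2 := AddSubgroup.card_mul_index (asMap F).range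
  rw [AddSubgroup.index_ker, hker] at h1
  have hpos : 0 < Nat.card (asMap F).range := Nat.card_pos
  nlinarith

open Classical in
/-- The sign character with kernel `{x² + x}`. -/
noncomputable def psi (a : F) : ℤ := if a ∈ (asMap F).range then 1 else -1

theorem psi_eq_one_iff (a : F) : psi a = 1 ↔ ∃ y : F, y ^ 2 + y = a := by
  unfold psi
  split_ifs with h
  · exact iff_of_true rfl h
  · exact iff_of_false (by decide) h

theorem psi_eq (a : F) : psi a = 1 ∨ psi a = -1 := by
  unfold psi; split_ifs <;> simp

@[simp]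
theorem psi_zero : psi (0 : F) = 1 := (psi_eq_one_iff 0).2 ⟨0, by ring⟩

theorem psi_add [Finite F] (a b : F) : psi (a + b) = psi a * psi b := by
  have h := AddSubgroup.add_mem_iff_of_index_two (index_asMap (F := F)) (a := a) (b := b)
  unfold psi
  split_ifs <;> tauto

theorem psi_sq [Finite F] (a : F) : psi (a ^ 2) = psi a := by
  have h : psi (a ^ 2 + a) = 1 := (psi_eq_one_iff _).2 ⟨a, rfl⟩
  rw [psi_add] at h
  rcases psi_eq (a ^ 2) with h1 | h1 <;> rcases psi_eq a with h2 | h2 <;>
    simp only [h1, h2] at h ⊢ <;> omega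

theorem exists_psi_neg [Finite F] : ∃ a : F, psi a = -1 := by
  by_contra hcon
  push Not at hcon
  have : (asMap F).range = ⊤ := (AddSubgroup.eq_top_iff' _).2 fun a =>
    (psi_eq_one_iff a).1 ((psi_eq a).resolve_right (hcon a))
  have h := index_asMap (F := F)
  rw [this, AddSubgroup.index_top] at h
  omega

variable {V : Type*} [AddCommGroup V] [Module F V] [Finite F]

theorem sum_psi_linear [Fintype V] {f : V →ₗ[F] F} (hf : f ≠ 0) : ∑ v, psi (f v) = 0 := by
  classical
  obtain ⟨a, ha⟩ := exists_psi_neg (F := F)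
  obtain ⟨w, hw⟩ : ∃ w, f w = a := by
    obtain ⟨w, hw⟩ : ∃ w, f w ≠ 0 := by
      by_contra h
      push Not at h
      exact hf (LinearMap.ext h)
    exact ⟨(a / f w) • w, by rw [map_smul, smul_eq_mul, div_mul_cancel₀ a hw]⟩
  have h := Equiv.sum_comp (Equiv.addRight w) fun v => psi (f v)
  simp only [Equiv.coe_addRight, map_add, psi_add, hw, ha, mul_neg_one, Finset.sum_neg_distrib] at h
  omega

/-- `∑ ψ(Q v)`. -/
noncomputable def gauss [Fintype V] (Q : QuadraticForm F V) : ℤ := ∑ v, psi (Q v)

theorem gauss_sq [Fintype V] {Q : QuadraticForm F V} (hQ : (polarBilin Q).Nondegenerate) :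
    gauss Q * gauss Q = Fintype.card V := by
  classical
  have h1 : gauss Q * gauss Q = ∑ x, psi (Q x) * ∑ v, psi (polarBilin Q x v) := by
    calc gauss Q * gauss Q = ∑ v, ∑ w, psi (Q v) * psi (Q w) := Finset.sum_mul_sum _ _ _ _
      _ = ∑ v, ∑ x, psi (Q v) * psi (Q (x + v)) :=
          Finset.sum_congr rfl fun v _ =>
            (Equiv.sum_comp (Equiv.addRight v) fun w => psi (Q v) * psi (Q w)).symm
      _ = _ := by
          rw [Finset.sum_comm]
          refine Finset.sum_congr rfl fun x _ => ?_
          rw [Finset.mul_sum]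
          refine Finset.sum_congr rfl fun v _ => ?_
          rw [← psi_add, ← psi_add, Geometry.map_add', polarBilin_apply_apply]
          congr 1
          linear_combination Q v * CharTwo.two_eq_zero (R := F)
  rw [h1, Finset.sum_eq_single 0 (fun x _ hx => ?_) (by simp)]
  · simp
  · rw [sum_psi_linear (fun h => hx (hQ.1 x fun y => LinearMap.congr_fun h y)), mul_zero]

theorem gauss_ne_zero [Fintype V] {Q : QuadraticForm F V} (hQ : (polarBilin Q).Nondegenerate) :
    gauss Q ≠ 0 := fun h => by
  have := gauss_sq hQ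
  rw [h, zero_mul] at this
  exact Fintype.card_ne_zero (α := V) (Nat.cast_eq_zero.1 this.symm)

/-- Twisting by the square of a linear functional. -/
theorem sum_psi_twist [Fintype V] (Q : QuadraticForm F V) (a : V) :
    ∑ v, psi (Q v + polar Q a v ^ 2) = psi (Q a) * gauss Q := by
  classical
  rw [gauss, Finset.mul_sum, ← Equiv.sum_comp (Equiv.addRight a) fun v => psi (Q a) * psi (Q v)]
  refine Finset.sum_congr rfl fun v _ => ?_
  rw [Equiv.coe_addRight, psi_add, psi_sq, ← psi_add, ← psi_add, Geometry.map_add',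
    polar_comm Q a v]
  congr 1
  linear_combination -Q a * CharTwo.two_eq_zero (R := F)

/-- The sum localises on the orthogonal of a totally singular subspace. -/
theorem gauss_eq_sum_perp [Fintype V] {Q : QuadraticForm F V} (X : Submodule F V)
    (hX : ∀ x ∈ X, Q x = 0) [DecidablePred fun v : V => ∀ x ∈ X, polar Q v x = 0] :
    gauss Q = ∑ v ∈ Finset.univ.filter (fun v : V => ∀ x ∈ X, polar Q v x = 0), psi (Q v) := by
  classical
  have hcard : (Fintype.card X : ℤ) ≠ 0 := Nat.cast_ne_zero.2 Fintype.card_ne_zero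
  refine mul_left_cancel₀ hcard ?_
  calc (Fintype.card X : ℤ) * gauss Q = ∑ x : X, ∑ v, psi (Q (v + (x : V))) := by
        have e : ∀ x : X, ∑ v, psi (Q (v + (x : V))) = gauss Q := fun x =>
          Equiv.sum_comp (Equiv.addRight (x : V)) fun v => psi (Q v)
        simp [e]
    _ = ∑ v, psi (Q v) * ∑ x : X, psi (((polarBilin Q v).comp X.subtype) x) := by
        rw [Finset.sum_comm]
        refine Finset.sum_congr rfl fun v _ => ?_
        rw [Finset.mul_sum]
        refine Finset.sum_congr rfl fun x _ => ?_
        rw [← psi_add, Geometry.map_add', hX x x.2, add_zero]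
        rfl
    _ = _ := by
        rw [Finset.mul_sum, Finset.sum_filter]
        refine Finset.sum_congr rfl fun v _ => ?_
        have : ((polarBilin Q v).comp X.subtype = 0) ↔ ∀ x ∈ X, polar Q v x = 0 :=
          ⟨fun h x hx => LinearMap.congr_fun h ⟨x, hx⟩, fun h => LinearMap.ext fun x => h x x.2⟩
        by_cases hv : ∀ x ∈ X, polar Q v x = 0
        · rw [if_pos hv, this.2 hv]
          simp [mul_comm]
        · rw [if_neg hv, sum_psi_linear (fun h => hv (this.1 h)), mul_zero]

end CfsgLib.InvolTwo
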