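import Cfsg.Agent.Lib.InvolTwo.Normal
import Cfsg.Agent.Lib.Geometry.Symplectic
import Cfsg.Agent.Lib.Geometry.AltInvolutions
import Cfsg.Agent.Lib.Classical.SympOrder

/-! Orders of isometry groups: fixing a non-degenerate family, symplectic forms, dot product. -/

set_option autoImplicit false

namespace CfsgLib.InvolTwo

open Module

universe u v

variable {F : Type u} {V : Type v} [Field F] [AddCommGroup V] [Module F V] [FiniteDimensional F V]

/-- The isometries of a bilinear form. -/
abbrev Isom (B : LinearMap.BilinForm F V) : Type v :=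
  {g : V ≃ₗ[F] V // ∀ x y, B (g x) (g y) = B x y}

/-- The order of `Sp_{2k}(q)`. -/
def spOrder (q k : ℕ) : ℕ := q ^ (k ^ 2) * ∏ i : Fin k, (q ^ (2 * ((i : ℕ) + 1)) - 1)

theorem spOrder_eq_range (q k : ℕ) :
    q ^ (k ^ 2) * ∏ i ∈ Finset.range k, (q ^ (2 * (i + 1)) - 1) = spOrder q k := by
  rw [spOrder, Fin.prod_univ_eq_prod_range fun i => q ^ (2 * (i + 1)) - 1]

/-- A non-degenerate alternating form has the standard isometry group. -/
theorem card_isom_alt [Finite F] {B : LinearMap.BilinForm F V} (hA : B.IsAlt)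
    (hnd : ∀ x, (∀ y, B x y = 0) → x = 0) {k : ℕ} (hk : finrank F V = 2 * k) :
    Nat.card (Isom B) = spOrder (Nat.card F) k := by
  obtain ⟨n, b, h1, h2, h3⟩ := Geometry.exists_sympBasis_of_nondeg hA (⊤ : Submodule F V)
    fun x _ h => hnd x fun y => h y trivial
  obtain rfl : n = k := by
    have := finrank_eq_card_basis b
    rw [finrank_top, hk] at this
    simp at this
    omega
  let bV : Basis (Fin n ⊕ Fin n) F V := (b.map Submodule.topEquiv).reindex (Equiv.sumComm _ _)
  have hb : ∀ i, bV i = (b (Sum.swap i) : V) := fun i => by simp [bV]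
  let φ : V ≃ₗ[F] (Fin n ⊕ Fin n → F) := bV.equivFun
  have hφ : ∀ x y, Cfsg.sympForm n F (φ x) (φ y) = B x y := by
    have : (Geometry.sympBilin n F).comp φ.toLinearMap φ.toLinearMap = B := by
      refine LinearMap.BilinForm.ext_basis bV fun i j => ?_
      have e : ∀ i, φ (bV i) = Pi.single i 1 := fun i => by
        exact funext fun j => by simp [φ, Pi.single_apply, Finsupp.single_apply, eq_comm]
      simp only [LinearMap.BilinForm.comp_apply, LinearEquiv.coe_coe, e,
        Geometry.sympBilin_apply, Geometry.sympForm_eq]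
      rcases i with i | i <;> rcases j with j | j <;>
        simp only [hb, Sum.swap_inl, Sum.swap_inr, h2, h3, h1]
      · simp
      · rw [← hA.neg_eq (b (Sum.inl j) : V), h1]
        simp [Pi.single_apply, eq_comm]
      · simp [Pi.single_apply, eq_comm]
      · simp
    intro x y
    rw [← this]
    rfl
  have e : Isom B ≃ {g : (Fin n ⊕ Fin n → F) ≃ₗ[F] (Fin n ⊕ Fin n → F) //
      ∀ x y, Cfsg.sympForm n F (g x) (g y) = Cfsg.sympForm n F x y} :=
    { toFun := fun g => ⟨(φ.symm.trans g.1).trans φ, fun x y => by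
        simp only [LinearEquiv.trans_apply, hφ, g.2]
        rw [← hφ, LinearEquiv.apply_symm_apply, LinearEquiv.apply_symm_apply]⟩
      invFun := fun g => ⟨(φ.trans g.1).trans φ.symm, fun x y => by
        simp only [LinearEquiv.trans_apply]
        rw [← hφ, LinearEquiv.apply_symm_apply, LinearEquiv.apply_symm_apply, g.2, hφ]⟩
      left_inv := fun g => Subtype.ext (LinearEquiv.ext fun x => by simp)
      right_inv := fun g => Subtype.ext (LinearEquiv.ext fun x => by simp) }
  have hc := Classical.card_symplecticGroup (l := Fin n) (F := F)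
  rw [Fintype.card_fin] at hc
  rw [Nat.card_congr e, ← spOrder_eq_range, ← hc]
  refine (Nat.card_congr (Equiv.ofBijective (fun A => ⟨Geometry.spEquiv n F A,
    fun x y => (Geometry.mem_sp_iff n F _).1 A.2 x y⟩) ⟨fun A C h =>
      Geometry.spEquiv_injective n F (congrArg Subtype.val h), fun g => ?_⟩)).symm
  obtain ⟨A, hA⟩ := Geometry.exists_spEquiv_eq n F g.1 fun x y => g.2 x y
  exact ⟨A, Subtype.ext hA⟩

section Fix

variable {B : LinearMap.BilinForm F V} {κ : Type} (v : κ → V)

/-- The orthogonal of a family. -/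
def perpFam (B : LinearMap.BilinForm F V) : Submodule F V :=
  ⨅ i, LinearMap.ker (B.flip (v i))

omit [FiniteDimensional F V] in
theorem mem_perpFam {x : V} : x ∈ perpFam v B ↔ ∀ i, B x (v i) = 0 := by
  simp [perpFam, Submodule.mem_iInf]

omit [FiniteDimensional F V] in
theorem perp_span (hs : ∀ x y, B x y = B y x) {x z : V} (hx : x ∈ perpFam v B)
    (hz : z ∈ Submodule.span F (Set.range v)) : B z x = 0 := by
  have hle : Submodule.span F (Set.range v) ≤ LinearMap.ker (B x) :=
    Submodule.span_le.2 (by rintro _ ⟨i, rfl⟩; exact (mem_perpFam v).1 hx i)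
  rw [hs]
  exact hle hz

variable (π : V →ₗ[F] V)

omit [FiniteDimensional F V] in
theorem proj_self (hs : ∀ x y, B x y = B y x) (hπ : ∀ x, π x ∈ perpFam v B)
    (hsub : ∀ x, x - π x ∈ Submodule.span F (Set.range v))
    (hnd : ∀ x ∈ perpFam v B, (∀ y ∈ perpFam v B, B x y = 0) → x = 0) {x : V}
    (hx : x ∈ perpFam v B) : π x = x :=
  (sub_eq_zero.1 (hnd _ (Submodule.sub_mem _ hx (hπ x)) fun _ hy =>
    perp_span v hs hy (hsub x))).symm

omit [FiniteDimensional F V] in
theorem proj_span (hs : ∀ x y, B x y = B y x) (hπ : ∀ x, π x ∈ perpFam v B)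
    (hsub : ∀ x, x - π x ∈ Submodule.span F (Set.range v))
    (hnd : ∀ x ∈ perpFam v B, (∀ y ∈ perpFam v B, B x y = 0) → x = 0) {x : V}
    (hx : x ∈ Submodule.span F (Set.range v)) : π x = 0 :=
  hnd _ (hπ x) fun _ hy => perp_span v hs hy (by
    simpa using Submodule.sub_mem _ hx (hsub x))

/-- Rank of the orthogonal of the family. -/
theorem finrank_perpFam (hs : ∀ x y, B x y = B y x) (hπ : ∀ x, π x ∈ perpFam v B)
    (hsub : ∀ x, x - π x ∈ Submodule.span F (Set.range v))
    (hnd : ∀ x ∈ perpFam v B, (∀ y ∈ perpFam v B, B x y = 0) → x = 0) :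
    finrank F (perpFam v B) + finrank F (Submodule.span F (Set.range v)) = finrank F V := by
  have h1 : LinearMap.range π = perpFam v B :=
    le_antisymm (by rintro _ ⟨x, rfl⟩; exact hπ x)
      fun x hx => ⟨x, proj_self v π hs hπ hsub hnd hx⟩
  have h2 : LinearMap.ker π = Submodule.span F (Set.range v) :=
    le_antisymm (fun x hx => by simpa [LinearMap.mem_ker.1 hx] using hsub x)
      fun x hx => proj_span v π hs hπ hsub hnd hx
  rw [← h1, ← h2]
  exact LinearMap.finrank_range_add_finrank_ker π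

/-- Isometries fixing the family are the isometries of its orthogonal. -/
theorem card_fix (hs : ∀ x y, B x y = B y x) (hπ : ∀ x, π x ∈ perpFam v B)
    (hsub : ∀ x, x - π x ∈ Submodule.span F (Set.range v))
    (hnd : ∀ x ∈ perpFam v B, (∀ y ∈ perpFam v B, B x y = 0) → x = 0) :
    Nat.card {g : Isom B // ∀ i, g.1 (v i) = v i} = Nat.card (Isom (B.restrict (perpFam v B))) := by
  set R := perpFam v B
  have hspan : ∀ g : {g : Isom B // ∀ i, g.1 (v i) = v i},
      ∀ x ∈ Submodule.span F (Set.range v), g.1.1 x = x := fun g x hx => by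
    induction hx using Submodule.span_induction with
    | mem x hx => obtain ⟨i, rfl⟩ := hx; exact g.2 i
    | zero => simp
    | add x y _ _ hx hy => rw [map_add, hx, hy]
    | smul c x _ hx => rw [map_smul, hx]
  have hmap : ∀ g : {g : Isom B // ∀ i, g.1 (v i) = v i}, ∀ x ∈ R, g.1.1 x ∈ R := fun g x hx =>
    (mem_perpFam v).2 fun i => by
      rw [← g.2 i, g.1.2]; exact (mem_perpFam v).1 hx i
  have hdec : ∀ x, x = (x - π x) + π x := fun x => by rw [sub_add_cancel]
  have hBsplit : ∀ x y, B x y = B (x - π x) (y - π y) + B (π x) (π y) := fun x y => by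
    conv_lhs => rw [hdec x, hdec y]
    simp only [map_add, LinearMap.add_apply, perp_span v hs (hπ y) (hsub x),
      hs (π x) (y - π y), perp_span v hs (hπ x) (hsub y)]
    ring
  let fwd : {g : Isom B // ∀ i, g.1 (v i) = v i} → Isom (B.restrict R) := fun g =>
    ⟨LinearEquiv.ofInjectiveEndo (g.1.1.toLinearMap.restrict (hmap g))
      (fun x y h => Subtype.ext (g.1.1.injective (congrArg Subtype.val h))),
      fun x y => g.1.2 x y⟩
  refine Nat.card_congr (Equiv.ofBijective fwd ⟨fun g g' h => ?_, fun h => ?_⟩)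
  · have h' : ∀ x : R, g.1.1 x = g'.1.1 x := fun x =>
      congrArg (fun k : Isom (B.restrict R) => (k.1 x : V)) h
    refine Subtype.ext (Subtype.ext (LinearEquiv.ext fun x => ?_))
    rw [hdec x, map_add, map_add, hspan g _ (hsub x), hspan g' _ (hsub x), h' ⟨π x, hπ x⟩]
  · let f : V →ₗ[F] V := (LinearMap.id - π) +
      R.subtype ∘ₗ h.1.toLinearMap ∘ₗ LinearMap.codRestrict R π hπ
    have hf : ∀ x, f x = (x - π x) + (h.1 ⟨π x, hπ x⟩ : V) := fun x => rfl
    have hfR : ∀ x : R, f x = (h.1 x : V) := fun x => by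
      rw [hf]
      simp [proj_self v π hs hπ hsub hnd x.2]
    have hfpres : ∀ x y, B (f x) (f y) = B x y := fun x y => by
      rw [hBsplit x y]
      simp only [hf, map_add, LinearMap.add_apply, perp_span v hs (h.1 ⟨π y, hπ y⟩).2 (hsub x),
        hs (h.1 ⟨π x, hπ x⟩ : V) (y - π y), perp_span v hs (h.1 ⟨π x, hπ x⟩).2 (hsub y)]
      rw [show B (h.1 ⟨π x, hπ x⟩ : V) (h.1 ⟨π y, hπ y⟩ : V) = B (π x) (π y) from h.2 _ _]
      ring
    have hfinj : Function.Injective f := by
      rw [injective_iff_map_eq_zero]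
      intro x hx
      have hz : π (f x) = 0 := by rw [hx, map_zero]
      rw [hf, map_add, proj_span v π hs hπ hsub hnd (hsub x),
        proj_self v π hs hπ hsub hnd (h.1 ⟨π x, hπ x⟩).2, zero_add, Submodule.coe_eq_zero,
        LinearEquiv.map_eq_zero_iff] at hz
      have hπx : π x = 0 := congrArg Subtype.val hz
      rw [hf, show (⟨π x, hπ x⟩ : R) = 0 from hz, map_zero, hπx] at hx
      simpa using hx
    refine ⟨⟨⟨LinearEquiv.ofInjectiveEndo f hfinj, hfpres⟩, fun i => ?_⟩, ?_⟩
    · show f (v i) = v i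
      have hvi := proj_span v π hs hπ hsub hnd (Submodule.subset_span (Set.mem_range_self i))
      rw [hf, show (⟨π (v i), hπ _⟩ : R) = 0 from Subtype.ext hvi, map_zero, hvi, sub_zero]
      simp
    · exact Subtype.ext (LinearEquiv.ext fun x => Subtype.ext (hfR x))

end Fix

/-- Isometries fixing a nonzero vector of a non-degenerate alternating space. -/
theorem card_fix_vector [Finite F] {B : LinearMap.BilinForm F V} (hB : B.Nondegenerate)
    (hA : B.IsAlt) {d : V} (hd : d ≠ 0) :
    Nat.card {g : Isom B // g.1 d = d} * (Nat.card V - 1) = Nat.card (Isom B) := by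
  classical
  have hV : Finite V := Module.finite_of_finite F
  haveI := Fintype.ofFinite V
  have hex : ∀ x : {x : V // x ≠ 0}, ∃ g : Isom B, g.1 d = x.1 := fun x => by
    obtain ⟨g, hg, hgv⟩ := Geometry.alt_extend hB hA (fun _ : Fin 1 => d) (fun _ : Fin 1 => x.1)
      (linearIndependent_unique_iff.2 hd) (linearIndependent_unique_iff.2 x.2)
      fun _ _ => by rw [hA.self_eq_zero, hA.self_eq_zero]
    exact ⟨⟨g, Geometry.altTransvGroup_preserves hA hg⟩, hgv 0⟩
  choose c hc using hex
  have hne : ∀ g : Isom B, g.1 d ≠ 0 := fun g h =>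
    hd ((LinearEquiv.map_eq_zero_iff g.1).1 h)
  let e : {g : Isom B // g.1 d = d} × {x : V // x ≠ 0} ≃ Isom B :=
    { toFun := fun p => ⟨(c p.2).1 * p.1.1.1, fun x y => ((c p.2).2 _ _).trans (p.1.1.2 x y)⟩
      invFun := fun g =>
        (⟨⟨(c ⟨g.1 d, hne g⟩).1⁻¹ * g.1, fun x y => by
          rw [← (c ⟨g.1 d, hne g⟩).2]
          simp [g.2]⟩, by
            show (c ⟨g.1 d, hne g⟩).1.symm (g.1 d) = d
            rw [LinearEquiv.symm_apply_eq, hc]⟩, ⟨g.1 d, hne g⟩)
      left_inv := fun p => by
        obtain ⟨⟨⟨g, hg⟩, hgd⟩, x⟩ := p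
        have hx : (⟨((c x).1 * g) d, hne ⟨(c x).1 * g, fun a b => ((c x).2 _ _).trans (hg a b)⟩⟩ :
            {x : V // x ≠ 0}) = x := Subtype.ext (by
          show (c x).1 (g d) = x.1
          rw [show g d = d from hgd, hc])
        refine Prod.ext (Subtype.ext (Subtype.ext ?_)) hx
        simp only [hx]
        group
      right_inv := fun g => Subtype.ext (by group) }
  rw [← Nat.card_congr e, Nat.card_prod]
  congr 1
  rw [Nat.card_eq_fintype_card, Nat.card_eq_fintype_card, Fintype.card_subtype_compl]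
  simp

end CfsgLib.InvolTwo
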