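import Cfsg.Agent.Lib.InvolTwo.JordanTypes
import Cfsg.Agent.Lib.Geometry.MatrixEquiv
import Cfsg.Agent.Lib.Geometry.Symplectic
import Cfsg.Agent.S2585

/-! Jordan types of unipotent elements of orthogonal groups in characteristic two. -/

set_option autoImplicit false

namespace CfsgLib.InvolTwo.JordanTypes

open Matrix Module QuadraticMap

variable {F : Type*} [Field F]

theorem polar_matrix_data [CharP F 2] {ι : Type} [Fintype ι] [DecidableEq ι]
    {Q : QuadraticForm F (ι → F)} (hQ : (polarBilin Q).Nondegenerate)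
    (A : Cfsg.isometryGroup F ⇑Q) :
    (∀ v, v ⬝ᵥ (LinearMap.BilinForm.toMatrix' (polarBilin Q)) *ᵥ v = 0) ∧
      IsUnit (LinearMap.BilinForm.toMatrix' (polarBilin Q)).det ∧
      ((A : GL ι F) : Matrix ι ι F).transpose * LinearMap.BilinForm.toMatrix' (polarBilin Q) *
        ((A : GL ι F) : Matrix ι ι F) = LinearMap.BilinForm.toMatrix' (polarBilin Q) := by
  set G := LinearMap.BilinForm.toMatrix' (polarBilin Q) with hG
  have hap : ∀ u v, u ⬝ᵥ G *ᵥ v = polar Q u v := fun u v => by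
    rw [← Matrix.toBilin'_apply', hG, Matrix.toBilin'_toMatrix', polarBilin_apply_apply]
  refine ⟨fun v => ?_, ?_, ?_⟩
  · rw [hap, QuadraticMap.polar_self, two_nsmul, CharTwo.add_self_eq_zero]
  · rw [isUnit_iff_ne_zero, ← LinearMap.BilinForm.nondegenerate_toBilin'_iff_det_ne_zero, hG,
      Matrix.toBilin'_toMatrix']
    exact hQ
  · have hinv : ∀ u v, polar Q (((A : GL ι F) : Matrix ι ι F) *ᵥ u)
        (((A : GL ι F) : Matrix ι ι F) *ᵥ v) = polar Q u v := fun u v => by
      have h : ∀ w, Q (((A : GL ι F) : Matrix ι ι F) *ᵥ w) = Q w := fun w => A.2 w w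
      simp only [polar, ← Matrix.mulVec_add, h]
    refine Matrix.toBilin'.injective (LinearMap.ext₂ fun u v => ?_)
    rw [Matrix.toBilin'_apply', Matrix.toBilin'_apply', ← Matrix.mulVec_mulVec, ← Matrix.mulVec_mulVec,
      Matrix.dotProduct_mulVec u, Matrix.vecMul_transpose, hap, hap, hinv]

theorem orth_iff [Fintype F] [CharP F 2] {m t : ℕ} (d : Fin t → ℕ) (hd : ∀ k, 1 ≤ d k)
    (hsum : ∑ k, d k = 2 * m) :
    (∃ Q : QuadraticForm F (Fin (2 * m) → F), (polarBilin Q).Nondegenerate ∧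
      ∃ e : ((k : Fin t) × Fin (d k)) ≃ Fin (2 * m), ∃ A : ↥(Cfsg.isometryGroup F ⇑Q),
        IsConj (Matrix.reindex e e (Cfsg.jordanTypeMatrix d F))
          ((A : GL (Fin (2 * m)) F) : Matrix (Fin (2 * m)) (Fin (2 * m)) F)) ↔
      ∀ j : ℕ, Odd j → Even (Finset.univ.filter (fun k : Fin t => d k = j)).card := by
  classical
  constructor
  · rintro ⟨Q, hQ, e, A, h⟩ j hj
    obtain ⟨h1, h2, h3⟩ := polar_matrix_data hQ A
    exact even_count h1 h2 h3 h hj
  · intro h
    obtain ⟨e, A, hA⟩ := exists_sp_of_even (F := F) d hd hsum h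
    obtain ⟨Q, hpol, hQA⟩ := Cfsg.Agent.S2585.result A
    let s := CfsgLib.KnownB.SpRegular.sumIdx m
    let φ : (Fin (2 * m) → F) ≃ₗ[F] (Fin m ⊕ Fin m → F) := LinearEquiv.funCongrLeft F F s
    let Q' : QuadraticForm F (Fin (2 * m) → F) := Q.comp φ.toLinearMap
    have hQ' : (polarBilin Q').Nondegenerate := by
      have hp : ∀ u v, polar Q' u v = Cfsg.sympForm m F (φ u) (φ v) := fun u v => by
        rw [← hpol]
        simp [polar, Q']
      refine (LinearMap.IsRefl.nondegenerate_iff_separatingLeft (fun u v huv => by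
        rw [polarBilin_apply_apply] at huv ⊢; rwa [polar_comm])).2 fun u hu => ?_
      refine φ.map_eq_zero_iff.1 ((CfsgLib.Geometry.sympBilin_nondegenerate m F).1 _ fun y => ?_)
      have := hu (φ.symm y)
      rwa [polarBilin_apply_apply, hp, LinearEquiv.apply_symm_apply] at this
    set M : Matrix (Fin (2 * m)) (Fin (2 * m)) F :=
      Matrix.reindex s s (A : Matrix (Fin m ⊕ Fin m) (Fin m ⊕ Fin m) F) with hM
    have hMφ : ∀ v, φ (M *ᵥ v) = (A : Matrix (Fin m ⊕ Fin m) (Fin m ⊕ Fin m) F) *ᵥ φ v := fun v => by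
      funext i
      show (M *ᵥ v) (s i) = _
      simp only [hM, Matrix.mulVec, dotProduct, Matrix.reindex_apply, Matrix.submatrix_apply,
        Equiv.symm_apply_apply]
      rw [← Equiv.sum_comp s]
      simp [φ, LinearMap.funLeft]
    let R := Matrix.reindexAlgEquiv F F s
    have hu : IsUnit M := by
      have hA' : IsUnit (A : Matrix (Fin m ⊕ Fin m) (Fin m ⊕ Fin m) F) :=
        (Matrix.isUnit_iff_isUnit_det _).2 (SymplecticGroup.symplectic_det A.2)
      exact hA'.map R
    refine ⟨Q', hQ', e.trans s, ⟨hu.unit, fun v _ => ?_⟩, ?_⟩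
    · show Q (φ (M *ᵥ v)) = Q (φ v)
      rw [hMφ, hQA]
    · have hmap := MonoidHom.map_isConj (R.toAlgHom.toMonoidHom) hA
      show IsConj _ M
      exact hmap

end CfsgLib.InvolTwo.JordanTypes
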