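import Cfsg.Agent.Lib.InvolTwo.JordanTypes
import Cfsg.Agent.Lib.Geometry.StdForms

/-! Jordan types of unipotent elements of orthogonal groups in odd characteristic. -/

set_option autoImplicit false

namespace CfsgLib.InvolTwo.JordanTypes

open Matrix Module QuadraticMap

variable {F : Type*} [Field F]

/-- A rank sequence realised by an isometry of a non-degenerate symmetric form. -/
def OType (F : Type*) [Field F] (n : ℕ) (r : ℕ → ℕ) : Prop :=
  ∃ G A : Matrix (Fin n) (Fin n) F, G.transpose = G ∧ IsUnit G.det ∧ A.transpose * G * A = G ∧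
    ∀ j, ((A - 1) ^ j).rank = r j

theorem oType_zero : OType F 0 fun _ => 0 :=
  ⟨1, 1, Matrix.transpose_one, by simp, by simp,
    fun _ => Nat.le_zero.1 (le_trans (Matrix.rank_le_card_width _) (by simp))⟩

theorem oType_add {a b : ℕ} {r r' : ℕ → ℕ} (h : OType F a r) (h' : OType F b r') :
    OType F (a + b) fun j => r j + r' j := by
  classical
  obtain ⟨G, A, hG, hGu, hA, hr⟩ := h
  obtain ⟨H, B, hH, hHu, hB, hr'⟩ := h'
  let R := Matrix.reindexAlgEquiv F F (finSumFinEquiv (m := a) (n := b))
  have hT : ∀ M, (R M).transpose = R M.transpose := fun M => rfl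
  refine ⟨R (Matrix.fromBlocks G 0 0 H), R (Matrix.fromBlocks A 0 0 B), ?_, ?_, ?_, fun j => ?_⟩
  · rw [hT, Matrix.fromBlocks_transpose]
    simp [hG, hH]
  · have : IsUnit (Matrix.fromBlocks G 0 0 H).det := by
      rw [Matrix.det_fromBlocks_zero₁₂]; exact hGu.mul hHu
    exact (Matrix.isUnit_iff_isUnit_det _).1 (((Matrix.isUnit_iff_isUnit_det _).2 this).map R)
  · rw [hT, ← map_mul, ← map_mul, Matrix.fromBlocks_transpose, Matrix.fromBlocks_multiply,
      Matrix.fromBlocks_multiply]
    simp [hA, hB]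
  · show ((Matrix.reindex finSumFinEquiv finSumFinEquiv (Matrix.fromBlocks A 0 0 B) - 1) ^ j).rank = _
    rw [rank_reindex_sub_one_pow, fromBlocks_diag_sub_one_pow, rank_fromBlocks_diag, hr, hr']

theorem oType_pair (d : ℕ) : OType F (d + d) fun j => (d - j) + (d - j) := by
  classical
  let e : ((k : Fin 1) × Fin ((fun _ : Fin 1 => d) k)) ≃ Fin d := Fintype.equivOfCardEq (by simp)
  set A₀ : Matrix (Fin d) (Fin d) F := Matrix.reindex e e (Cfsg.jordanTypeMatrix (fun _ : Fin 1 => d) F)
  have hr : ∀ j, ((A₀ - 1) ^ j).rank = d - j := fun j => by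
    rw [rank_reindex_sub_one_pow, CfsgLib.KnownB.Jordan.rank_pow]
    simp
  have hnil : IsNilpotent (A₀ - 1) := isNilpotent_of_rank ((hr d).trans (Nat.sub_self d))
  have hu : IsUnit A₀ := by
    have := hnil.isUnit_add_left_of_commute isUnit_one (Commute.one_right _)
    rwa [add_comm, sub_add_cancel] at this
  have hdet : IsUnit A₀.det := (Matrix.isUnit_iff_isUnit_det A₀).1 hu
  let R := Matrix.reindexAlgEquiv F F (finSumFinEquiv (m := d) (n := d))
  have hT : ∀ M, (R M).transpose = R M.transpose := fun M => rfl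
  refine ⟨R (Matrix.fromBlocks (0 : Matrix (Fin d) (Fin d) F) (1 : Matrix (Fin d) (Fin d) F) (1 : Matrix (Fin d) (Fin d) F) 0), R (Matrix.fromBlocks A₀ 0 0 (A₀⁻¹).transpose), ?_, ?_, ?_,
    fun j => ?_⟩
  · rw [hT, Matrix.fromBlocks_transpose]
    simp
  · have h1 : Matrix.fromBlocks (0 : Matrix (Fin d) (Fin d) F) (1 : Matrix (Fin d) (Fin d) F)
        (1 : Matrix (Fin d) (Fin d) F) (0 : Matrix (Fin d) (Fin d) F) *
        Matrix.fromBlocks (0 : Matrix (Fin d) (Fin d) F) (1 : Matrix (Fin d) (Fin d) F)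
        (1 : Matrix (Fin d) (Fin d) F) (0 : Matrix (Fin d) (Fin d) F) = 1 := by
      rw [Matrix.fromBlocks_multiply]; simp [Matrix.fromBlocks_one]
    exact (Matrix.isUnit_iff_isUnit_det _).1 ((IsUnit.of_mul_eq_one _ h1).map R)
  · rw [hT, ← map_mul, ← map_mul, Matrix.fromBlocks_transpose, Matrix.fromBlocks_multiply,
      Matrix.fromBlocks_multiply]
    simp [← Matrix.transpose_mul, Matrix.nonsing_inv_mul _ hdet, Matrix.mul_nonsing_inv _ hdet]
  · show ((Matrix.reindex finSumFinEquiv finSumFinEquiv (Matrix.fromBlocks A₀ 0 0 (A₀⁻¹).transpose) - 1) ^ j).rank = _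
    rw [rank_reindex_sub_one_pow, fromBlocks_diag_sub_one_pow, rank_fromBlocks_diag, hr]
    congr 1
    have hc : Commute (-A₀⁻¹) (A₀ - 1) := by
      refine (Commute.sub_right ?_ (Commute.one_right _)).neg_left
      show A₀⁻¹ * A₀ = A₀ * A₀⁻¹
      rw [Matrix.nonsing_inv_mul _ hdet, Matrix.mul_nonsing_inv _ hdet]
    rw [← Matrix.transpose_one, ← Matrix.transpose_sub, ← Matrix.transpose_pow, Matrix.rank_transpose,
      show A₀⁻¹ - 1 = -A₀⁻¹ * (A₀ - 1) by
        rw [Matrix.mul_sub, Matrix.mul_one, Matrix.neg_mul, Matrix.nonsing_inv_mul _ hdet]; abel,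
      hc.mul_pow, Matrix.rank_mul_eq_right_of_isUnit_det _ _ ?_, hr]
    rw [Matrix.det_pow]
    exact ((Matrix.isUnit_iff_isUnit_det _).1 ((Matrix.isUnit_nonsing_inv_iff.2 hu).neg)).pow _

/-- A single block of odd size, by a Cayley transform. -/
theorem oType_single (h2 : (2 : F) ≠ 0) {n : ℕ} (hn : Odd n) : OType F n fun j => n - j := by
  classical
  set X : Matrix (Fin n) (Fin n) F := Cfsg.jordanBlock n F - 1
  have hX : ∀ i j : Fin n, X i j = if (i : ℕ) = j + 1 then 1 else 0 := fun i j => by
    simp only [X, Matrix.sub_apply, Matrix.one_apply, Cfsg.jordanBlock, Matrix.of_apply, Fin.ext_iff]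
    split_ifs <;> first | (simp; done) | (exfalso; omega)
  let e : ((k : Fin 1) × Fin ((fun _ : Fin 1 => n) k)) ≃ Fin n :=
    { toFun := fun x => x.2
      invFun := fun i => ⟨0, i⟩
      left_inv := fun ⟨k, i⟩ => by obtain rfl := Subsingleton.elim k 0; rfl
      right_inv := fun i => rfl }
  have hr : ∀ j, (X ^ j).rank = n - j := fun j => by
    have he : Matrix.reindex e e (Cfsg.jordanTypeMatrix (fun _ : Fin 1 => n) F) = Cfsg.jordanBlock n F := by
      ext i k
      exact Matrix.blockDiagonal'_apply_eq (fun _ : Fin 1 => Cfsg.jordanBlock n F) 0 i k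
    show ((Cfsg.jordanBlock n F - 1) ^ j).rank = _
    rw [← he, rank_reindex_sub_one_pow, CfsgLib.KnownB.Jordan.rank_pow]
    simp
  clear_value X
  have hnil : IsNilpotent X := isNilpotent_of_rank ((hr n).trans (Nat.sub_self n))
  have hpd : IsUnit (1 + X).det := (Matrix.isUnit_iff_isUnit_det _).1 hnil.isUnit_one_add
  have hmu : IsUnit (1 - X) := hnil.isUnit_one_sub
  have hmd : IsUnit (1 - X).det := (Matrix.isUnit_iff_isUnit_det _).1 hmu
  set G : Matrix (Fin n) (Fin n) F :=
    Matrix.of fun i j => if (i : ℕ) + j + 1 = n then (-1 : F) ^ (i : ℕ) else 0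
  have hG : G.transpose = G := by
    ext i j
    simp only [G, Matrix.transpose_apply, Matrix.of_apply]
    by_cases h : (i : ℕ) + j + 1 = n
    · rw [if_pos h, if_pos (by omega)]
      obtain ⟨k, hk⟩ := hn
      rcases Nat.even_or_odd (i : ℕ) with hi | hi
      · rw [hi.neg_one_pow, Even.neg_one_pow]
        obtain ⟨l, hl⟩ := hi; exact ⟨k - l, by omega⟩
      · rw [hi.neg_one_pow, Odd.neg_one_pow]
        obtain ⟨l, hl⟩ := hi; exact ⟨k - l - 1, by omega⟩
    · rw [if_neg h, if_neg (by omega)]
  have hGG : G * G = 1 := by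
    ext i j
    rw [Matrix.mul_apply, Finset.sum_eq_single (⟨n - 1 - i, by omega⟩ : Fin n)]
    · simp only [G, Matrix.of_apply, Matrix.one_apply, Fin.ext_iff]
      rw [if_pos (by omega)]
      by_cases h : (i : ℕ) = j
      · rw [if_pos (by omega), if_pos h, ← pow_add, Even.neg_one_pow]
        obtain ⟨k, hk⟩ := hn
        exact ⟨k, by omega⟩
      · rw [if_neg (by omega), if_neg h, mul_zero]
    · intro l _ hl
      simp only [G, Matrix.of_apply]
      rw [if_neg (fun h => hl (Fin.ext (by simp only; omega))), zero_mul]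
    · simp
  have hskew : X.transpose * G = -(G * X) := by
    ext i j
    have e1 : (X.transpose * G) i j = if (i : ℕ) + j + 2 = n then (-1 : F) ^ ((i : ℕ) + 1) else 0 := by
      rw [Matrix.mul_apply]
      by_cases h : (i : ℕ) + 1 < n
      · rw [Finset.sum_eq_single (⟨(i : ℕ) + 1, h⟩ : Fin n)]
        · simp only [Matrix.transpose_apply, hX, G, Matrix.of_apply, if_true, one_mul]
          exact if_congr (by omega) rfl rfl
        · intro l _ hl
          rw [Matrix.transpose_apply, hX, if_neg (fun h' => hl (Fin.ext h')), zero_mul]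
        · simp
      · rw [if_neg (by omega)]
        exact Finset.sum_eq_zero fun l _ => by
          rw [Matrix.transpose_apply, hX, if_neg (by omega), zero_mul]
    have e2 : (G * X) i j = if (i : ℕ) + j + 2 = n then (-1 : F) ^ (i : ℕ) else 0 := by
      rw [Matrix.mul_apply]
      by_cases h : (j : ℕ) + 1 < n
      · rw [Finset.sum_eq_single (⟨(j : ℕ) + 1, h⟩ : Fin n)]
        · simp only [hX, G, Matrix.of_apply, if_true, mul_one]
          exact if_congr (by omega) rfl rfl
        · intro l _ hl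
          rw [hX, if_neg (fun h' => hl (Fin.ext h')), mul_zero]
        · simp
      · rw [if_neg (by omega)]
        exact Finset.sum_eq_zero fun l _ => by rw [hX, if_neg (by omega), mul_zero]
    rw [Matrix.neg_apply, e1, e2]
    split_ifs <;> simp [pow_succ]
  have hp : (1 + X).transpose * G = G * (1 - X) := by
    rw [Matrix.transpose_add, Matrix.transpose_one, Matrix.add_mul, hskew, Matrix.one_mul,
      Matrix.mul_sub, Matrix.mul_one, sub_eq_add_neg]
  have hm : (1 - X).transpose * G = G * (1 + X) := by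
    rw [Matrix.transpose_sub, Matrix.transpose_one, Matrix.sub_mul, hskew, Matrix.one_mul,
      Matrix.mul_add, Matrix.mul_one, sub_neg_eq_add]
  set A := (1 - X)⁻¹ * (1 + X)
  have hsub : A - 1 = ((2 : F) • (1 - X)⁻¹) * X := by
    calc A - 1 = (1 - X)⁻¹ * (1 + X) - (1 - X)⁻¹ * (1 - X) := by rw [Matrix.nonsing_inv_mul _ hmd]
      _ = _ := by rw [← Matrix.mul_sub, smul_mul_assoc, ← Matrix.mul_smul, two_smul]; congr 1; abel
  refine ⟨G, A, hG, (Matrix.isUnit_iff_isUnit_det _).1 (IsUnit.of_mul_eq_one _ hGG), ?_, fun j => ?_⟩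
  · have h1 : ((1 - X)⁻¹).transpose * G = G * (1 + X)⁻¹ := by
      have h3 := congrArg (fun M => ((1 - X)⁻¹).transpose * M * (1 + X)⁻¹) hm
      rw [← Matrix.mul_assoc, ← Matrix.transpose_mul, Matrix.mul_nonsing_inv _ hmd, Matrix.transpose_one,
        Matrix.one_mul, Matrix.mul_assoc, Matrix.mul_assoc, Matrix.mul_nonsing_inv _ hpd, Matrix.mul_one] at h3
      exact h3.symm
    have hc : (1 + X) * (1 - X) = (1 - X) * (1 + X) := by noncomm_ring
    calc A.transpose * G * A
        = (1 + X).transpose * (((1 - X)⁻¹).transpose * G) * ((1 - X)⁻¹ * (1 + X)) := by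
          simp only [A, Matrix.transpose_mul, Matrix.mul_assoc]
      _ = G * ((1 - X) * (1 + X)⁻¹ * ((1 - X)⁻¹ * (1 + X))) := by
          rw [h1, ← Matrix.mul_assoc (1 + X).transpose, hp]; simp only [Matrix.mul_assoc]
      _ = G := by
          have : (1 - X) * (1 + X)⁻¹ * ((1 - X)⁻¹ * (1 + X)) = 1 := by
            rw [Matrix.mul_assoc, ← Matrix.mul_assoc (1 + X)⁻¹, ← Matrix.mul_inv_rev, ← hc,
              Matrix.mul_inv_rev, Matrix.mul_assoc (1 - X)⁻¹, Matrix.nonsing_inv_mul _ hpd,
              Matrix.mul_one, Matrix.mul_nonsing_inv _ hmd]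
          rw [this, Matrix.mul_one]
  · have hcX : Commute X (1 - X)⁻¹ := by
      have hz := (Commute.sub_right (Commute.one_right X) (Commute.refl X))
      obtain ⟨u, hu⟩ := hmu
      have := hu ▸ hz
      rw [← hu, ← Matrix.coe_units_inv]
      exact this.units_inv_right
    rw [hsub, ((hcX.symm).smul_left (2 : F)).mul_pow, Matrix.rank_mul_eq_right_of_isUnit_det _ _ ?_, hr]
    rw [Matrix.det_pow]
    refine IsUnit.pow _ ?_
    rw [Matrix.det_smul]
    exact ((isUnit_iff_ne_zero.2 h2).pow _).mul (Matrix.isUnit_nonsing_inv_det _ hmd)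

theorem oType_of_multiset (h2 : (2 : F) ≠ 0) (M : Multiset ℕ) :
    (∀ x ∈ M, 1 ≤ x) → (∀ j, Even j → 0 < j → Even (M.count j)) →
      OType F M.sum fun j => (M.map (· - j)).sum := by
  induction hN : Multiset.card M using Nat.strong_induction_on generalizing M with
  | _ N ih =>
  intro hpos heven
  rcases eq_or_ne M 0 with rfl | hM
  · simpa using oType_zero (F := F)
  by_cases hdup : ∃ x, 2 ≤ M.count x
  · obtain ⟨x, hx⟩ := hdup
    obtain ⟨M', rfl⟩ : ∃ M', M = x ::ₘ x ::ₘ M' := by
      obtain ⟨M₁, rfl⟩ := Multiset.exists_cons_of_mem (Multiset.count_pos.1 (by omega : 0 < M.count x))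
      rw [Multiset.count_cons_self] at hx
      obtain ⟨M₂, rfl⟩ := Multiset.exists_cons_of_mem (Multiset.count_pos.1 (by omega : 0 < M₁.count x))
      exact ⟨M₂, rfl⟩
    simp only [Multiset.card_cons] at hN
    have hT := ih (Multiset.card M') (by omega) M' rfl
      (fun y hy => hpos y (Multiset.mem_cons_of_mem (Multiset.mem_cons_of_mem hy))) fun j hj hj0 => by
        have := heven j hj hj0
        simp only [Multiset.count_cons] at this
        split_ifs at this with h
        · rwa [add_assoc, Nat.even_add' , iff_false_right (by decide), Nat.not_odd_iff_even] at this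
        · simpa using this
    have h := oType_add (oType_pair (F := F) x) hT
    convert h using 1
    · simp [add_assoc]
    · funext j; simp [add_assoc]
  · push Not at hdup
    obtain ⟨x, hx⟩ := Multiset.exists_mem_of_ne_zero hM
    obtain ⟨M', rfl⟩ := Multiset.exists_cons_of_mem hx
    have hcx := hdup x
    rw [Multiset.count_cons_self] at hcx
    have hxo : Odd x := by
      by_contra hxe
      have := heven x (Nat.not_odd_iff_even.1 hxe) (hpos x (Multiset.mem_cons_self _ _))
      rw [Multiset.count_cons_self, show M'.count x = 0 by omega] at this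
      exact absurd this (by decide)
    simp only [Multiset.card_cons] at hN
    have hT := ih (Multiset.card M') (by omega) M' rfl
      (fun y hy => hpos y (Multiset.mem_cons_of_mem hy)) fun j hj hj0 => by
        have := heven j hj hj0
        simp only [Multiset.count_cons] at this
        split_ifs at this with h'
        · subst h'
          exact absurd hxo (Nat.not_odd_iff_even.2 hj)
        · simpa using this
    have h := oType_add (oType_single h2 hxo) hT
    convert h using 1
    · simp
    · funext j; simp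

/-- In odd characteristic the ranks of odd powers of `A - 1` are even. -/
theorem even_rank_odd_pow (h2 : (2 : F) ≠ 0) {ι : Type*} [Fintype ι] [DecidableEq ι]
    {G A : Matrix ι ι F} (hG : G.transpose = G) (hGu : IsUnit G.det)
    (hA : A.transpose * G * A = G) (hnil : IsNilpotent (A - 1)) (i : ℕ) :
    Even ((A - 1) ^ (2 * i + 1)).rank := by
  have hAdet : IsUnit A.det := by
    have := congrArg Matrix.det hA
    rw [Matrix.det_mul, Matrix.det_mul, Matrix.det_transpose] at this
    rw [← this] at hGu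
    exact isUnit_of_mul_isUnit_right hGu
  set Y := A - A⁻¹
  have h1 : A.transpose * G = G * A⁻¹ := by
    calc A.transpose * G = A.transpose * G * A * A⁻¹ := by
          rw [Matrix.mul_assoc _ A, Matrix.mul_nonsing_inv _ hAdet, Matrix.mul_one]
      _ = _ := by rw [hA]
  have h3 : (A⁻¹).transpose * G = G * A := by
    calc (A⁻¹).transpose * G = (A⁻¹).transpose * (A.transpose * G * A) := by rw [hA]
      _ = _ := by
        rw [← Matrix.mul_assoc, ← Matrix.mul_assoc, ← Matrix.transpose_mul,
          Matrix.mul_nonsing_inv _ hAdet, Matrix.transpose_one, Matrix.one_mul]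
  have hY : Y.transpose * G = G * (-Y) := by
    rw [Matrix.transpose_sub, Matrix.sub_mul, h1, h3, neg_sub, Matrix.mul_sub]
  have hpow : ∀ k, Y.transpose ^ k * G = G * (-Y) ^ k := fun k => by
    induction k with
    | zero => simp
    | succ k ih => rw [pow_succ, Matrix.mul_assoc, hY, ← Matrix.mul_assoc, ih, Matrix.mul_assoc, ← pow_succ]
  have h := CfsgLib.KnownA.even_rank_of_alternating (G * Y ^ (2 * i + 1)) fun v => by
    have e : (G * Y ^ (2 * i + 1)).transpose = -(G * Y ^ (2 * i + 1)) := by
      rw [Matrix.transpose_mul, hG, Matrix.transpose_pow, hpow, Odd.neg_pow ⟨i, rfl⟩, Matrix.mul_neg]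
    have e2 : v ⬝ᵥ (G * Y ^ (2 * i + 1)) *ᵥ v = v ⬝ᵥ (G * Y ^ (2 * i + 1)).transpose *ᵥ v := by
      rw [Matrix.mulVec_transpose, Matrix.dotProduct_mulVec, dotProduct_comm]
    rw [e, Matrix.neg_mulVec, dotProduct_neg] at e2
    exact (mul_eq_zero.1 (show (2 : F) * _ = 0 by linear_combination e2)).resolve_left h2
  rw [Matrix.rank_mul_eq_right_of_isUnit_det _ _ hGu] at h
  -- `Y` differs from `A - 1` by an invertible factor
  set W := A⁻¹ * ((A - 1) + (2 : F) • 1)
  have hYW : Y = W * (A - 1) := by
    show A - A⁻¹ = A⁻¹ * ((A - 1) + (2 : F) • 1) * (A - 1)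
    rw [two_smul, Matrix.mul_assoc, show (A - 1 + ((1 : Matrix ι ι F) + 1)) * (A - 1) = A * A - 1 by noncomm_ring,
      Matrix.mul_sub, ← Matrix.mul_assoc, Matrix.nonsing_inv_mul _ hAdet, Matrix.one_mul, Matrix.mul_one]
  have hinv : Commute A⁻¹ A := by
    show A⁻¹ * A = A * A⁻¹
    rw [Matrix.nonsing_inv_mul _ hAdet, Matrix.mul_nonsing_inv _ hAdet]
  have hc : Commute W (A - 1) :=
    (hinv.sub_right (Commute.one_right _)).mul_left
      (Commute.add_left (Commute.refl _) (Commute.smul_left (Commute.one_left _) _))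
  have hW : IsUnit W := by
    refine IsUnit.mul (Matrix.isUnit_nonsing_inv_iff.2 ((Matrix.isUnit_iff_isUnit_det A).2 hAdet)) ?_
    exact hnil.isUnit_add_right_of_commute (by
      rw [Algebra.smul_def, mul_one]
      exact (isUnit_iff_ne_zero.2 h2).map (algebraMap F (Matrix ι ι F)))
      (Commute.smul_right (Commute.one_right _) _)
  rwa [hYW, hc.mul_pow, Matrix.rank_mul_eq_right_of_isUnit_det _ _
    ((Matrix.isUnit_iff_isUnit_det _).1 (hW.pow _))] at h

theorem orth_iff_odd (h2 : (2 : F) ≠ 0) {n t : ℕ} (d : Fin t → ℕ) (hd : ∀ k, 1 ≤ d k)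
    (hsum : ∑ k, d k = n) :
    (∃ Q : QuadraticForm F (Fin n → F), (polarBilin Q).Nondegenerate ∧
      ∃ e : ((k : Fin t) × Fin (d k)) ≃ Fin n, ∃ A : ↥(Cfsg.isometryGroup F ⇑Q),
        IsConj (Matrix.reindex e e (Cfsg.jordanTypeMatrix d F))
          ((A : GL (Fin n) F) : Matrix (Fin n) (Fin n) F)) ↔
      ∀ j : ℕ, Even j → 0 < j → Even (Finset.univ.filter (fun k : Fin t => d k = j)).card := by
  classical
  have hbig : ∑ k, (d k - n) = 0 := Finset.sum_eq_zero fun k _ => by
    have := Finset.single_le_sum (f := d) (fun i _ => Nat.zero_le _) (Finset.mem_univ k)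
    omega
  constructor
  · rintro ⟨Q, hQ, e, A, hA⟩ j hj hj0
    set G := LinearMap.BilinForm.toMatrix' (polarBilin Q) with hG
    have hap : ∀ u v, u ⬝ᵥ G *ᵥ v = polar Q u v := fun u v => by
      rw [← Matrix.toBilin'_apply', hG, Matrix.toBilin'_toMatrix', polarBilin_apply_apply]
    have hGs : G.transpose = G := by
      ext i j
      rw [Matrix.transpose_apply, hG, LinearMap.BilinForm.toMatrix'_apply,
        LinearMap.BilinForm.toMatrix'_apply, polarBilin_apply_apply, polarBilin_apply_apply, polar_comm]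
    have hGu : IsUnit G.det := by
      rw [isUnit_iff_ne_zero, ← LinearMap.BilinForm.nondegenerate_toBilin'_iff_det_ne_zero, hG,
        Matrix.toBilin'_toMatrix']
      exact hQ
    have hAG : ((A : GL (Fin n) F) : Matrix (Fin n) (Fin n) F).transpose * G *
        ((A : GL (Fin n) F) : Matrix (Fin n) (Fin n) F) = G := by
      have h : ∀ w, Q (((A : GL (Fin n) F) : Matrix (Fin n) (Fin n) F) *ᵥ w) = Q w := fun w => A.2 w w
      refine Matrix.toBilin'.injective (LinearMap.ext₂ fun u v => ?_)
      rw [Matrix.toBilin'_apply', Matrix.toBilin'_apply', ← Matrix.mulVec_mulVec, ← Matrix.mulVec_mulVec,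
        Matrix.dotProduct_mulVec u, Matrix.vecMul_transpose, hap, hap]
      simp only [polar, ← Matrix.mulVec_add, h]
    have hnil : IsNilpotent (((A : GL (Fin n) F) : Matrix (Fin n) (Fin n) F) - 1) :=
      isNilpotent_of_rank ((CfsgLib.KnownB.Jordan.rank_pow_conj hA n).trans hbig)
    have hev : ∀ i, Even (∑ k, (d k - (2 * i + 1))) := fun i => by
      rw [← CfsgLib.KnownB.Jordan.rank_pow_conj hA]
      exact even_rank_odd_pow h2 hGs hGu hAG hnil i
    obtain ⟨i, rfl⟩ := hj
    have h1 := CfsgLib.KnownB.Jordan.sum_second_diff d (show 1 ≤ i + i by omega)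
    rw [show i + i - 1 = 2 * (i - 1) + 1 by omega, show i + i + 1 = 2 * i + 1 by omega] at h1
    have := (hev (i - 1)).add (hev i)
    rw [h1, Nat.even_add] at this
    exact this.1 (even_two_mul _)
  · intro h
    have hs : ((Finset.univ : Finset (Fin t)).val.map d).sum = n := hsum
    obtain ⟨G, A, hG, hGu, hA, hr⟩ := hs ▸ oType_of_multiset (F := F) h2
      ((Finset.univ : Finset (Fin t)).val.map d)
      (fun x hx => by obtain ⟨k, -, rfl⟩ := Multiset.mem_map.1 hx; exact hd k) (fun j hj hj0 => by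
        have hj' := h j hj hj0
        rw [Finset.card_def, Finset.filter_val] at hj'
        rw [Multiset.count_map]
        convert hj' using 3
        exact eq_comm)
    let Q := CfsgLib.Geometry.matQuad G
    have hQ : (polarBilin Q).Nondegenerate := CfsgLib.Geometry.nondegenerate_matQuad (by
      rw [hG, ← two_smul F G, Matrix.det_smul]
      exact mul_ne_zero (pow_ne_zero _ h2) hGu.ne_zero)
    have hAdet : IsUnit A.det := by
      have := congrArg Matrix.det hA
      rw [Matrix.det_mul, Matrix.det_mul, Matrix.det_transpose] at this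
      rw [← this] at hGu
      exact isUnit_of_mul_isUnit_right hGu
    let e : ((k : Fin t) × Fin (d k)) ≃ Fin n := Fintype.equivOfCardEq (by simp [hsum])
    have hre : ∀ j, ((Matrix.reindex e e (Cfsg.jordanTypeMatrix d F) - 1) ^ j).rank = ((A - 1) ^ j).rank :=
      fun j => by
      rw [rank_reindex_sub_one_pow, CfsgLib.KnownB.Jordan.rank_pow, hr]
      simp only [Multiset.map_map]
      rfl
    have h0 : ((Matrix.reindex e e (Cfsg.jordanTypeMatrix d F) - 1) ^ n).rank = 0 := by
      rw [rank_reindex_sub_one_pow, CfsgLib.KnownB.Jordan.rank_pow, hbig]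
    refine ⟨Q, hQ, e, ⟨((Matrix.isUnit_iff_isUnit_det A).2 hAdet).unit, fun v _ => ?_⟩,
      CfsgLib.KnownB.Jordan.isConj_of_rank (isNilpotent_of_rank h0)
        (isNilpotent_of_rank ((hre n).symm.trans h0)) hre⟩
    show CfsgLib.Geometry.matQuad G (A *ᵥ v) = CfsgLib.Geometry.matQuad G v
    rw [CfsgLib.Geometry.matQuad_apply, CfsgLib.Geometry.matQuad_apply]
    conv_rhs => rw [← hA]
    rw [← Matrix.mulVec_mulVec, ← Matrix.mulVec_mulVec, Matrix.dotProduct_mulVec v, Matrix.vecMul_transpose]

end CfsgLib.InvolTwo.JordanTypes
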