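import Cfsg.Agent.Lib.KnownB.Jordan
import Cfsg.Agent.Lib.KnownB.SpRegularStd
import Cfsg.Agent.Lib.KnownA.AltRank

/-! Jordan types of unipotent elements of symplectic groups. -/

set_option autoImplicit false

namespace CfsgLib.InvolTwo.JordanTypes

open Matrix Module

variable {F : Type*} [Field F]

theorem rank_fromBlocks_diag {α β γ δ : Type*} [Fintype α] [Fintype β] [Fintype γ] [Fintype δ]
    [DecidableEq α] [DecidableEq β] (A : Matrix γ α F) (D : Matrix δ β F) :
    (Matrix.fromBlocks A 0 0 D).rank = A.rank + D.rank := by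
  let e₁ : ((α ⊕ β) → F) ≃ₗ[F] (α → F) × (β → F) := LinearEquiv.sumArrowLequivProdArrow α β F F
  let e₂ : ((γ ⊕ δ) → F) ≃ₗ[F] (γ → F) × (δ → F) := LinearEquiv.sumArrowLequivProdArrow γ δ F F
  have e : (Matrix.fromBlocks A 0 0 D).mulVecLin =
      e₂.symm.toLinearMap ∘ₗ (A.mulVecLin.prodMap D.mulVecLin) ∘ₗ e₁.toLinearMap := by
    refine LinearMap.ext fun v => funext fun i => ?_
    rcases i with i | i <;>
      simp [e₁, e₂, Matrix.fromBlocks_mulVec, LinearEquiv.sumArrowLequivProdArrow,
        Equiv.sumArrowEquivProdArrow, Function.comp_def]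
  rw [Matrix.rank, e, LinearMap.range_comp, LinearEquiv.finrank_map_eq,
    LinearMap.range_comp_of_range_eq_top _ (LinearEquiv.range e₁), LinearMap.range_prodMap,
    LinearEquiv.finrank_eq (show ↥((LinearMap.range A.mulVecLin).prod (LinearMap.range D.mulVecLin)) ≃ₗ[F]
        LinearMap.range A.mulVecLin × LinearMap.range D.mulVecLin from
      { toFun := fun x => (⟨x.1.1, x.2.1⟩, ⟨x.1.2, x.2.2⟩)
        invFun := fun x => ⟨(x.1.1, x.2.1), x.1.2, x.2.2⟩
        map_add' := fun _ _ => rfl
        map_smul' := fun _ _ => rfl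
        left_inv := fun _ => rfl
        right_inv := fun _ => rfl }), Module.finrank_prod]
  rfl

theorem fromBlocks_diag_sub_one_pow {α β : Type*} [Fintype α] [Fintype β] [DecidableEq α]
    [DecidableEq β] (A : Matrix α α F) (D : Matrix β β F) (j : ℕ) :
    (Matrix.fromBlocks A 0 0 D - 1) ^ j = Matrix.fromBlocks ((A - 1) ^ j) 0 0 ((D - 1) ^ j) := by
  induction j with
  | zero => simp [Matrix.fromBlocks_one]
  | succ j ih =>
    rw [pow_succ, ih, pow_succ, pow_succ,
      show Matrix.fromBlocks A 0 0 D - 1 = Matrix.fromBlocks (A - 1) 0 0 (D - 1) by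
        ext (i | i) (k | k) <;> simp [Matrix.one_apply],
      Matrix.fromBlocks_multiply]
    simp

theorem rank_reindex_sub_one_pow {α β : Type*} [Fintype α] [Fintype β] [DecidableEq α]
    [DecidableEq β] (e : α ≃ β) (A : Matrix α α F) (j : ℕ) :
    ((Matrix.reindex e e A - 1) ^ j).rank = ((A - 1) ^ j).rank := by
  rw [← Matrix.reindexAlgEquiv_apply F F e, ← map_one (Matrix.reindexAlgEquiv F F e), ← map_sub,
    ← map_pow, Matrix.reindexAlgEquiv_apply, Matrix.rank_reindex]

/-- A rank sequence realised by an element of `Sp_{2n}`. -/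
def SpType (F : Type*) [Field F] (n : ℕ) (r : ℕ → ℕ) : Prop :=
  ∃ A : Matrix.symplecticGroup (Fin n) F,
    ∀ j, (((A : Matrix (Fin n ⊕ Fin n) (Fin n ⊕ Fin n) F) - 1) ^ j).rank = r j

theorem spType_zero : SpType F 0 fun _ => 0 :=
  ⟨1, fun _ => Nat.le_zero.1 (le_trans (Matrix.rank_le_card_width _) (by simp))⟩

theorem spType_add {a b : ℕ} {r r' : ℕ → ℕ} (h : SpType F a r) (h' : SpType F b r') :
    SpType F (a + b) fun j => r j + r' j := by
  classical
  obtain ⟨A, hA⟩ := h
  obtain ⟨B, hB⟩ := h'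
  let e : (Fin a ⊕ Fin a) ⊕ (Fin b ⊕ Fin b) ≃ Fin (a + b) ⊕ Fin (a + b) :=
    (Equiv.sumSumSumComm _ _ _ _).trans (Equiv.sumCongr finSumFinEquiv finSumFinEquiv)
  have hJ : Matrix.reindex e e (Matrix.fromBlocks (Matrix.J (Fin a) F) 0 0 (Matrix.J (Fin b) F)) =
      Matrix.J (Fin (a + b)) F := by
    rw [← Equiv.eq_symm_apply, Matrix.reindex_symm]
    ext i j
    rcases i with (i | i) | (i | i) <;> rcases j with (j | j) | (j | j) <;>
      simp [e, Matrix.J, Matrix.one_apply, Fin.ext_iff, finSumFinEquiv] <;> omega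
  refine ⟨⟨Matrix.reindex e e (Matrix.fromBlocks A.1 0 0 B.1), ?_⟩, fun j => ?_⟩
  · rw [SymplecticGroup.mem_iff, ← hJ]
    simp only [← Matrix.reindexAlgEquiv_apply F F e]
    rw [show (Matrix.reindexAlgEquiv F F e (Matrix.fromBlocks A.1 0 0 B.1)).transpose =
      Matrix.reindexAlgEquiv F F e (Matrix.fromBlocks A.1 0 0 B.1).transpose from rfl,
      ← map_mul, ← map_mul, Matrix.fromBlocks_transpose, Matrix.fromBlocks_multiply,
      Matrix.fromBlocks_multiply]
    simp [(SymplecticGroup.mem_iff.1 A.2), (SymplecticGroup.mem_iff.1 B.2)]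
  · rw [rank_reindex_sub_one_pow, fromBlocks_diag_sub_one_pow, rank_fromBlocks_diag, hA, hB]

/-- The rank sequence of a regular unipotent. -/
theorem rank_pow_regular {n : ℕ} {u : Matrix (Fin n) (Fin n) F}
    (hu : CfsgLib.KnownB.Regular.IsRegularUnip u) (j : ℕ) : ((u - 1) ^ j).rank = n - j := by
  rcases le_or_gt j n with hj | hj
  · have h2 := CfsgLib.KnownB.Regular.finrank_ker_pow (Module.finrank_fin_fun F) hu.toLin_pow
      hu.finrank_ker hj
    rw [← Matrix.toLin'_pow] at h2
    have h3 := LinearMap.finrank_range_add_finrank_ker (Matrix.toLin' ((u - 1) ^ j))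
    rw [h2, Module.finrank_fin_fun] at h3
    show Module.finrank F (LinearMap.range (Matrix.toLin' ((u - 1) ^ j))) = _
    exact Nat.eq_sub_of_add_eq h3
  · rw [← Nat.sub_add_cancel hj.le, pow_add, hu.1, mul_zero, Matrix.rank_zero]
    omega

/-- A regular unipotent element. -/
theorem spType_regular {m : ℕ} (hm : 1 ≤ m) : SpType F m fun j => 2 * m - j := by
  classical
  obtain ⟨u, hu⟩ := CfsgLib.KnownB.SpRegular.exists_regular (F := F) m hm
  refine ⟨u, fun j => ?_⟩
  show _ = 2 * m - j
  rw [← rank_pow_regular hu j]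
  exact (rank_reindex_sub_one_pow (CfsgLib.KnownB.SpRegular.sumIdx m) u.1 j).symm

/-- Two equal blocks: a matrix of `GL` with its inverse transpose. -/
theorem spType_pair (d : ℕ) : SpType F d fun j => (d - j) + (d - j) := by
  classical
  let e : ((k : Fin 1) × Fin ((fun _ : Fin 1 => d) k)) ≃ Fin d := Fintype.equivOfCardEq (by simp)
  set A : Matrix (Fin d) (Fin d) F := Matrix.reindex e e (Cfsg.jordanTypeMatrix (fun _ : Fin 1 => d) F)
  have hr : ∀ j, ((A - 1) ^ j).rank = d - j := fun j => by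
    rw [rank_reindex_sub_one_pow, CfsgLib.KnownB.Jordan.rank_pow]
    simp
  have hnil : IsNilpotent (A - 1) := ⟨d, by
    have h0 : LinearMap.range ((A - 1) ^ d).mulVecLin = ⊥ :=
      Submodule.finrank_eq_zero.1 ((hr d).trans (Nat.sub_self d))
    rw [LinearMap.range_eq_bot, ← Matrix.mulVecLin_zero] at h0
    exact Matrix.ext_of_mulVec_single fun i => LinearMap.congr_fun h0 _⟩
  have hu : IsUnit A := by
    have := hnil.isUnit_add_left_of_commute isUnit_one (Commute.one_right _)
    rwa [add_comm, sub_add_cancel] at this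
  have hdet : IsUnit A.det := (Matrix.isUnit_iff_isUnit_det A).1 hu
  have hmem : Matrix.fromBlocks A 0 0 (A⁻¹).transpose ∈ Matrix.symplecticGroup (Fin d) F := by
    rw [SymplecticGroup.mem_iff, Matrix.J, Matrix.fromBlocks_transpose, Matrix.fromBlocks_multiply,
      Matrix.fromBlocks_multiply]
    simp [← Matrix.transpose_mul, Matrix.mul_nonsing_inv _ hdet]
  refine ⟨⟨_, hmem⟩, fun j => ?_⟩
  show ((Matrix.fromBlocks A 0 0 (A⁻¹).transpose - 1) ^ j).rank = _
  rw [fromBlocks_diag_sub_one_pow, rank_fromBlocks_diag, hr]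
  congr 1
  have hc : Commute (-A⁻¹) (A - 1) := by
    refine (Commute.sub_right ?_ (Commute.one_right _)).neg_left
    show A⁻¹ * A = A * A⁻¹
    rw [Matrix.nonsing_inv_mul _ hdet, Matrix.mul_nonsing_inv _ hdet]
  rw [← Matrix.transpose_one, ← Matrix.transpose_sub, ← Matrix.transpose_pow, Matrix.rank_transpose,
    show A⁻¹ - 1 = -A⁻¹ * (A - 1) by
      rw [Matrix.mul_sub, Matrix.mul_one, Matrix.neg_mul, Matrix.nonsing_inv_mul _ hdet]; abel,
    hc.mul_pow, Matrix.rank_mul_eq_right_of_isUnit_det _ _ ?_, hr]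
  rw [Matrix.det_pow]
  exact ((Matrix.isUnit_iff_isUnit_det _).1
    ((Matrix.isUnit_nonsing_inv_iff.2 hu).neg)).pow _

/-- Block sizes with odd sizes paired are realised. -/
theorem spType_of_multiset (M : Multiset ℕ) :
    (∀ x ∈ M, 1 ≤ x) → (∀ j, Odd j → Even (M.count j)) →
      ∃ n, M.sum = 2 * n ∧ SpType F n fun j => (M.map (· - j)).sum := by
  induction hN : Multiset.card M using Nat.strong_induction_on generalizing M with
  | _ N ih =>
  intro hpos hodd
  rcases eq_or_ne M 0 with rfl | hM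
  · exact ⟨0, by simp, by simpa using spType_zero⟩
  by_cases hdup : ∃ x, 2 ≤ M.count x
  · obtain ⟨x, hx⟩ := hdup
    obtain ⟨M', rfl⟩ : ∃ M', M = x ::ₘ x ::ₘ M' := by
      obtain ⟨M₁, rfl⟩ := Multiset.exists_cons_of_mem (Multiset.count_pos.1 (by omega : 0 < M.count x))
      rw [Multiset.count_cons_self] at hx
      obtain ⟨M₂, rfl⟩ := Multiset.exists_cons_of_mem (Multiset.count_pos.1 (by omega : 0 < M₁.count x))
      exact ⟨M₂, rfl⟩
    simp only [Multiset.card_cons] at hN
    obtain ⟨n, hn, hT⟩ := ih (Multiset.card M') (by omega) M' rfl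
      (fun y hy => hpos y (Multiset.mem_cons_of_mem (Multiset.mem_cons_of_mem hy))) fun j hj => by
        have := hodd j hj
        simp only [Multiset.count_cons] at this
        split_ifs at this with h
        · rwa [add_assoc, Nat.even_add' , iff_false_right (by decide), Nat.not_odd_iff_even] at this
        · simpa using this
    refine ⟨x + n, by simp [hn]; omega, ?_⟩
    convert spType_add (spType_pair (F := F) x) hT using 2 with j
    simp [add_assoc]
  · push Not at hdup
    obtain ⟨x, hx⟩ := Multiset.exists_mem_of_ne_zero hM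
    obtain ⟨M', rfl⟩ := Multiset.exists_cons_of_mem hx
    have hcx := hdup x
    rw [Multiset.count_cons_self] at hcx
    have hxe : Even x := by
      by_contra hxo
      have := hodd x (Nat.not_even_iff_odd.1 hxo)
      rw [Multiset.count_cons_self, show M'.count x = 0 by omega] at this
      exact absurd this (by decide)
    obtain ⟨h, rfl⟩ := hxe
    have h1 := hpos _ hx
    simp only [Multiset.card_cons] at hN
    obtain ⟨n, hn, hT⟩ := ih (Multiset.card M') (by omega) M' rfl
      (fun y hy => hpos y (Multiset.mem_cons_of_mem hy)) fun j hj => by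
        have := hodd j hj
        simp only [Multiset.count_cons] at this
        split_ifs at this with h'
        · subst h'
          exact absurd hj (Nat.not_odd_iff_even.2 ⟨h, rfl⟩)
        · simpa using this
    refine ⟨h + n, by simp [hn]; omega, ?_⟩
    convert spType_add (spType_regular (F := F) (show 1 ≤ h by omega)) hT using 2 with j
    simp [two_mul]

/-- For an isometry of an alternating form the ranks of even powers of `A - 1` are even. -/
theorem even_rank_even_pow {ι : Type*} [Fintype ι] [DecidableEq ι] {G A : Matrix ι ι F}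
    (hG : ∀ v, v ⬝ᵥ G *ᵥ v = 0) (hGu : IsUnit G.det) (hA : A.transpose * G * A = G) (i : ℕ) :
    Even ((A - 1) ^ (2 * i)).rank := by
  have hAdet : IsUnit A.det := by
    have := congrArg Matrix.det hA
    rw [Matrix.det_mul, Matrix.det_mul, Matrix.det_transpose] at this
    rw [← this] at hGu
    exact isUnit_of_mul_isUnit_right hGu
  have h1 : (A - 1).transpose * G = G * (-A⁻¹ * (A - 1)) := by
    have h2 : A.transpose * G = G * A⁻¹ := by
      calc A.transpose * G = A.transpose * G * A * A⁻¹ := by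
            rw [Matrix.mul_assoc _ A, Matrix.mul_nonsing_inv _ hAdet, Matrix.mul_one]
        _ = _ := by rw [hA]
    rw [Matrix.transpose_sub, Matrix.transpose_one, Matrix.sub_mul, h2, Matrix.one_mul, Matrix.mul_sub,
      Matrix.mul_one, Matrix.neg_mul, Matrix.nonsing_inv_mul _ hAdet, Matrix.mul_sub, Matrix.mul_neg,
      Matrix.mul_neg, Matrix.mul_one]
    abel
  have hpow : ∀ k, ((A - 1).transpose) ^ k * G = G * (-A⁻¹ * (A - 1)) ^ k := fun k => by
    induction k with
    | zero => simp
    | succ k ih => rw [pow_succ, Matrix.mul_assoc, h1, ← Matrix.mul_assoc, ih, Matrix.mul_assoc, ← pow_succ]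
  have hc : Commute (-A⁻¹) (A - 1) := by
    refine (Commute.sub_right ?_ (Commute.one_right _)).neg_left
    show A⁻¹ * A = A * A⁻¹
    rw [Matrix.nonsing_inv_mul _ hAdet, Matrix.mul_nonsing_inv _ hAdet]
  have hu : IsUnit ((-A⁻¹) ^ i) :=
    ((Matrix.isUnit_nonsing_inv_iff.2 ((Matrix.isUnit_iff_isUnit_det A).2 hAdet)).neg).pow i
  have h := CfsgLib.KnownA.even_rank_of_alternating (((A - 1) ^ i).transpose * G * (A - 1) ^ i) fun v => by
    rw [← Matrix.mulVec_mulVec, ← Matrix.mulVec_mulVec, Matrix.dotProduct_mulVec, Matrix.vecMul_transpose]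
    exact hG _
  rw [Matrix.transpose_pow, hpow, hc.mul_pow, Matrix.mul_assoc, Matrix.mul_assoc, ← pow_add, ← two_mul,
    Matrix.rank_mul_eq_right_of_isUnit_det _ _ hGu,
    Matrix.rank_mul_eq_right_of_isUnit_det _ _ ((Matrix.isUnit_iff_isUnit_det _).1 hu)] at h
  exact h

/-- Necessity: odd block sizes have even multiplicity. -/
theorem even_count {ι : Type*} [Fintype ι] [DecidableEq ι] {G A : Matrix ι ι F}
    (hG : ∀ v, v ⬝ᵥ G *ᵥ v = 0) (hGu : IsUnit G.det) (hA : A.transpose * G * A = G) {t : ℕ}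
    {d : Fin t → ℕ} {e : ((k : Fin t) × Fin (d k)) ≃ ι}
    (h : IsConj (Matrix.reindex e e (Cfsg.jordanTypeMatrix d F)) A) {j : ℕ} (hj : Odd j) :
    Even (Finset.univ.filter (fun k : Fin t => d k = j)).card := by
  have hev : ∀ i, Even (∑ k, (d k - 2 * i)) := fun i => by
    rw [← CfsgLib.KnownB.Jordan.rank_pow_conj h]
    exact even_rank_even_pow hG hGu hA i
  obtain ⟨i, rfl⟩ := hj
  have h1 := CfsgLib.KnownB.Jordan.sum_second_diff d (show 1 ≤ 2 * i + 1 by omega)
  rw [show 2 * i + 1 - 1 = 2 * i by omega, show 2 * i + 1 + 1 = 2 * (i + 1) by ring] at h1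
  have := (hev i).add (hev (i + 1))
  rw [h1, Nat.even_add] at this
  exact this.1 (even_two_mul _)

theorem isNilpotent_of_rank {ι : Type*} [Fintype ι] [DecidableEq ι] {N : Matrix ι ι F} {b : ℕ}
    (h : (N ^ b).rank = 0) : IsNilpotent N := by
  refine ⟨b, ?_⟩
  have h0 : LinearMap.range (N ^ b).mulVecLin = ⊥ := Submodule.finrank_eq_zero.1 h
  rw [LinearMap.range_eq_bot, ← Matrix.mulVecLin_zero] at h0
  exact Matrix.ext_of_mulVec_single fun i => LinearMap.congr_fun h0 _

/-- Sufficiency. -/
theorem exists_sp_of_even {m t : ℕ} (d : Fin t → ℕ) (hd : ∀ k, 1 ≤ d k) (hsum : ∑ k, d k = 2 * m)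
    (h : ∀ j : ℕ, Odd j → Even (Finset.univ.filter (fun k : Fin t => d k = j)).card) :
    ∃ e : ((k : Fin t) × Fin (d k)) ≃ (Fin m ⊕ Fin m), ∃ A : Matrix.symplecticGroup (Fin m) F,
      IsConj (Matrix.reindex e e (Cfsg.jordanTypeMatrix d F))
        (A : Matrix (Fin m ⊕ Fin m) (Fin m ⊕ Fin m) F) := by
  classical
  obtain ⟨n, hn, A, hA⟩ := spType_of_multiset (F := F) ((Finset.univ : Finset (Fin t)).val.map d)
    (fun x hx => by obtain ⟨k, -, rfl⟩ := Multiset.mem_map.1 hx; exact hd k) (fun j hj => by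
      have hj' := h j hj
      rw [Finset.card_def, Finset.filter_val] at hj'
      rw [Multiset.count_map]
      convert hj' using 3
      exact eq_comm)
  obtain rfl : n = m := by
    have hs : ((Finset.univ : Finset (Fin t)).val.map d).sum = ∑ k, d k := rfl
    omega
  let e : ((k : Fin t) × Fin (d k)) ≃ (Fin n ⊕ Fin n) := Fintype.equivOfCardEq (by
    simp [hsum]; omega)
  have hr : ∀ j, ((Matrix.reindex e e (Cfsg.jordanTypeMatrix d F) - 1) ^ j).rank =
      (((A : Matrix (Fin n ⊕ Fin n) (Fin n ⊕ Fin n) F) - 1) ^ j).rank := fun j => by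
    rw [rank_reindex_sub_one_pow, CfsgLib.KnownB.Jordan.rank_pow, hA]
    simp only [Multiset.map_map]
    rfl
  have h0 : ((Matrix.reindex e e (Cfsg.jordanTypeMatrix d F) - 1) ^ (2 * n)).rank = 0 := by
    rw [rank_reindex_sub_one_pow, CfsgLib.KnownB.Jordan.rank_pow]
    refine Finset.sum_eq_zero fun k _ => ?_
    have := Finset.single_le_sum (f := d) (fun i _ => Nat.zero_le _) (Finset.mem_univ k)
    omega
  exact ⟨e, A, CfsgLib.KnownB.Jordan.isConj_of_rank (isNilpotent_of_rank h0)
    (isNilpotent_of_rank ((hr (2 * n)).symm.trans h0)) hr⟩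

end CfsgLib.InvolTwo.JordanTypes
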