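import Cfsg.Agent.Lib.InvolTwo.Frames

/-!
Normal forms: existence of adapted frames (pair type and diagonal type), conjugacy in the
isometry group of the alternating form.
-/

set_option autoImplicit false

namespace CfsgLib.InvolTwo

open Module

universe u v

variable {F : Type u} {V : Type v} [Field F] [CharP F 2] [AddCommGroup V] [Module F V]
  [FiniteDimensional F V]
variable {B : LinearMap.BilinForm F V} {N : V →ₗ[F] V}

/-- The form `(u,v) ↦ B(u, N v)`. -/
def beta (B : LinearMap.BilinForm F V) (N : V →ₗ[F] V) : LinearMap.BilinForm F V :=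
  B.compl₂ N

omit [CharP F 2] [FiniteDimensional F V] in
@[simp]
theorem beta_apply (u v : V) : beta B N u v = B u (N v) := rfl

/-- Correct the mutual products of a family with given Gram matrix. -/
theorem frame_correct {ι : Type} [DecidableEq ι] [Fintype ι] {σ : ι → ι} {u : ι → V}
    (hN : IsMov B N) (hA : B.IsAlt) (hσ : Function.Involutive σ)
    (hgram : ∀ i j, B (u i) (N (u j)) = if j = σ i then 1 else 0)
    (hres : ∀ v, (∀ i, B (u i) (N v) = 0) → N v = 0) :
    ∃ u' : ι → V, (∀ i, N (u' i) = N (u i)) ∧ Frame B N σ u' := by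
  let e := Fintype.equivFin ι
  let M : ι → ι → F := fun i j => if e i < e j then B (u i) (u j) else 0
  refine ⟨fun i => u i + ∑ k, M i (σ k) • N (u k), fun i => ?_, ?_⟩
  · simp [map_sum, hN.sq]
  have hgl : ∀ i j, B (N (u i)) (u j) = if i = σ j then 1 else 0 := fun i j => by
    rw [alt_comm hA, hgram]
  refine ⟨hσ, fun i j => ?_, fun i j => ?_, fun v hv => hres v fun i => ?_⟩
  · simp [map_sum, hN.sq, hN.orth_range, hgram]
  · have h1 : ∑ k, M j (σ k) * B (u i) (N (u k)) = M j i := by
      simp [hgram, hσ i]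
    have h2 : ∑ k, M i (σ k) * B (N (u k)) (u j) = M i j := by
      simp [hgl, hσ j]
    simp only [map_add, map_sum, map_smul, LinearMap.add_apply, LinearMap.sum_apply,
      LinearMap.smul_apply, smul_eq_mul, hN.orth_range, mul_zero, Finset.sum_const_zero, add_zero,
      h1, h2]
    rcases lt_trichotomy (e i) (e j) with hlt | heq | hlt
    · simp only [M, if_pos hlt, if_neg (not_lt.2 hlt.le), add_zero]
      exact CharTwo.add_self_eq_zero _
    · obtain rfl := e.injective heq
      simp [M, hA.self_eq_zero]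
    · simp only [M, if_pos hlt, if_neg (not_lt.2 hlt.le), add_zero]
      rw [alt_comm hA (u i) (u j), CharTwo.add_self_eq_zero]
  · have := hv i
    simpa [hN.orth_range] using this

/-- A pair-type frame for an alternating `beta`. -/
theorem exists_frame_alt (hB : B.Nondegenerate) (hN : IsMov B N) (hA : B.IsAlt)
    (halt : ∀ v, B v (N v) = 0) :
    ∃ (k : ℕ) (u : Fin k ⊕ Fin k → V), Frame B N Sum.swap u := by
  obtain ⟨k, r, b, h1, h2, h3, h4⟩ :=
    Geometry.exists_sympBasis_aux (finrank F V) rfl (beta B N) (fun v => halt v)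
  let u : Fin k ⊕ Fin k → V := fun i => b (Sum.inl i)
  have hgram : ∀ i j, B (u i) (N (u j)) = if j = Sum.swap i then 1 else 0 := by
    rintro (i | i) (j | j)
    · simpa [u] using h2 i j
    · simpa [u, eq_comm] using h1 i j
    · rw [hN.symm hA]; simpa [u] using h1 j i
    · simpa [u] using h3 i j
  have hres : ∀ v, (∀ i, B (u i) (N v) = 0) → N v = 0 := by
    intro v hv
    refine hB.2 _ fun x => ?_
    have hx : beta B N v x = 0 := by
      have hall : beta B N v = 0 := by
        refine b.ext fun i => ?_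
        rcases i with i | j
        · rw [beta_apply, hN.symm hA]; exact hv i
        · rw [beta_apply, hN.symm hA]; exact h4 j v
      rw [hall]; rfl
    rwa [beta_apply, hN.symm hA] at hx
  obtain ⟨u', -, h⟩ := frame_correct hN hA (fun i => Sum.swap_swap i) hgram hres
  exact ⟨k, u', h⟩

variable [Finite F]

omit [CharP F 2] [FiniteDimensional F V] in
theorem exists_sqrt [CharP F 2] (a : F) : ∃ r : F, r ^ 2 = a := by
  haveI := Fintype.ofFinite F
  obtain ⟨r, hr⟩ := FiniteField.isSquare_of_char_two (ringChar.eq F 2) a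
  exact ⟨r, by rw [hr, sq]⟩

omit [Finite F] [FiniteDimensional F V] in
theorem exists_unit_diag [Finite F] (hN : IsMov B N) {v : V} (hv : B v (N v) ≠ 0) :
    ∃ c : F, c ≠ 0 ∧ B (c • v) (N (c • v)) = 1 := by
  obtain ⟨r, hr⟩ := exists_sqrt (B v (N v))⁻¹
  refine ⟨r, fun h => ?_, by rw [hN.diag_smul, hr, inv_mul_cancel₀ hv]⟩
  rw [h, zero_pow two_ne_zero, eq_comm, inv_eq_zero] at hr
  exact hv hr

omit [Finite F] in
/-- Diagonalisation of a non-alternating symmetric form, relative to a subspace. -/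
theorem exists_diag_aux [Finite F] (hN : IsMov B N) (hA : B.IsAlt) (d : ℕ) :
    ∀ X : Submodule F V, finrank F X = d → (∃ x ∈ X, B x (N x) ≠ 0) →
      ∃ (n : ℕ) (u : Fin n → V), (∀ i, u i ∈ X) ∧
        (∀ i j, B (u i) (N (u j)) = if j = i then 1 else 0) ∧
        ∀ x ∈ X, (∀ i, B (u i) (N x) = 0) → ∀ y ∈ X, B y (N x) = 0 := by
  induction d using Nat.strong_induction_on with
  | _ d ih =>
  intro X hd hX
  let cut : V → Submodule F V := fun v => X ⊓ LinearMap.ker (beta B N v)
  have mem_cut : ∀ v x, x ∈ cut v ↔ x ∈ X ∧ B v (N x) = 0 := fun v x => Iff.rfl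
  -- a good first vector
  have key : ∃ v ∈ X, B v (N v) = 1 ∧
      ((∃ x ∈ cut v, B x (N x) ≠ 0) ∨ ∀ x ∈ cut v, ∀ y ∈ cut v, B y (N x) = 0) := by
    obtain ⟨x₀, hx₀X, hx₀⟩ := hX
    obtain ⟨c, -, hc⟩ := exists_unit_diag hN hx₀
    set v := c • x₀
    have hvX : v ∈ X := X.smul_mem _ hx₀X
    by_cases h1 : ∃ x ∈ cut v, B x (N x) ≠ 0
    · exact ⟨v, hvX, hc, Or.inl h1⟩
    push Not at h1
    by_cases h2 : ∀ x ∈ cut v, ∀ y ∈ cut v, B y (N x) = 0
    · exact ⟨v, hvX, hc, Or.inr h2⟩
    push Not at h2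
    obtain ⟨f, hf, e, he, hef⟩ := h2
    set e' := (B e (N f))⁻¹ • e
    have he' : e' ∈ cut v := Submodule.smul_mem _ _ he
    have hef' : B e' (N f) = 1 := by simp [e', inv_mul_cancel₀ hef]
    obtain ⟨he1, he2⟩ := (mem_cut _ _).1 he'
    obtain ⟨hf1, hf2⟩ := (mem_cut _ _).1 hf
    refine ⟨v + e', X.add_mem hvX he1, ?_, Or.inl ⟨v + f, (mem_cut _ _).2 ⟨X.add_mem hvX hf1, ?_⟩, ?_⟩⟩
    · rw [hN.diag_add hA, hc, h1 e' he', add_zero]
    · simp only [map_add, LinearMap.add_apply, hc, hf2, hef', hN.symm hA e' v, he2, add_zero, zero_add]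
      exact CharTwo.add_self_eq_zero (1 : F)
    · rw [hN.diag_add hA, hc, h1 f hf, add_zero]
      exact one_ne_zero
  obtain ⟨v, hvX, hv, hrest⟩ := key
  have hlt : finrank F (cut v) < d := by
    refine hd ▸ Submodule.finrank_lt_finrank_of_lt (lt_of_le_of_ne inf_le_left fun h => ?_)
    have : v ∈ cut v := h.symm ▸ hvX
    rw [mem_cut, hv] at this
    exact one_ne_zero this.2
  have hproj : ∀ y ∈ X, y + B v (N y) • v ∈ cut v := fun y hy => by
    rw [mem_cut]
    refine ⟨X.add_mem hy (X.smul_mem _ hvX), ?_⟩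
    simp [hv, CharTwo.add_self_eq_zero]
  obtain ⟨n, u, hu, hgram, hres⟩ : ∃ (n : ℕ) (u : Fin n → V), (∀ i, u i ∈ cut v) ∧
      (∀ i j, B (u i) (N (u j)) = if j = i then 1 else 0) ∧
      ∀ x ∈ cut v, (∀ i, B (u i) (N x) = 0) → ∀ y ∈ cut v, B y (N x) = 0 := by
    rcases hrest with hrest | hrest
    · exact ih _ hlt (cut v) rfl hrest
    · exact ⟨0, Fin.elim0, fun i => i.elim0, fun i => i.elim0,
        fun x hx _ y hy => hrest x hx y hy⟩
  refine ⟨n + 1, Fin.cons v u, Fin.cases hvX fun i => (hu i).1, ?_, fun x hx hx' y hy => ?_⟩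
  · intro i j
    induction i using Fin.cases <;> induction j using Fin.cases <;>
      simp only [Fin.cons_zero, Fin.cons_succ]
    · simpa using hv
    · rename_i j
      rw [((mem_cut _ _).1 (hu j)).2, if_neg (Fin.succ_ne_zero j)]
    · rename_i i
      rw [hN.symm hA, ((mem_cut _ _).1 (hu i)).2, if_neg (Fin.succ_ne_zero i).symm]
    · rename_i i j
      simp [hgram, Fin.succ_inj]
  · have h0 : B v (N x) = 0 := by simpa using hx' 0
    have hxc : x ∈ cut v := (mem_cut _ _).2 ⟨hx, h0⟩
    have := hres x hxc (fun i => by simpa using hx' i.succ) _ (hproj y hy)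
    simpa [h0] using this

/-- A diagonal frame for a non-alternating `beta`. -/
theorem exists_frame_diag (hB : B.Nondegenerate) (hN : IsMov B N) (hA : B.IsAlt)
    (hna : ∃ v, B v (N v) ≠ 0) : ∃ (n : ℕ) (u : Fin n → V), Frame B N id u := by
  obtain ⟨v, hv⟩ := hna
  obtain ⟨n, u, -, hgram, hres⟩ := exists_diag_aux hN hA _ ⊤ rfl ⟨v, trivial, hv⟩
  obtain ⟨u', -, h⟩ := frame_correct hN hA (σ := id) (fun i => rfl) hgram fun x hx =>
    hB.2 _ fun y => hres x trivial hx y trivial
  exact ⟨n, u', h⟩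

omit [Finite F] in
/-- Two frames of the same shape are related by an isometry intertwining the maps. -/
theorem exists_intertwine {ι : Type} [DecidableEq ι] [Fintype ι] {σ : ι → ι} {u u' : ι → V}
    {N' : V →ₗ[F] V} (hB : B.Nondegenerate) (hA : B.IsAlt) (hN : IsMov B N) (hN' : IsMov B N')
    (h : Frame B N σ u) (h' : Frame B N' σ u') :
    ∃ g : V ≃ₗ[F] V, (∀ x y, B (g x) (g y) = B x y) ∧ (∀ i, g (u i) = u' i) ∧
      ∀ v, g (N v) = N' (g v) := by
  let e := (Fintype.equivFin (ι ⊕ ι)).symm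
  let a : ι ⊕ ι → V := Sum.elim u fun i => N (u i)
  let a' : ι ⊕ ι → V := Sum.elim u' fun i => N' (u' i)
  have hgram : ∀ i j, B (a i) (a j) = B (a' i) (a' j) := by
    rintro (i | i) (j | j) <;>
      simp [a, a', h.iso, h'.iso, h.gram, h'.gram, h.gram' hN, h'.gram' hN', hN.orth_range,
        hN'.orth_range]
  obtain ⟨g, hg, hga⟩ := Geometry.alt_extend hB hA (a ∘ e) (a' ∘ e)
    ((h.indep hN).comp e e.injective) ((h'.indep hN').comp e e.injective) fun i j => hgram _ _
  have hga' : ∀ x, g (a x) = a' x := fun x => by simpa using hga (e.symm x)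
  exact ⟨g, Geometry.altTransvGroup_preserves hA hg, fun i => hga' (Sum.inl i),
    h.intertwine hN h' hN' hA (Geometry.altTransvGroup_preserves hA hg) (fun i => hga' (Sum.inl i))
      fun i => hga' (Sum.inr i)⟩

/-- Classification by rank and alternation. -/
theorem exists_intertwine_of_type {N' : V →ₗ[F] V} (hB : B.Nondegenerate) (hA : B.IsAlt)
    (hN : IsMov B N) (hN' : IsMov B N')
    (hr : finrank F (LinearMap.range N) = finrank F (LinearMap.range N'))
    (ht : (∀ v, B v (N v) = 0) ↔ ∀ v, B v (N' v) = 0) :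
    ∃ g : V ≃ₗ[F] V, (∀ x y, B (g x) (g y) = B x y) ∧ ∀ v, g (N v) = N' (g v) := by
  by_cases halt : ∀ v, B v (N v) = 0
  · obtain ⟨k, u, h⟩ := exists_frame_alt hB hN hA halt
    obtain ⟨k', u', h'⟩ := exists_frame_alt hB hN' hA (ht.1 halt)
    obtain rfl : k = k' := by
      have := (h.finrank_range hN).symm.trans (hr.trans (h'.finrank_range hN'))
      simp at this
      omega
    obtain ⟨g, hg, -, hgN⟩ := exists_intertwine hB hA hN hN' h h'
    exact ⟨g, hg, hgN⟩
  · have hna := halt
    have hna' : ¬∀ v, B v (N' v) = 0 := fun h => halt (ht.2 h)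
    push Not at hna hna'
    obtain ⟨n, u, h⟩ := exists_frame_diag hB hN hA hna
    obtain ⟨n', u', h'⟩ := exists_frame_diag hB hN' hA hna'
    obtain rfl : n = n' := by
      have := (h.finrank_range hN).symm.trans (hr.trans (h'.finrank_range hN'))
      simpa using this
    obtain ⟨g, hg, -, hgN⟩ := exists_intertwine hB hA hN hN' h h'
    exact ⟨g, hg, hgN⟩

omit [Finite F] in
/-- Alternating type has even rank. -/
theorem even_rank_of_alt (hB : B.Nondegenerate) (hA : B.IsAlt) (hN : IsMov B N)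
    (halt : ∀ v, B v (N v) = 0) : Even (finrank F (LinearMap.range N)) := by
  obtain ⟨k, u, h⟩ := exists_frame_alt hB hN hA halt
  exact ⟨k, by rw [h.finrank_range hN]; simp⟩

omit [Finite F] in
/-- The rank is at most half of the dimension. -/
theorem two_rank_le (hN : IsMov B N) :
    2 * finrank F (LinearMap.range N) ≤ finrank F V := by
  have h := LinearMap.finrank_range_add_finrank_ker N
  have : LinearMap.range N ≤ LinearMap.ker N := by
    rintro _ ⟨v, rfl⟩
    exact hN.sq v
  have := Submodule.finrank_mono this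
  omega

end CfsgLib.InvolTwo
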