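import Cfsg.Agent.Lib.InvolTwo.OmegaClasses

/-! The number of classes of involutions of `Ω` in characteristic two. -/

set_option autoImplicit false

namespace CfsgLib.InvolTwo.OmegaClasses

open Module Matrix QuadraticMap CfsgLib.Geometry CfsgLib.InvolTwo.OrthGroup

variable {F : Type*} [Field F] [CharP F 2] {ι : Type} [Fintype ι] [DecidableEq ι]
variable {Q : QuadraticForm F (ι → F)}

theorem dickson_centralizer [Finite F] (hQ : (polarBilin Q).Nondegenerate)
    (hR : reflGroup Q = orth Q) {m : ℕ} (hn : Fintype.card ι = 2 * m)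
    {g c : Cfsg.isometryGroup F ⇑Q} (halt : IsAltType g)
    (hrk : finrank F (LinearMap.range (mov (lin g))) = m) (hc : c * g * c⁻¹ = g) :
    dickson (lin c) = 0 := by
  rw [← parity_eq_dickson hQ hR (by rw [Module.finrank_fintype_fun_eq_card, hn]) (lin_mem c) _
    (⟨hrk, alt_range_singular (lin_mem g) halt⟩ : IsMaxSing Q m (LinearMap.range (mov (lin g)))),
    ← range_conj hc, inf_idem, hrk, Nat.sub_self, Nat.cast_zero]

variable [Fintype F]

theorem exists_odd (hQ : (polarBilin Q).Nondegenerate) (hR : reflGroup Q = orth Q)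
    (hne : ∃ a, Q a ≠ 0) :
    ∃ r : Cfsg.isometryGroup F ⇑Q, r ∉ Cfsg.Omega F ⇑Q := by
  obtain ⟨a, ha⟩ := hne
  obtain ⟨r, hr⟩ := exists_lin_eq (refl Q a ha) (refl_mem_orth Q a ha)
  refine ⟨r, ?_⟩
  rw [mem_Omega_iff hQ hR, hr, dickson_refl hQ ha]
  decide

theorem card_classes_omega (hQ : (polarBilin Q).Nondegenerate) (hR : reflGroup Q = orth Q)
    {m A : ℕ} (hn : Fintype.card ι = 2 * m) (hm : 1 ≤ m) (hA : A ≤ m) (hne : ∃ a, Q a ≠ 0)
    (hdiag : ∀ s, 1 ≤ s → s ≤ m → ∃ g : Cfsg.isometryGroup F ⇑Q, orderOf g = 2 ∧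
      (((g : GL ι F) : Matrix ι ι F) - 1).rank = s ∧ ¬IsAltType g)
    (hpairs : ∀ k, 1 ≤ k → 2 * k ≤ A → ∃ g : Cfsg.isometryGroup F ⇑Q, orderOf g = 2 ∧
      (((g : GL ι F) : Matrix ι ι F) - 1).rank = 2 * k ∧ IsAltType g)
    (hbound : ∀ g : Cfsg.isometryGroup F ⇑Q, g * g = 1 → IsAltType g →
      (((g : GL ι F) : Matrix ι ι F) - 1).rank ≤ A) :
    Nat.card {C : ConjClasses ↥(Cfsg.Omega F ⇑Q) //
      ∃ g : ↥(Cfsg.Omega F ⇑Q), ConjClasses.mk g = C ∧ orderOf g = 2} =
        m / 2 + A / 2 + (if A = m ∧ Even m then 1 else 0) := by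
  classical
  obtain ⟨r, hr⟩ := exists_odd hQ hR hne
  choose f hf hfr hfa using fun i : Fin (m / 2) =>
    hdiag (2 * ((i : ℕ) + 1)) (by omega) (by have := i.isLt; omega)
  choose e he her hea using fun j : Fin (A / 2) =>
    hpairs ((j : ℕ) + 1) (Nat.le_add_left 1 _) (by have := j.isLt; omega)
  have hΩ : ∀ g : Cfsg.isometryGroup F ⇑Q, Even (((g : GL ι F) : Matrix ι ι F) - 1).rank →
      g ∈ Cfsg.Omega F ⇑Q := fun g hg => (mem_Omega_iff_even hQ hR g).2 hg
  have hmemf : ∀ i, f i ∈ Cfsg.Omega F ⇑Q := fun i => hΩ _ (by rw [hfr]; exact even_two_mul _)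
  have hmeme : ∀ j, e j ∈ Cfsg.Omega F ⇑Q := fun j => hΩ _ (by rw [her]; exact even_two_mul _)
  set E := if A = m ∧ Even m then 1 else 0 with hE
  have hcond : Fin E → A = m ∧ Even m := fun x => by
    by_contra h
    have := x.isLt
    have h0 : E = 0 := if_neg h
    omega
  have hlast : ∀ x : Fin E, ∃ j : Fin (A / 2), 2 * ((j : ℕ) + 1) = m := fun x => by
    obtain ⟨h1, h2⟩ := hcond x
    obtain ⟨k, hk⟩ := h2
    exact ⟨⟨A / 2 - 1, by omega⟩, by simp only; omega⟩
  choose last hlast using hlast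
  let d : Fin E → Cfsg.isometryGroup F ⇑Q := fun x => r * e (last x) * r⁻¹
  have hdconj : ∀ x, IsConj (e (last x)) (d x) := fun x => isConj_iff.2 ⟨r, rfl⟩
  have hdr : ∀ x, (((d x : GL ι F) : Matrix ι ι F) - 1).rank = m := fun x => by
    rw [← (conj_invariants (hdconj x)).1, her, hlast]
  have hda : ∀ x, IsAltType (d x) := fun x => (conj_invariants (hdconj x)).2.1 (hea _)
  have hdo : ∀ x, orderOf (d x) = 2 := fun x =>
    (orderOf_eq_of_isConj_aux (hdconj x)).trans (he _)
  have hmemd : ∀ x, d x ∈ Cfsg.Omega F ⇑Q := fun x =>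
    hΩ _ (by rw [hdr]; exact (hcond x).2)
  let R : Fin (m / 2) ⊕ (Fin (A / 2) ⊕ Fin E) → ↥(Cfsg.Omega F ⇑Q) :=
    Sum.elim (fun i => ⟨f i, hmemf i⟩) (Sum.elim (fun j => ⟨e j, hmeme j⟩) fun x => ⟨d x, hmemd x⟩)
  have hsep : ∀ x, ¬IsConj (⟨e (last x), hmeme _⟩ : ↥(Cfsg.Omega F ⇑Q)) ⟨d x, hmemd x⟩ := by
    intro x hx
    obtain ⟨c, hcΩ, hc⟩ := (isConj_subgroup_iff _ _).1 hx
    have h0 : (r⁻¹ * c) * e (last x) * (r⁻¹ * c)⁻¹ = e (last x) := by
      have hc' : c * e (last x) * c⁻¹ = r * e (last x) * r⁻¹ := hc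
      calc (r⁻¹ * c) * e (last x) * (r⁻¹ * c)⁻¹ = r⁻¹ * (c * e (last x) * c⁻¹) * r := by group
        _ = _ := by rw [hc']; group
    have h1 := (mem_Omega_iff hQ hR _).2 (dickson_centralizer hQ hR hn (hea _)
      (by rw [← OrthGroup.rank_eq, her, hlast]) h0)
    rw [Subgroup.mul_mem_cancel_right _ hcΩ, inv_mem_iff] at h1
    exact hr h1
  rw [card_invol_classes R]
  · simp [Nat.add_assoc]
  · intro i
    rw [← Subgroup.orderOf_coe]
    rcases i with i | j | x
    exacts [hf i, he j, hdo x]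
  · intro i j h
    obtain ⟨c, -, hc⟩ := (isConj_subgroup_iff _ _).1 h
    obtain ⟨hr', ht⟩ := conj_invariants (isConj_iff.2 ⟨c, hc⟩)
    rcases i with i | i | i <;> rcases j with j | j | j <;>
      simp only [R, Sum.elim_inl, Sum.elim_inr, hfr, her, hdr] at hr' ht
    · exact congrArg Sum.inl (Fin.ext (by omega))
    · exact absurd (ht.2 (hea j)) (hfa i)
    · exact absurd (ht.2 (hda j)) (hfa i)
    · exact absurd (ht.1 (hea i)) (hfa j)
    · exact congrArg (Sum.inr ∘ Sum.inl) (Fin.ext (by omega))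
    · have : i = last j := Fin.ext (by have := hlast j; omega)
      subst this
      exact absurd h (hsep j)
    · exact absurd (ht.1 (hda i)) (hfa j)
    · have : j = last i := Fin.ext (by have := hlast i; omega)
      subst this
      exact absurd h.symm (hsep i)
    · exact congrArg (Sum.inr ∘ Sum.inr) (Fin.ext (by
        have h1 := i.isLt
        have h2 := j.isLt
        have h0 : E = 1 := if_pos (hcond i)
        omega))
  · intro x hx
    rw [← Subgroup.orderOf_coe] at hx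
    have hxx := sq_eq_one_of_orderOf hx
    obtain ⟨k, hk⟩ := (mem_Omega_iff_even hQ hR _).1 x.2
    have hpos := rank_pos (ne_one_of_orderOf hx)
    have hle := OrthGroup.two_rank_le hxx
    by_cases ha : IsAltType (x : Cfsg.isometryGroup F ⇑Q)
    · have := hbound _ hxx ha
      let j : Fin (A / 2) := ⟨k - 1, by omega⟩
      have hc := conj_of_type hQ hxx (sq_eq_one_of_orderOf (he j))
        (by rw [her]; simp only [j]; omega) ⟨fun _ => hea _, fun _ => ha⟩
      by_cases hmax : 2 * finrank F (LinearMap.range (mov (lin (x : Cfsg.isometryGroup F ⇑Q)))) =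
          Fintype.card ι
      · obtain ⟨c, hc⟩ := isConj_iff.1 hc
        by_cases hcΩ : c ∈ Cfsg.Omega F ⇑Q
        · exact ⟨Sum.inr (Sum.inl j), (isConj_subgroup_iff _ _).2 ⟨c, hcΩ, hc⟩⟩
        · rw [← OrthGroup.rank_eq] at hmax
          have hAm : A = m ∧ Even m := ⟨by omega, ⟨k, by omega⟩⟩
          have hE1 : 0 < E := by rw [hE, if_pos hAm]; exact one_pos
          refine ⟨Sum.inr (Sum.inr ⟨0, hE1⟩), (isConj_subgroup_iff _ _).2 ⟨r * c, ?_, ?_⟩⟩
          · rw [mem_Omega_iff hQ hR] at hcΩ hr ⊢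
            have e' : lin (r * c) = lin r * lin c := LinearEquiv.ext fun v => lin_mul r c v
            rw [e', dickson_mul hQ hR (lin_mem r) (lin_mem c)]
            revert hcΩ hr
            generalize dickson (lin c) = p
            generalize dickson (lin r) = p'
            revert p p'
            decide
          · have hj : last ⟨0, hE1⟩ = j := Fin.ext (by
              have := hlast ⟨0, hE1⟩; simp only [j]; omega)
            show r * c * x * (r * c)⁻¹ = d ⟨0, hE1⟩
            simp only [d, hj, ← hc]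
            group
      · exact ⟨Sum.inr (Sum.inl j), (isConj_subgroup_iff _ _).2
          (omega_conj hQ hR hxx (fun H => hmax H.2) hc)⟩
    · let i : Fin (m / 2) := ⟨k - 1, by omega⟩
      have hc := conj_of_type hQ hxx (sq_eq_one_of_orderOf (hf i))
        (by rw [hfr]; simp only [i]; omega) ⟨fun h => absurd h ha, fun h => absurd h (hfa _)⟩
      exact ⟨Sum.inl i, (isConj_subgroup_iff _ _).2 (omega_conj hQ hR hxx (fun H => ha H.1) hc)⟩
where
  orderOf_eq_of_isConj_aux {G : Type _} [Group G] {a b : G} (h : IsConj a b) :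
      orderOf b = orderOf a := by
    obtain ⟨c, rfl⟩ := isConj_iff.1 h
    exact orderOf_injective (MulAut.conj c).toMonoidHom (MulAut.conj c).injective a

theorem reflGroup_plus (m : ℕ) (h : Fintype.card F ≠ 2 ∨ m ≠ 2) :
    reflGroup (matQuad (plusMat m F)) = orth (matQuad (plusMat m F)) :=
  reflGroup_eq_orth (nondegenerate_plus m)
    (exists_ne_zero_one_or (n := finrank F (Fin m ⊕ Fin m → F)) (h.imp_right fun h => by simp; omega))

theorem reflGroup_minus (n : ℕ) {a b : F}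
    (hab : ∀ z₁ z₂ : F, z₁ ^ 2 + a * z₁ * z₂ + b * z₂ ^ 2 = 0 → z₁ = 0 ∧ z₂ = 0) :
    reflGroup (matQuad (minusMat n F a b)) = orth (matQuad (minusMat n F a b)) := by
  by_cases hn : n = 1
  · subst hn
    exact reflGroup_eq_orth_of_anisotropic (nondegenerate_minus 1 hab)
      fun X hX => singular_finrank_le_minus 1 hab X hX
  · exact reflGroup_eq_orth (nondegenerate_minus n hab) (Or.inl (by simp; omega))

end CfsgLib.InvolTwo.OmegaClasses

namespace CfsgLib.InvolTwo.OmegaClasses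

open Module Matrix QuadraticMap CfsgLib.Geometry CfsgLib.InvolTwo.OrthGroup

variable {F : Type*} [Field F] [CharP F 2] {ι : Type} [Fintype ι] [DecidableEq ι]
variable {Q : QuadraticForm F (ι → F)}

theorem range_toLin' (g : Cfsg.isometryGroup F ⇑Q) :
    LinearMap.range (Matrix.toLin' (((g : GL ι F) : Matrix ι ι F) - 1)) =
      LinearMap.range (mov (lin g)) := by
  rw [mov_lin]; rfl

theorem alt_iff_Q_add (g : Cfsg.isometryGroup F ⇑Q) :
    IsAltType g ↔ ∀ v : ι → F, Q (v + ((g : GL ι F) : Matrix ι ι F) *ᵥ v) = 0 := by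
  rw [IsAltType, alt_iff_quad_mov (lin_mem g)]
  refine forall_congr' fun v => ?_
  rw [mov_apply, sub_vec (F := F), isomEquiv_apply, add_comm]

/-- Nonzero values of the standard forms. -/
theorem exists_ne_zero_plus {m : ℕ} (hm : 1 ≤ m) : ∃ a, matQuad (plusMat m F) a ≠ 0 :=
  ⟨Pi.single (Sum.inl ⟨0, hm⟩) 1 + Pi.single (Sum.inr ⟨0, hm⟩) 1, by
    rw [coe_matQuad_plus]; simp [Cfsg.quadFormPlus, Pi.single_apply]⟩

theorem exists_ne_zero_minus (n : ℕ) (a b : F) : ∃ x, matQuad (minusMat n F a b) x ≠ 0 :=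
  ⟨Pi.single (Sum.inr 0) 1, by rw [coe_matQuad_minus]; simp [Cfsg.quadFormMinus, Pi.single_apply]⟩

end CfsgLib.InvolTwo.OmegaClasses
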