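import Cfsg.Agent.Lib.InvolTwo.SpCent
import Cfsg.Agent.Lib.InvolTwo.OmegaCount

/-! Centralisers in `Ω` of involutions, in characteristic two. -/

set_option autoImplicit false

namespace CfsgLib.InvolTwo

open Module QuadraticMap

section Abstract

variable {F V : Type*} [Field F] [CharP F 2] [Finite F] [AddCommGroup V] [Module F V]
  [FiniteDimensional F V] [Fintype V]
variable {Q : QuadraticForm F V}

/-- The symplectic centraliser permutes the invariant forms of the same sign simply. -/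
theorem card_cent_orth_mul (hQ : (polarBilin Q).Nondegenerate) {t : V ≃ₗ[F] V}
    (ht : t ∈ Geometry.orth Q) (ht2 : ∀ v, t (t v) = v) :
    Nat.card (Cent (polarBilin Q) (mov t)) =
      Nat.card {g : Cent (polarBilin Q) (mov t) // ∀ v, Q (g.1.1 v) = Q v} *
        Nat.card {a : V // mov t a = 0 ∧ psi (Q a) = 1} := by
  classical
  have hex : ∀ a : {a : V // mov t a = 0 ∧ psi (Q a) = 1}, ∃ k : Cent (polarBilin Q) (mov t),
      ∀ v, Q (k.1.1 v) = Q v + polarBilin Q a.1 v ^ 2 := fun a => by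
    obtain ⟨k, hk, hkN, hkQ⟩ := exists_comm_twist hQ (isMov_orth ht ht2) a.2.1 a.2.2
    exact ⟨⟨⟨k, hk⟩, hkN⟩, hkQ⟩
  choose k hk using hex
  rw [← Nat.card_prod]
  refine (Nat.card_congr (Equiv.ofBijective (fun p : {g : Cent (polarBilin Q) (mov t) //
      ∀ v, Q (g.1.1 v) = Q v} × {a : V // mov t a = 0 ∧ psi (Q a) = 1} =>
    (⟨⟨p.1.1.1.1 * (k p.2).1.1, fun x y => (p.1.1.1.2 _ _).trans ((k p.2).1.2 x y)⟩, fun x => by
      show p.1.1.1.1 ((k p.2).1.1 (mov t x)) = mov t (p.1.1.1.1 ((k p.2).1.1 x))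
      rw [(k p.2).2, p.1.1.2]⟩ : Cent (polarBilin Q) (mov t))) ⟨?_, fun h => ?_⟩)).symm
  · rintro ⟨g, a⟩ ⟨g', a'⟩ h
    have hv : ∀ x, g.1.1.1 ((k a).1.1 x) = g'.1.1.1 ((k a').1.1 x) := fun x =>
      congrArg (fun c : Cent (polarBilin Q) (mov t) => c.1.1 x) h
    have ha : a = a' := Subtype.ext (sub_eq_zero.1 (hQ.1 _ fun x => by
      have := congrArg Q (hv x)
      rw [g.2, g'.2, hk, hk] at this
      rw [map_sub, LinearMap.sub_apply, CharTwo.sq_injective (add_left_cancel this), sub_self]))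
    subst ha
    refine Prod.ext (Subtype.ext (Subtype.ext (Subtype.ext (LinearEquiv.ext fun x => ?_)))) rfl
    have := hv ((k a).1.1.symm x)
    rwa [LinearEquiv.apply_symm_apply] at this
  · obtain ⟨a, ha⟩ := exists_shift hQ h.1.1 h.1.2
    obtain ⟨hNa, hpsi⟩ := shift_props hQ ht ht2 h.1.1 ha fun v => by
      rw [comm_of_intertwine h.2, ht]
    let a' : {a : V // mov t a = 0 ∧ psi (Q a) = 1} := ⟨a, hNa, hpsi⟩
    refine ⟨(⟨⟨⟨h.1.1 * (k a').1.1⁻¹, fun x y => ?_⟩, fun x => ?_⟩, fun v => ?_⟩, a'),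
      Subtype.ext (Subtype.ext (LinearEquiv.ext fun x => ?_))⟩
    · show polarBilin Q (h.1.1 ((k a').1.1.symm x)) (h.1.1 ((k a').1.1.symm y)) = _
      rw [h.1.2, ← (k a').1.2, LinearEquiv.apply_symm_apply, LinearEquiv.apply_symm_apply]
    · show h.1.1 ((k a').1.1.symm (mov t x)) = mov t (h.1.1 ((k a').1.1.symm x))
      rw [comm_mov (k a').2, h.2]
    · show Q (h.1.1 ((k a').1.1.symm v)) = Q v
      rw [ha, ← hk a', LinearEquiv.apply_symm_apply]
    · show h.1.1 ((k a').1.1.symm ((k a').1.1 x)) = h.1.1 x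
      rw [LinearEquiv.symm_apply_apply]

theorem two_card_sign [DecidableEq V] (P : V → Prop) [DecidablePred P] (f : V → F) :
    (2 * Nat.card {a : V // P a ∧ psi (f a) = 1} : ℤ) =
      Nat.card {a : V // P a} + ∑ a ∈ Finset.univ.filter P, psi (f a) := by
  classical
  rw [Nat.card_eq_fintype_card, Nat.card_eq_fintype_card, Fintype.card_subtype, Fintype.card_subtype]
  have e : ∀ a ∈ Finset.univ.filter P, psi (f a) = 2 * (if psi (f a) = 1 then 1 else 0) - 1 := by
    intro a _
    rcases psi_eq (f a) with h | h <;> rw [h] <;> norm_num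
  rw [Finset.sum_congr rfl e, Finset.sum_sub_distrib, ← Finset.mul_sum, Finset.sum_boole,
    Finset.filter_filter]
  simp

/-- Non-alternating type: half of the fixed space has trivial sign. -/
theorem two_card_sign_nonalt (hQ : (polarBilin Q).Nondegenerate) {t : V ≃ₗ[F] V}
    (ht : t ∈ Geometry.orth Q) (ht2 : ∀ v, t (t v) = v)
    (hna : ∃ v, polarBilin Q v (mov t v) ≠ 0) :
    2 * Nat.card {a : V // mov t a = 0 ∧ psi (Q a) = 1} = Nat.card {a : V // mov t a = 0} := by
  classical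
  have _ := hQ
  have hN := isMov_orth ht ht2
  obtain ⟨v, hv⟩ := hna
  obtain ⟨b, hb⟩ := exists_psi_neg (F := F)
  obtain ⟨c, hc⟩ := exists_sqrt (b / Q (mov t v))
  have hv' : Q (mov t v) ≠ 0 := by rw [quad_mov ht]; exact hv
  set w := mov t (c • v)
  have hw : Q w = b := by
    rw [show w = c • mov t v from map_smul _ _ _, Geometry.map_smul', ← _root_.sq, hc,
      div_mul_cancel₀ _ hv']
  have hsum : ∑ a ∈ Finset.univ.filter (fun a : V => mov t a = 0), psi (Q a) = 0 := by
    have hwN : mov t w = 0 := hN.sq _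
    have key : ∑ a ∈ Finset.univ.filter (fun a : V => mov t a = 0), psi (Q a) =
        ∑ a ∈ Finset.univ.filter (fun a : V => mov t a = 0), -psi (Q a) := by
      refine Finset.sum_nbij' (fun a => a + w) (fun a => a + w) ?_ ?_ ?_ ?_ ?_
      · intro a ha
        simpa [hwN] using ha
      · intro a ha
        simpa [hwN] using ha
      · intro a _; show a + w + w = a; rw [add_assoc, add_self_vec (F := F), add_zero]
      · intro a _; show a + w + w = a; rw [add_assoc, add_self_vec (F := F), add_zero]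
      · intro a ha
        simp only [Finset.mem_filter, Finset.mem_univ, true_and] at ha
        have hp : polar Q a w = 0 := by
          rw [← polarBilin_apply_apply, ← hN.adj, ha, map_zero, LinearMap.zero_apply]
        rw [Geometry.map_add', hw, hp, add_zero, psi_add, hb]
        ring
    rw [Finset.sum_neg_distrib] at key
    omega
  have h := two_card_sign (fun a : V => mov t a = 0) (fun a => Q a)
  rw [hsum, add_zero] at h
  exact_mod_cast h

theorem card_fixed {N : V →ₗ[F] V} :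
    Nat.card {a : V // N a = 0} = Nat.card F ^ (finrank F V - finrank F (LinearMap.range N)) := by
  rw [← LinearMap.finrank_range_add_finrank_ker N, Nat.add_sub_cancel_left,
    ← Module.natCard_eq_pow_finrank]
  rfl

/-- Alternating type: the fixed space carries the sign of the form. -/
theorem two_card_sign_alt (hQ : (polarBilin Q).Nondegenerate) {t : V ≃ₗ[F] V}
    (ht : t ∈ Geometry.orth Q) (ht2 : ∀ v, t (t v) = v)
    (halt : ∀ v, polarBilin Q v (mov t v) = 0) :
    (2 * Nat.card {a : V // mov t a = 0 ∧ psi (Q a) = 1} : ℤ) =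
      Nat.card {a : V // mov t a = 0} + gauss Q := by
  classical
  rw [gauss_eq_sum_fixed hQ ht ht2 halt]
  exact two_card_sign (fun a : V => mov t a = 0) (fun a => Q a)

omit [FiniteDimensional F V] in
theorem gauss_of_maxSing [FiniteDimensional F V] (hQ : (polarBilin Q).Nondegenerate) {m : ℕ}
    (hV : finrank F V = 2 * m) {X : Submodule F V} (hX : Geometry.IsMaxSing Q m X) :
    gauss Q = (Nat.card F : ℤ) ^ m := by
  classical
  rw [gauss_eq_sum_perp X hX.2]
  have hperp : ∀ v : V, (∀ x ∈ X, polar Q v x = 0) ↔ v ∈ X := fun v => by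
    conv_rhs => rw [← Geometry.polarPerp_eq_self hQ hV hX, Geometry.mem_polarPerp]
    simp only [polar_comm Q v]
  rw [Finset.sum_congr rfl (g := fun _ => (1 : ℤ)) fun v hv => by
    rw [hX.2 v ((hperp v).1 (Finset.mem_filter.1 hv).2), psi_zero]]
  have hc : Nat.card X = (Nat.card F) ^ m := by
    rw [Module.natCard_eq_pow_finrank (K := F), hX.1]
  rw [Finset.sum_const, nsmul_eq_mul, mul_one, ← Fintype.card_subtype,
    ← Nat.card_eq_fintype_card, Nat.card_congr (Equiv.subtypeEquivRight hperp)]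
  exact_mod_cast hc

end Abstract

namespace OmegaClasses

open Matrix CfsgLib.Geometry CfsgLib.InvolTwo.OrthGroup

variable {F : Type*} [Field F] [CharP F 2] [Fintype F] {ι : Type} [Fintype ι] [DecidableEq ι]
variable {Q : QuadraticForm F (ι → F)}

omit [Fintype F] in
theorem card_cent_orth (x : Cfsg.isometryGroup F ⇑Q) :
    Nat.card {g : Cfsg.isometryGroup F ⇑Q // g * x = x * g} =
      Nat.card {g : Cent (polarBilin Q) (mov (lin x)) // ∀ v, Q (g.1.1 v) = Q v} := by
  have hcomm : ∀ g : Cfsg.isometryGroup F ⇑Q, g * x = x * g ↔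
      ∀ v, lin g (mov (lin x) v) = mov (lin x) (lin g v) := fun g => by
    constructor
    · intro h v
      rw [mov_apply, mov_apply, map_sub, ← lin_mul, ← lin_mul, h]
    · intro h
      refine lin_ext fun v => ?_
      rw [lin_mul, lin_mul]
      exact comm_of_intertwine h v
  refine Nat.card_congr (Equiv.ofBijective (fun g =>
    (⟨⟨⟨lin g.1, fun u v => orth_polar (lin_mem g.1) u v⟩, (hcomm g.1).1 g.2⟩, lin_mem g.1⟩ :
      {g : Cent (polarBilin Q) (mov (lin x)) // ∀ v, Q (g.1.1 v) = Q v}))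
    ⟨fun a b h => ?_, fun g => ?_⟩)
  · exact Subtype.ext (lin_ext fun v =>
      congrArg (fun c : {g : Cent (polarBilin Q) (mov (lin x)) // ∀ v, Q (g.1.1 v) = Q v} =>
        c.1.1.1 v) h)
  · obtain ⟨c, hc⟩ := exists_lin_eq g.1.1.1 g.2
    exact ⟨⟨c, (hcomm c).2 (by rw [hc]; exact g.1.2)⟩, Subtype.ext (Subtype.ext (Subtype.ext hc))⟩

omit [CharP F 2] [Fintype F] in
theorem card_omega_comm (H : Subgroup (Cfsg.isometryGroup F ⇑Q)) (x : Cfsg.isometryGroup F ⇑Q) :
    Nat.card {g : H // (g : Cfsg.isometryGroup F ⇑Q) * x = x * g} =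
      Nat.card {g : Cfsg.isometryGroup F ⇑Q // g * x = x * g ∧ g ∈ H} :=
  Nat.card_congr
    { toFun := fun g => ⟨g.1.1, g.2, g.1.2⟩
      invFun := fun g => ⟨⟨g.1, g.2.2⟩, g.2.1⟩
      left_inv := fun _ => rfl
      right_inv := fun _ => rfl }

/-- With a fixed non-singular vector the centraliser in `Ω` has index two. -/
theorem two_card_omega (hQ : (polarBilin Q).Nondegenerate) (hR : reflGroup Q = orth Q)
    {x : Cfsg.isometryGroup F ⇑Q} (hx : x * x = 1)
    (hns : ¬(IsAltType x ∧ 2 * finrank F (LinearMap.range (mov (lin x))) = Fintype.card ι)) :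
    2 * Nat.card {g : ↥(Cfsg.Omega F ⇑Q) // (g : Cfsg.isometryGroup F ⇑Q) * x = x * g} =
      Nat.card {g : Cfsg.isometryGroup F ⇑Q // g * x = x * g} := by
  classical
  obtain ⟨a, haN, ha⟩ := exists_nonsingular_fixed hQ (lin_mem x) (lin_invol hx)
    (fun H => hns ⟨H.1, H.2.trans (Module.finrank_fintype_fun_eq_card F)⟩)
  obtain ⟨r, hr⟩ := exists_lin_eq (refl Q a ha) (refl_mem_orth Q a ha)
  have hrx : r * x = x * r := by
    refine lin_ext fun v => ?_
    rw [lin_mul, lin_mul, hr]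
    refine comm_of_intertwine (g := refl Q a ha) (t := lin x) (t' := lin x) (fun w => ?_) v
    rw [refl_eq_self Q a ha (by rw [← polarBilin_apply_apply, (isMov hx).adj, haN, map_zero]),
      refl_apply, map_sub, map_smul, haN, smul_zero, sub_zero]
  have hrr : r * r = 1 := lin_ext fun v => by
    rw [lin_mul, lin_one, hr]; exact LinearEquiv.congr_fun (refl_mul_self Q a ha) v
  have hflip : ∀ g, g * r ∈ Cfsg.Omega F ⇑Q ↔ g ∉ Cfsg.Omega F ⇑Q := fun g => by
    have e : lin (g * r) = lin g * lin r := LinearEquiv.ext fun v => lin_mul g r v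
    rw [mem_Omega_iff hQ hR, mem_Omega_iff hQ hR, e, dickson_mul hQ hR (lin_mem g) (lin_mem r), hr,
      dickson_refl hQ ha]
    generalize dickson (lin g) = d
    revert d
    decide
  have e : {g : Cfsg.isometryGroup F ⇑Q // g * x = x * g} ≃
      {g : Cfsg.isometryGroup F ⇑Q // g * x = x * g ∧ g ∈ Cfsg.Omega F ⇑Q} ⊕
      {g : Cfsg.isometryGroup F ⇑Q // g * x = x * g ∧ g ∈ Cfsg.Omega F ⇑Q} :=
    { toFun := fun g => if h : g.1 ∈ Cfsg.Omega F ⇑Q then Sum.inl ⟨g.1, g.2, h⟩
        else Sum.inr ⟨g.1 * r, by rw [mul_assoc, hrx, ← mul_assoc, g.2, mul_assoc], (hflip _).2 h⟩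
      invFun := Sum.elim (fun g => ⟨g.1, g.2.1⟩)
        fun g => ⟨g.1 * r, by rw [mul_assoc, hrx, ← mul_assoc, g.2.1, mul_assoc]⟩
      left_inv := fun g => by
        by_cases h : g.1 ∈ Cfsg.Omega F ⇑Q
        · simp [h]
        · simp [h, mul_assoc, hrr]
      right_inv := by
        rintro (g | g)
        · simp [g.2.2]
        · have h : g.1 * r ∉ Cfsg.Omega F ⇑Q := fun h => ((hflip _).1 h) g.2.2
          simp [h, mul_assoc, hrr] }
  rw [Nat.card_congr e, Nat.card_sum, card_omega_comm, two_mul]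

theorem omega_eq_all (hQ : (polarBilin Q).Nondegenerate) (hR : reflGroup Q = orth Q) {m : ℕ}
    (hn : Fintype.card ι = 2 * m) {x : Cfsg.isometryGroup F ⇑Q} (halt : IsAltType x)
    (hrk : finrank F (LinearMap.range (mov (lin x))) = m) :
    Nat.card {g : ↥(Cfsg.Omega F ⇑Q) // (g : Cfsg.isometryGroup F ⇑Q) * x = x * g} =
      Nat.card {g : Cfsg.isometryGroup F ⇑Q // g * x = x * g} := by
  rw [card_omega_comm]
  refine Nat.card_congr (Equiv.subtypeEquivRight fun g => ⟨fun h => h.1, fun h => ⟨h, ?_⟩⟩)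
  exact (mem_Omega_iff hQ hR g).2 (dickson_centralizer hQ hR hn halt hrk
    (by rw [h, mul_inv_cancel_right]))

/-- Non-alternating type. -/
theorem omega_cent_nonalt (hQ : (polarBilin Q).Nondegenerate) (hR : reflGroup Q = orth Q)
    {x : Cfsg.isometryGroup F ⇑Q} (hx : x * x = 1) (hna : ¬IsAltType x) :
    Nat.card (Cent (polarBilin Q) (mov (lin x))) =
      Nat.card {g : ↥(Cfsg.Omega F ⇑Q) // (g : Cfsg.isometryGroup F ⇑Q) * x = x * g} *
        Nat.card F ^ (Fintype.card ι - finrank F (LinearMap.range (mov (lin x)))) := by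
  classical
  rw [card_cent_orth_mul hQ (lin_mem x) (lin_invol hx), ← card_cent_orth,
    ← two_card_omega hQ hR hx (fun H => hna H.1), mul_comm 2, mul_assoc,
    two_card_sign_nonalt hQ (lin_mem x) (lin_invol hx)
      (by simpa [IsAltType] using hna), card_fixed, Module.finrank_fintype_fun_eq_card]

/-- Alternating type, rank below the maximum. -/
theorem omega_cent_alt (hQ : (polarBilin Q).Nondegenerate) (hR : reflGroup Q = orth Q)
    {m : ℕ} (hn : Fintype.card ι = 2 * m) {X : Submodule F (ι → F)} (hX : IsMaxSing Q m X)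
    {x : Cfsg.isometryGroup F ⇑Q} (hx : x * x = 1) (halt : IsAltType x) :
    Nat.card (Cent (polarBilin Q) (mov (lin x))) =
      Nat.card {g : ↥(Cfsg.Omega F ⇑Q) // (g : Cfsg.isometryGroup F ⇑Q) * x = x * g} *
        (if finrank F (LinearMap.range (mov (lin x))) = m then Nat.card F ^ m else
          Nat.card F ^ (Fintype.card ι - finrank F (LinearMap.range (mov (lin x)))) +
            Nat.card F ^ m) := by
  classical
  have h2 := two_card_sign_alt hQ (lin_mem x) (lin_invol hx) halt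
  rw [gauss_of_maxSing hQ (by rw [Module.finrank_fintype_fun_eq_card, hn]) hX, card_fixed,
    Module.finrank_fintype_fun_eq_card] at h2
  have h3 : 2 * Nat.card {a : ι → F // mov (lin x) a = 0 ∧ psi (Q a) = 1} =
      Nat.card F ^ (Fintype.card ι - finrank F (LinearMap.range (mov (lin x)))) +
        Nat.card F ^ m := by exact_mod_cast h2
  rw [card_cent_orth_mul hQ (lin_mem x) (lin_invol hx), ← card_cent_orth]
  split_ifs with hm
  · rw [omega_eq_all hQ hR hn halt hm]
    rw [hm, hn, show 2 * m - m = m by omega] at h3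
    congr 1
    omega
  · rw [← two_card_omega hQ hR hx (fun H => hm (by omega)), mul_comm 2, mul_assoc, h3]

end OmegaClasses

end CfsgLib.InvolTwo

namespace CfsgLib.InvolTwo.OmegaClasses

open Module Matrix QuadraticMap CfsgLib.Geometry CfsgLib.InvolTwo.OrthGroup

variable {F : Type*} [Field F] [CharP F 2] [Fintype F]

theorem cancel_pow {q c x d a b : ℕ} (hq : 0 < q) (h : c * q ^ a = q ^ b * x) (hd : d + a = b) :
    c = q ^ d * x := by
  refine Nat.eq_of_mul_eq_mul_right (pow_pos hq a) ?_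
  rw [h, ← hd, pow_add]; ring

theorem exp_odd (s r : ℕ) (hs : 1 ≤ s) :
    2 * (s + r) * (s - 1) - (3 * s ^ 2 - 3 * s) / 2 + (2 * (s + r) - s) =
      2 * (s + r) * s - (3 * s ^ 2 - s) / 2 := by
  obtain ⟨j, rfl⟩ := Nat.exists_eq_add_of_le hs
  rw [Nat.add_sub_cancel_left]
  have e1 : 2 * (1 + j + r) * j = 2 * (j * j) + 2 * (r * j) + 2 * j := by ring
  have e2 : 2 * (1 + j + r) * (1 + j) = 2 * (j * j) + 2 * (r * j) + 4 * j + 2 * r + 2 := by ring
  have e3 : (1 + j) ^ 2 = j * j + 2 * j + 1 := by ring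
  obtain ⟨t, ht⟩ := Nat.even_mul_succ_self j
  have e4 : j * (j + 1) = j * j + j := by ring
  rw [e1, e2, e3]
  omega

theorem exp_even (s r : ℕ) (hs : 2 ≤ s) :
    2 * (s + r) * (s - 1) - (3 * s ^ 2 - 5 * s) / 2 - 1 + (2 * (s + r) - s) =
      2 * (s + r) * s - (3 * s ^ 2 - 3 * s) / 2 - 1 := by
  obtain ⟨j, rfl⟩ := Nat.exists_eq_add_of_le hs
  rw [show 2 + j - 1 = 1 + j by omega]
  have e1 : 2 * (2 + j + r) * (1 + j) = 2 * (j * j) + 2 * (r * j) + 6 * j + 2 * r + 4 := by ring
  have e2 : 2 * (2 + j + r) * (2 + j) = 2 * (j * j) + 2 * (r * j) + 8 * j + 4 * r + 8 := by ring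
  have e3 : (2 + j) ^ 2 = j * j + 4 * j + 4 := by ring
  obtain ⟨t, ht⟩ := Nat.even_mul_succ_self j
  have e4 : j * (j + 1) = j * j + j := by ring
  rw [e1, e2, e3]
  omega

theorem exp_alt (s r : ℕ) :
    2 * (s + r) * s - (3 * s ^ 2 + s) / 2 + s = 2 * (s + r) * s - (3 * s ^ 2 - s) / 2 := by
  have e1 : 2 * (s + r) * s = 2 * (s * s) + 2 * (r * s) := by ring
  have e3 := half_pairs s
  rw [e1, _root_.sq]
  omega

/-- The order of `Ω⁺_{2r}(q)`. -/
theorem spOrder_split (q r : ℕ) (hr : 1 ≤ r) :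
    spOrder q r = q ^ r * (q ^ r + 1) *
      (q ^ (r * (r - 1)) * (q ^ r - 1) * ∏ i : Fin (r - 1), (q ^ (2 * ((i : ℕ) + 1)) - 1)) := by
  obtain ⟨j, rfl⟩ := Nat.exists_eq_add_of_le' hr
  rw [spOrder, Fin.prod_univ_castSucc, Nat.add_sub_cancel]
  simp only [Fin.val_castSucc, Fin.val_last]
  have h : q ^ (2 * (j + 1)) - 1 = (q ^ (j + 1) + 1) * (q ^ (j + 1) - 1) := by
    rw [← Nat.sq_sub_sq, one_pow, ← pow_mul, mul_comm 2]
  rw [h, show (j + 1) ^ 2 = (j + 1) + (j + 1) * j by ring, pow_add]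
  ring

theorem plus_data (m : ℕ) {x : Cfsg.isometryGroup F ⇑(matQuad (plusMat m F))} (hx : x * x = 1) :
    IsMov (polarBilin (matQuad (plusMat m F))) (mov (lin x)) ∧
      finrank F (Fin m ⊕ Fin m → F) = 2 * m ∧ Fintype.card (Fin m ⊕ Fin m) = 2 * m := by
  refine ⟨isMov hx, ?_, ?_⟩ <;> simp <;> omega

end CfsgLib.InvolTwo.OmegaClasses
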