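import Cfsg.Agent.Lib.InvolTwo.Gauss
import Cfsg.Agent.Lib.InvolTwo.Build

/-!
Involutions of orthogonal groups in characteristic two: conjugacy reduces to that of the polar
form; the forms with the same polar that a given involution fixes.
-/

set_option autoImplicit false

namespace CfsgLib.InvolTwo

open QuadraticMap Module

universe u v

variable {F : Type u} {V : Type v} [Field F] [CharP F 2] [AddCommGroup V] [Module F V]
variable {Q : QuadraticForm F V}

theorem polar_isAlt (Q : QuadraticForm F V) : (polarBilin Q).IsAlt := fun v => by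
  show polar Q v v = 0
  rw [Geometry.polar_self', CharTwo.two_eq_zero, zero_mul]

theorem isMov_orth {t : V ≃ₗ[F] V} (ht : t ∈ Geometry.orth Q) (ht2 : ∀ v, t (t v) = v) :
    IsMov (polarBilin Q) (mov t) :=
  isMov_mov (fun u v => Geometry.orth_polar ht u v) ht2

theorem quad_mov {t : V ≃ₗ[F] V} (ht : t ∈ Geometry.orth Q) (v : V) :
    Q (mov t v) = polarBilin Q v (mov t v) := by
  have h := ht v
  rw [apply_eq_add_mov t v, Geometry.map_add'] at h
  rw [polarBilin_apply_apply]
  linear_combination h - polar Q v (mov t v) * CharTwo.two_eq_zero (R := F)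

theorem alt_iff_quad_mov {t : V ≃ₗ[F] V} (ht : t ∈ Geometry.orth Q) :
    (∀ v, polarBilin Q v (mov t v) = 0) ↔ ∀ v, Q (mov t v) = 0 :=
  forall_congr' fun v => by rw [quad_mov ht]

omit [CharP F 2] in
theorem comm_mov {k t : V ≃ₗ[F] V} (h : ∀ v, k (mov t v) = mov t (k v)) (v : V) :
    k.symm (mov t v) = mov t (k.symm v) := by
  apply k.injective
  rw [LinearEquiv.apply_symm_apply, h, LinearEquiv.apply_symm_apply]

variable [Finite F] [FiniteDimensional F V]

/-- Forms with the same polar form differ by the square of a linear functional. -/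
theorem exists_shift (hQ : (polarBilin Q).Nondegenerate) (h : V ≃ₗ[F] V)
    (hh : ∀ u v, polarBilin Q (h u) (h v) = polarBilin Q u v) :
    ∃ a, ∀ v, Q (h v) = Q v + polarBilin Q a v ^ 2 := by
  have hex : ∀ v, ∃ r : F, r ^ 2 = Q (h v) + Q v := fun v => exists_sqrt _
  choose r hr using hex
  let f : V →ₗ[F] F :=
    { toFun := r
      map_add' := fun u v => CharTwo.sq_injective (by
        have hp := hh u v
        rw [polarBilin_apply_apply, polarBilin_apply_apply] at hp
        simp only [CharTwo.add_sq, hr, map_add, Geometry.map_add', hp]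
        linear_combination polar Q u v * CharTwo.two_eq_zero (R := F))
      map_smul' := fun c v => CharTwo.sq_injective (by
        simp only [RingHom.id_apply, smul_eq_mul, mul_pow, hr, map_smul, Geometry.map_smul']
        ring) }
  refine ⟨(LinearMap.BilinForm.toDual (polarBilin Q) hQ).symm f, fun v => ?_⟩
  rw [LinearMap.BilinForm.apply_toDual_symm_apply]
  show Q (h v) = Q v + r v ^ 2
  rw [hr]
  linear_combination -Q v * CharTwo.two_eq_zero (R := F)

/-- The twisting vector of a fixed form is fixed and of trivial sign. -/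
theorem shift_props [Fintype V] (hQ : (polarBilin Q).Nondegenerate) {t : V ≃ₗ[F] V}
    (ht : t ∈ Geometry.orth Q) (ht2 : ∀ v, t (t v) = v) (h : V ≃ₗ[F] V) {a : V}
    (ha : ∀ v, Q (h v) = Q v + polarBilin Q a v ^ 2) (hinv : ∀ v, Q (h (t v)) = Q (h v)) :
    mov t a = 0 ∧ psi (Q a) = 1 := by
  refine ⟨hQ.1 _ fun v => ?_, ?_⟩
  · have e := hinv v
    rw [ha, ha, ht v] at e
    have e' := CharTwo.sq_injective (add_left_cancel e)
    rw [(isMov_orth ht ht2).adj, mov_apply, map_sub, e', sub_self]
  · have e : gauss Q = psi (Q a) * gauss Q := by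
      rw [← sum_psi_twist Q a]
      calc gauss Q = ∑ v, psi (Q (h v)) := (Equiv.sum_comp h.toEquiv fun v => psi (Q v)).symm
        _ = _ := Finset.sum_congr rfl fun v _ => by rw [ha]; rfl
    exact (mul_eq_right₀ (gauss_ne_zero hQ)).1 e.symm

/-- A centralising transvection realises a given twist. -/
theorem exists_comm_twist (hQ : (polarBilin Q).Nondegenerate) {N : V →ₗ[F] V}
    (hN : IsMov (polarBilin Q) N) {a : V} (hNa : N a = 0) (hpsi : psi (Q a) = 1) :
    ∃ k : V ≃ₗ[F] V, (∀ u v, polarBilin Q (k u) (k v) = polarBilin Q u v) ∧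
      (∀ v, k (N v) = N (k v)) ∧ ∀ v, Q (k v) = Q v + polarBilin Q a v ^ 2 := by
  obtain ⟨y, hy⟩ := (psi_eq_one_iff _).1 hpsi
  obtain ⟨c, hc⟩ : ∃ c : F, c + c ^ 2 * Q a = 1 := by
    by_cases h0 : Q a = 0
    · exact ⟨1, by rw [h0]; ring⟩
    · exact ⟨y / Q a, by field_simp; linear_combination hy⟩
  obtain ⟨k, hk, hkv⟩ := Geometry.exists_altTransv hQ (polar_isAlt Q) c a
  refine ⟨k, Geometry.altTransvGroup_preserves (polar_isAlt Q) hk, fun v => ?_, fun v => ?_⟩
  · rw [hkv, hkv, map_add, map_smul, hNa, smul_zero, add_zero,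
      show polarBilin Q (N v) a = 0 by rw [hN.adj, hNa, map_zero], mul_zero, zero_smul, add_zero]
  · rw [hkv, Geometry.map_add', Geometry.map_smul', Geometry.polar_smul_right',
      alt_comm (polar_isAlt Q) a v]
    simp only [polarBilin_apply_apply]
    linear_combination (polar Q v a) ^ 2 * hc

/-- Conjugacy under the isometries of the polar form implies orthogonal conjugacy. -/
theorem exists_orth_intertwine [Fintype V] (hQ : (polarBilin Q).Nondegenerate) {t t' : V ≃ₗ[F] V}
    (ht : t ∈ Geometry.orth Q) (ht2 : ∀ v, t (t v) = v) (ht' : t' ∈ Geometry.orth Q)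
    {h : V ≃ₗ[F] V} (hh : ∀ u v, polarBilin Q (h u) (h v) = polarBilin Q u v)
    (hcomm : ∀ v, h (mov t v) = mov t' (h v)) :
    ∃ g ∈ Geometry.orth Q, ∀ v, g (mov t v) = mov t' (g v) := by
  obtain ⟨a, ha⟩ := exists_shift hQ h hh
  obtain ⟨hNa, hpsi⟩ := shift_props hQ ht ht2 h ha fun v => by
    rw [comm_of_intertwine hcomm, ht']
  obtain ⟨k, -, hkN, hkQ⟩ := exists_comm_twist hQ (isMov_orth ht ht2) hNa hpsi
  refine ⟨h * k⁻¹, fun v => ?_, fun v => ?_⟩
  · show Q (h (k.symm v)) = Q v
    rw [ha, ← hkQ, LinearEquiv.apply_symm_apply]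
  · show h (k.symm (mov t v)) = mov t' (h (k.symm v))
    rw [comm_mov hkN, hcomm]

/-- Orthogonal conjugacy is decided by rank and type. -/
theorem exists_orth_conj_of_type [Fintype V] (hQ : (polarBilin Q).Nondegenerate) {t t' : V ≃ₗ[F] V}
    (ht : t ∈ Geometry.orth Q) (ht2 : ∀ v, t (t v) = v) (ht' : t' ∈ Geometry.orth Q)
    (ht2' : ∀ v, t' (t' v) = v)
    (hr : finrank F (LinearMap.range (mov t)) = finrank F (LinearMap.range (mov t')))
    (halt : (∀ v, polarBilin Q v (mov t v) = 0) ↔ ∀ v, polarBilin Q v (mov t' v) = 0) :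
    ∃ g ∈ Geometry.orth Q, ∀ v, g (mov t v) = mov t' (g v) := by
  obtain ⟨h, hh, hcomm⟩ := exists_intertwine_of_type hQ (polar_isAlt Q) (isMov_orth ht ht2)
    (isMov_orth ht' ht2') hr halt
  exact exists_orth_intertwine hQ ht ht2 ht' hh hcomm

omit [CharP F 2] [Finite F] in
theorem perp_range_iff {B : LinearMap.BilinForm F V} (hB : B.Nondegenerate) {N : V →ₗ[F] V}
    (hN : IsMov B N) (v : V) : (∀ x ∈ LinearMap.range N, B v x = 0) ↔ N v = 0 := by
  refine ⟨fun h => hB.1 _ fun y => ?_, fun h x ⟨y, hy⟩ => ?_⟩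
  · rw [hN.adj]; exact h _ (LinearMap.mem_range_self N y)
  · rw [← hy, ← hN.adj, h, map_zero, LinearMap.zero_apply]

/-- For alternating type the sign sum lives on the fixed space. -/
theorem gauss_eq_sum_fixed [Fintype V] [DecidableEq V] (hQ : (polarBilin Q).Nondegenerate)
    {t : V ≃ₗ[F] V} (ht : t ∈ Geometry.orth Q) (ht2 : ∀ v, t (t v) = v)
    (halt : ∀ v, polarBilin Q v (mov t v) = 0) :
    gauss Q = ∑ v ∈ Finset.univ.filter (fun v : V => mov t v = 0), psi (Q v) := by
  classical
  rw [gauss_eq_sum_perp (LinearMap.range (mov t))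
    (by rintro _ ⟨v, rfl⟩; exact (alt_iff_quad_mov ht).1 halt v)]
  refine Finset.sum_congr (Finset.filter_congr fun v _ => ?_) fun _ _ => rfl
  exact perp_range_iff hQ (isMov_orth ht ht2) v

/-- Alternating type of half-dimensional rank gives a totally singular half-dimensional subspace. -/
theorem alt_range_singular {t : V ≃ₗ[F] V} (ht : t ∈ Geometry.orth Q)
    (halt : ∀ v, polarBilin Q v (mov t v) = 0) : ∀ x ∈ LinearMap.range (mov t), Q x = 0 := by
  rintro _ ⟨v, rfl⟩
  exact (alt_iff_quad_mov ht).1 halt v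

omit [Finite F] in
theorem two_finrank_singular_le (hQ : (polarBilin Q).Nondegenerate) (X : Submodule F V)
    (hX : ∀ x ∈ X, Q x = 0) : 2 * finrank F X ≤ finrank F V := by
  have h1 : X ≤ LinearMap.BilinForm.orthogonal (polarBilin Q) X := fun x hx =>
    LinearMap.BilinForm.mem_orthogonal_iff.2 fun y hy => by
      show polar Q y x = 0
      rw [polar, hX _ (X.add_mem hy hx), hX y hy, hX x hx, sub_self, sub_self]
  have h2 := Submodule.finrank_mono h1
  have h3 := LinearMap.BilinForm.finrank_orthogonal hQ X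
  have h4 := Submodule.finrank_le X
  omega

/-- A nonsingular fixed vector, unless alternating of maximal rank. -/
theorem exists_nonsingular_fixed (hQ : (polarBilin Q).Nondegenerate) {t : V ≃ₗ[F] V}
    (ht : t ∈ Geometry.orth Q) (ht2 : ∀ v, t (t v) = v)
    (h : ¬((∀ v, polarBilin Q v (mov t v) = 0) ∧
      2 * finrank F (LinearMap.range (mov t)) = finrank F V)) :
    ∃ a, mov t a = 0 ∧ Q a ≠ 0 := by
  by_contra hcon
  push Not at hcon
  refine h ⟨(alt_iff_quad_mov ht).2 fun v => hcon _ ((isMov_orth ht ht2).sq v), ?_⟩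
  have h1 := two_finrank_singular_le hQ (LinearMap.ker (mov t)) fun x hx => hcon x hx
  have h2 := LinearMap.finrank_range_add_finrank_ker (mov t)
  have h3 := two_rank_le (isMov_orth ht ht2)
  omega

end CfsgLib.InvolTwo
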