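import Cfsg.Agent.Lib.InvolTwo.Orth
import Cfsg.Agent.Lib.InvolTwo.Classes
import Cfsg.Agent.Lib.Geometry.OrthMatrix

/-! Involutions of `Cfsg.isometryGroup` in characteristic two. -/

set_option autoImplicit false

namespace CfsgLib.InvolTwo.OrthGroup

open Module Matrix QuadraticMap CfsgLib.Geometry

variable {F : Type*} [Field F] {ι : Type} [Fintype ι] [DecidableEq ι]
variable {Q : QuadraticForm F (ι → F)}

/-- The underlying linear equivalence. -/
noncomputable abbrev lin (g : Cfsg.isometryGroup F ⇑Q) : (ι → F) ≃ₗ[F] (ι → F) :=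
  (isomEquiv Q g : (ι → F) ≃ₗ[F] (ι → F))

theorem lin_mem (g : Cfsg.isometryGroup F ⇑Q) : lin g ∈ orth Q := (isomEquiv Q g).2

theorem lin_mul (g h : Cfsg.isometryGroup F ⇑Q) (v : ι → F) : lin (g * h) v = lin g (lin h v) := by
  show (isomEquiv Q (g * h) : (ι → F) ≃ₗ[F] (ι → F)) v = _
  rw [map_mul]; rfl

theorem lin_one (v : ι → F) : lin (1 : Cfsg.isometryGroup F ⇑Q) v = v := by
  show (isomEquiv Q 1 : (ι → F) ≃ₗ[F] (ι → F)) v = v
  rw [map_one]; rfl

theorem lin_ext {g h : Cfsg.isometryGroup F ⇑Q} (e : ∀ v, lin g v = lin h v) : g = h :=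
  (isomEquiv Q).injective (Subtype.ext (LinearEquiv.ext e))

theorem lin_invol {g : Cfsg.isometryGroup F ⇑Q} (h : g * g = 1) (v : ι → F) :
    lin g (lin g v) = v := by rw [← lin_mul, h, lin_one]

theorem exists_lin_eq (e : (ι → F) ≃ₗ[F] (ι → F)) (he : e ∈ orth Q) :
    ∃ g : Cfsg.isometryGroup F ⇑Q, lin g = e :=
  ⟨(isomEquiv Q).symm ⟨e, he⟩, by simp [lin]⟩

theorem mov_lin (g : Cfsg.isometryGroup F ⇑Q) :
    mov (lin g) = Matrix.mulVecLin (((g : GL ι F) : Matrix ι ι F) - 1) :=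
  LinearMap.ext fun v => by simp [mov_apply, Matrix.sub_mulVec]

theorem rank_eq (g : Cfsg.isometryGroup F ⇑Q) :
    (((g : GL ι F) : Matrix ι ι F) - 1).rank = finrank F (LinearMap.range (mov (lin g))) := by
  rw [mov_lin]; rfl

/-- `B(v, g v) = 0` for all `v`. -/
def IsAltType (g : Cfsg.isometryGroup F ⇑Q) : Prop :=
  ∀ v : ι → F, polarBilin Q v (mov (lin g) v) = 0

variable [CharP F 2]

theorem conj_iff {g h : Cfsg.isometryGroup F ⇑Q} :
    IsConj g h ↔ ∃ c ∈ orth Q, ∀ v, c (mov (lin g) v) = mov (lin h) (c v) := by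
  constructor
  · intro hgh
    obtain ⟨c, rfl⟩ := isConj_iff.1 hgh
    refine ⟨lin c, lin_mem c, fun v => ?_⟩
    rw [mov_apply, mov_apply, map_sub, ← lin_mul, ← lin_mul, inv_mul_cancel_right]
  · rintro ⟨c, hc, hcv⟩
    obtain ⟨c, rfl⟩ := exists_lin_eq c hc
    refine isConj_iff.2 ⟨c, ?_⟩
    rw [mul_inv_eq_iff_eq_mul]
    refine lin_ext fun v => ?_
    rw [lin_mul, lin_mul]
    exact comm_of_intertwine hcv v

theorem mem_preserving_iff (c : GL ι F) :
    c ∈ Cfsg.preserving (Units.coeHom (Matrix ι ι F)) (fun u v => Q (u + v) - Q u - Q v) ↔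
      ∀ u v, polarBilin Q (glEquiv c u) (glEquiv c v) = polarBilin Q u v := by
  simp only [polarBilin_apply_apply, polar, glEquiv_apply]
  rfl

theorem conj_invariants {g h : Cfsg.isometryGroup F ⇑Q} (hgh : IsConj g h) :
    (((g : GL ι F) : Matrix ι ι F) - 1).rank = (((h : GL ι F) : Matrix ι ι F) - 1).rank ∧
      (IsAltType g ↔ IsAltType h) := by
  obtain ⟨c, hc, hcv⟩ := conj_iff.1 hgh
  refine ⟨?_, ?_⟩
  · rw [rank_eq, rank_eq]
    have e : mov (lin h) = c.toLinearMap ∘ₗ mov (lin g) ∘ₗ c.symm.toLinearMap :=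
      LinearMap.ext fun v => by
        simp only [LinearMap.comp_apply, LinearEquiv.coe_coe, hcv, LinearEquiv.apply_symm_apply]
    rw [e, LinearMap.range_comp, LinearEquiv.finrank_map_eq, LinearMap.range_comp_of_range_eq_top]
    exact LinearEquiv.range _
  · have key : ∀ v, polarBilin Q (c v) (mov (lin h) (c v)) = polarBilin Q v (mov (lin g) v) :=
      fun v => by rw [← hcv]; exact orth_polar hc _ _
    refine ⟨fun H v => ?_, fun H v => ?_⟩
    · obtain ⟨w, rfl⟩ := c.surjective v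
      rw [key]; exact H w
    · rw [← key]; exact H _

theorem isMov {g : Cfsg.isometryGroup F ⇑Q} (h : g * g = 1) :
    IsMov (polarBilin Q) (mov (lin g)) :=
  isMov_orth (lin_mem g) (lin_invol h)

theorem conj_of_type [Fintype F] (hQ : (polarBilin Q).Nondegenerate)
    {g h : Cfsg.isometryGroup F ⇑Q} (hg : g * g = 1) (hh : h * h = 1)
    (hr : (((g : GL ι F) : Matrix ι ι F) - 1).rank = (((h : GL ι F) : Matrix ι ι F) - 1).rank)
    (ht : IsAltType g ↔ IsAltType h) : IsConj g h := by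
  rw [rank_eq, rank_eq] at hr
  exact conj_iff.2 (exists_orth_conj_of_type hQ (lin_mem g) (lin_invol hg) (lin_mem h) (lin_invol hh)
    hr ht)

/-- Orthogonal conjugacy is conjugacy under the isometries of the polar form. -/
theorem conj_iff_preserving [Fintype F] (hQ : (polarBilin Q).Nondegenerate)
    {g h : Cfsg.isometryGroup F ⇑Q} (hg : g * g = 1) :
    IsConj g h ↔ ∃ c ∈ Cfsg.preserving (Units.coeHom (Matrix ι ι F))
      (fun u v => Q (u + v) - Q u - Q v), c * (g : GL ι F) * c⁻¹ = (h : GL ι F) := by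
  constructor
  · intro hgh
    obtain ⟨c, rfl⟩ := isConj_iff.1 hgh
    exact ⟨(c : GL ι F), (mem_preserving_iff _).2 fun u v => orth_polar (lin_mem c) u v, by simp⟩
  · rintro ⟨c, hc, hcg⟩
    refine conj_iff.2 (exists_orth_intertwine hQ (lin_mem g) (lin_invol hg) (lin_mem h)
      ((mem_preserving_iff c).1 hc) fun v => ?_)
    have e : glEquiv (c * (g : GL ι F)) v = glEquiv ((h : GL ι F) * c) v := by
      rw [← hcg, inv_mul_cancel_right]
    rw [map_mul, map_mul] at e
    simp only [mov_apply, map_sub]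
    exact congrArg (· - _) e

theorem even_rank [Finite F] (hQ : (polarBilin Q).Nondegenerate) {g : Cfsg.isometryGroup F ⇑Q}
    (hg : g * g = 1) (h : IsAltType g) : Even (((g : GL ι F) : Matrix ι ι F) - 1).rank := by
  rw [rank_eq]
  exact even_rank_of_alt hQ (polar_isAlt Q) (isMov hg) h

theorem rank_pos {g : Cfsg.isometryGroup F ⇑Q} (hg : g ≠ 1) :
    0 < (((g : GL ι F) : Matrix ι ι F) - 1).rank := by
  rw [rank_eq, Nat.pos_iff_ne_zero, Ne, Submodule.finrank_eq_zero, LinearMap.range_eq_bot]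
  refine fun h => hg (lin_ext fun v => ?_)
  rw [apply_eq_add_mov, h, LinearMap.zero_apply, add_zero, lin_one]

theorem two_rank_le {g : Cfsg.isometryGroup F ⇑Q} (hg : g * g = 1) :
    2 * (((g : GL ι F) : Matrix ι ι F) - 1).rank ≤ Fintype.card ι := by
  rw [rank_eq]
  simpa using InvolTwo.two_rank_le (isMov hg)

theorem alt_iff_Q (g : Cfsg.isometryGroup F ⇑Q) :
    IsAltType g ↔ ∀ v : ι → F, Q ((((g : GL ι F) : Matrix ι ι F) - 1) *ᵥ v) = 0 := by
  rw [IsAltType, alt_iff_quad_mov (lin_mem g), mov_lin]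
  rfl

theorem exists_of_mov {N : (ι → F) →ₗ[F] (ι → F)} (hN : IsMov (polarBilin Q) N)
    (hNQ : ∀ v, Q (N v) = polarBilin Q v (N v)) :
    ∃ g : Cfsg.isometryGroup F ⇑Q, g * g = 1 ∧ mov (lin g) = N := by
  obtain ⟨g, hg⟩ := exists_lin_eq (addMov hN) fun v => by
    rw [addMov_apply, map_add', hNQ, polarBilin_apply_apply]
    linear_combination polar Q v (N v) * CharTwo.two_eq_zero (R := F)
  refine ⟨g, lin_ext fun v => ?_, by rw [hg, mov_addMov]⟩
  rw [lin_mul, hg, addMov_addMov, lin_one]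

omit [DecidableEq ι] in
theorem quad_sum {κ : Type} [Fintype κ] {w : κ → (ι → F)}
    (hw : ∀ i j, polarBilin Q (w i) (w j) = 0) (c : κ → F) :
    Q (∑ i, c i • w i) = ∑ i, c i ^ 2 * Q (w i) := by
  classical
  suffices H : ∀ s : Finset κ, Q (∑ i ∈ s, c i • w i) = ∑ i ∈ s, c i ^ 2 * Q (w i) from H _
  intro s
  induction s using Finset.induction_on with
  | empty => simp
  | insert a s ha ih =>
    rw [Finset.sum_insert ha, Finset.sum_insert ha, map_add', ih, Geometry.map_smul',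
      show polar Q (c a • w a) (∑ i ∈ s, c i • w i) = 0 by
        rw [← polarBilin_apply_apply, map_sum]
        exact Finset.sum_eq_zero fun i _ => by simp [← polarBilin_apply_apply, hw], _root_.sq]
    ring

theorem exists_diag [Finite F] (hQ : (polarBilin Q).Nondegenerate) {s : ℕ} (hs : 1 ≤ s)
    (w : Fin s → (ι → F)) (hind : LinearIndependent F w) (hw : ∀ i j, polarBilin Q (w i) (w j) = 0)
    (hwQ : ∀ i, Q (w i) = 1) :
    ∃ g : Cfsg.isometryGroup F ⇑Q, orderOf g = 2 ∧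
      (((g : GL ι F) : Matrix ι ι F) - 1).rank = s ∧ ¬IsAltType g := by
  have hN := isMov_build (polar_isAlt Q) (σ := id) (fun i => rfl) hw
  obtain ⟨g, hg, hgN⟩ := exists_of_mov hN fun v => by
    rw [buildMov_apply, quad_sum (w := fun i => w (id i)) hw, map_sum]
    simp only [hwQ, id, mul_one, map_smul, smul_eq_mul, _root_.sq]
  have hr : (((g : GL ι F) : Matrix ι ι F) - 1).rank = s := by
    rw [rank_eq, hgN, range_build hQ (fun i => rfl) hind, Fintype.card_fin]
  have : Nonempty (Fin s) := ⟨⟨0, hs⟩⟩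
  obtain ⟨v, hv⟩ := build_id_nonalt hQ hind
  refine ⟨g, orderOf_eq_two hg fun h => ?_, hr, fun h => hv (hgN ▸ h v)⟩
  rw [h] at hr
  simp at hr
  omega

theorem exists_pairs [Finite F] (hQ : (polarBilin Q).Nondegenerate) {k : ℕ} (hk : 1 ≤ k)
    (w : Fin k ⊕ Fin k → (ι → F)) (hind : LinearIndependent F w)
    (hw : ∀ i j, polarBilin Q (w i) (w j) = 0) (hwQ : ∀ i, Q (w i) = 0) :
    ∃ g : Cfsg.isometryGroup F ⇑Q, orderOf g = 2 ∧
      (((g : GL ι F) : Matrix ι ι F) - 1).rank = 2 * k ∧ IsAltType g := by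
  have hN := isMov_build (polar_isAlt Q) (σ := Sum.swap) (fun i => Sum.swap_swap i) hw
  obtain ⟨g, hg, hgN⟩ := exists_of_mov hN fun v => by
    rw [build_swap_alt (polar_isAlt Q), buildMov_apply,
      quad_sum (w := fun i => w (Sum.swap i)) (fun i j => hw _ _)]
    simp [hwQ]
  have hr : (((g : GL ι F) : Matrix ι ι F) - 1).rank = 2 * k := by
    rw [rank_eq, hgN, range_build hQ (fun i => Sum.swap_swap i) hind]
    simp; omega
  refine ⟨g, orderOf_eq_two hg fun h => ?_, hr, fun v => by rw [hgN, build_swap_alt (polar_isAlt Q)]⟩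
  rw [h] at hr
  simp at hr
  omega

/-- Counting the classes of involutions of the orthogonal group. -/
theorem card_classes [Fintype F] (hQ : (polarBilin Q).Nondegenerate) {m A : ℕ}
    (hn : Fintype.card ι = 2 * m)
    (hdiag : ∀ s, 1 ≤ s → s ≤ m → ∃ g : Cfsg.isometryGroup F ⇑Q, orderOf g = 2 ∧
      (((g : GL ι F) : Matrix ι ι F) - 1).rank = s ∧ ¬IsAltType g)
    (hpairs : ∀ k, 1 ≤ k → 2 * k ≤ A → ∃ g : Cfsg.isometryGroup F ⇑Q, orderOf g = 2 ∧
      (((g : GL ι F) : Matrix ι ι F) - 1).rank = 2 * k ∧ IsAltType g)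
    (hbound : ∀ g : Cfsg.isometryGroup F ⇑Q, g * g = 1 → IsAltType g →
      (((g : GL ι F) : Matrix ι ι F) - 1).rank ≤ A) :
    Nat.card {C : ConjClasses ↥(Cfsg.isometryGroup F ⇑Q) //
      ∃ g : ↥(Cfsg.isometryGroup F ⇑Q), ConjClasses.mk g = C ∧ orderOf g = 2} = m + A / 2 := by
  classical
  choose f hf hfr hfa using fun i : Fin m => hdiag ((i : ℕ) + 1) (Nat.le_add_left 1 _) i.isLt
  choose e he her hea using fun j : Fin (A / 2) =>
    hpairs ((j : ℕ) + 1) (Nat.le_add_left 1 _) (by have := j.isLt; omega)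
  rw [card_invol_classes (Sum.elim f e) (by rintro (i | j); exacts [hf i, he j])]
  · simp
  · rintro (i | j) (i' | j') h <;>
      obtain ⟨hr, ht⟩ := conj_invariants h <;>
      simp only [Sum.elim_inl, Sum.elim_inr, hfr, her] at hr ht
    · exact congrArg Sum.inl (Fin.ext (by omega))
    · exact absurd (ht.2 (hea j')) (hfa i)
    · exact absurd (ht.1 (hea j)) (hfa i')
    · exact congrArg Sum.inr (Fin.ext (by omega))
  · intro x hx
    have hxx := sq_eq_one_of_orderOf hx
    have hpos := rank_pos (ne_one_of_orderOf hx)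
    have hle := two_rank_le hxx
    by_cases ha : IsAltType x
    · obtain ⟨k, hk⟩ := even_rank hQ hxx ha
      have := hbound x hxx ha
      exact ⟨Sum.inr ⟨k - 1, by omega⟩, conj_of_type hQ hxx (sq_eq_one_of_orderOf (he _))
        (by rw [Sum.elim_inr, her]; simp only; omega) ⟨fun _ => hea _, fun _ => ha⟩⟩
    · exact ⟨Sum.inl ⟨_ - 1, lt_of_lt_of_le (Nat.sub_lt hpos one_pos) (by omega)⟩,
        conj_of_type hQ hxx (sq_eq_one_of_orderOf (hf _))
        (by rw [Sum.elim_inl, hfr]; simp only; omega)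
        ⟨fun h => absurd h ha, fun h => absurd h (hfa _)⟩⟩

end CfsgLib.InvolTwo.OrthGroup
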