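import Cfsg.Agent.Lib.InvolTwo.Build
import Cfsg.Agent.Lib.InvolTwo.Classes
import Cfsg.Agent.Lib.Geometry.Symplectic

/-! Involutions of the matrix symplectic group in characteristic two. -/

set_option autoImplicit false

namespace CfsgLib.InvolTwo.SpMatrix

open Module Matrix CfsgLib.Geometry

variable {F : Type*} [Field F] {m : ℕ}

local notation "Sp" => Matrix.symplecticGroup (Fin m) F
local notation "VV" => (Fin m ⊕ Fin m → F)

theorem mov_spEquiv (A : Sp) :
    mov (spEquiv m F A) = Matrix.mulVecLin ((A : Matrix _ _ F) - 1) :=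
  LinearMap.ext fun v => by simp [mov_apply, Matrix.sub_mulVec]

theorem rank_eq (A : Sp) :
    ((A : Matrix (Fin m ⊕ Fin m) (Fin m ⊕ Fin m) F) - 1).rank =
      finrank F (LinearMap.range (mov (spEquiv m F A))) := by
  rw [mov_spEquiv]; rfl

theorem form_eq (A : Sp) (v : VV) :
    Cfsg.sympForm m F v ((A : Matrix _ _ F) *ᵥ v) = sympBilin m F v (mov (spEquiv m F A) v) := by
  rw [mov_apply, map_sub, (sympBilin_isAlt m F).self_eq_zero, sub_zero]
  rfl

theorem invol {A : Sp} (h : A * A = 1) (v : VV) : spEquiv m F A (spEquiv m F A v) = v := by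
  rw [← LinearEquiv.mul_apply, ← map_mul, h, map_one]
  rfl

variable [CharP F 2]

theorem isMov {A : Sp} (h : A * A = 1) : IsMov (sympBilin m F) (mov (spEquiv m F A)) :=
  isMov_mov (spEquiv_preserves m F A) (invol h)

/-- Altness of the form attached to an involution. -/
def IsAltType (A : Sp) : Prop :=
  ∀ v : VV, Cfsg.sympForm m F v ((A : Matrix _ _ F) *ᵥ v) = 0

omit [CharP F 2] in
theorem conj_invariants {A C : Sp} (h : IsConj A C) :
    ((A : Matrix (Fin m ⊕ Fin m) (Fin m ⊕ Fin m) F) - 1).rank =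
      ((C : Matrix (Fin m ⊕ Fin m) (Fin m ⊕ Fin m) F) - 1).rank ∧
    Nat.card {v : VV // Cfsg.sympForm m F v ((A : Matrix _ _ F) *ᵥ v) = 0} =
      Nat.card {v : VV // Cfsg.sympForm m F v ((C : Matrix _ _ F) *ᵥ v) = 0} ∧
    (IsAltType A ↔ IsAltType C) := by
  obtain ⟨g, hg⟩ := isConj_iff.1 h
  set E := spEquiv m F g with hE
  have hcomm : ∀ v, E (spEquiv m F A v) = spEquiv m F C (E v) := fun v => by
    simp only [hE, ← LinearEquiv.mul_apply, ← map_mul]
    rw [show C * g = g * A by rw [← hg]; group]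
  have hform : ∀ v : VV, Cfsg.sympForm m F (E v) ((C : Matrix _ _ F) *ᵥ E v) =
      Cfsg.sympForm m F v ((A : Matrix _ _ F) *ᵥ v) := fun v => by
    rw [← spEquiv_apply m F C, ← hcomm, ← spEquiv_apply m F A, ← sympBilin_apply, ← sympBilin_apply,
      hE, spEquiv_preserves]
  refine ⟨?_, ?_, ?_⟩
  · rw [rank_eq, rank_eq]
    have e : mov (spEquiv m F C) =
        E.toLinearMap ∘ₗ mov (spEquiv m F A) ∘ₗ E.symm.toLinearMap := LinearMap.ext fun v => by
      obtain ⟨w, rfl⟩ := E.surjective v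
      simp only [LinearMap.comp_apply, LinearEquiv.coe_coe, LinearEquiv.symm_apply_apply,
        mov_apply, map_sub, hcomm]
    rw [e, LinearMap.range_comp, LinearEquiv.finrank_map_eq, LinearMap.range_comp_of_range_eq_top]
    exact LinearEquiv.range _
  · refine Nat.card_congr (Equiv.subtypeEquiv E.toEquiv fun v => ?_)
    show _ ↔ Cfsg.sympForm m F (E v) _ = 0
    rw [← hform v]
    rfl
  · refine ⟨fun h v => ?_, fun h v => by rw [← hform v]; exact h _⟩
    obtain ⟨w, rfl⟩ := E.surjective v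
    rw [hform]
    exact h w

theorem conj_of_type [Finite F] {A C : Sp} (hA : A * A = 1) (hC : C * C = 1)
    (hr : ((A : Matrix (Fin m ⊕ Fin m) (Fin m ⊕ Fin m) F) - 1).rank =
      ((C : Matrix (Fin m ⊕ Fin m) (Fin m ⊕ Fin m) F) - 1).rank)
    (ht : IsAltType A ↔ IsAltType C) : IsConj A C := by
  rw [rank_eq, rank_eq] at hr
  obtain ⟨g, hg, hgN⟩ := exists_intertwine_of_type (sympBilin_nondegenerate m F)
    (sympBilin_isAlt m F) (isMov hA) (isMov hC) hr
    ⟨fun h v => by rw [← form_eq]; exact ht.1 (fun w => by rw [form_eq]; exact h w) v,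
      fun h v => by rw [← form_eq]; exact ht.2 (fun w => by rw [form_eq]; exact h w) v⟩
  obtain ⟨g', rfl⟩ := exists_spEquiv_eq m F g hg
  refine isConj_iff.2 ⟨g', spEquiv_injective m F (LinearEquiv.ext fun v => ?_)⟩
  obtain ⟨w, rfl⟩ := (spEquiv m F g').surjective v
  rw [map_mul, map_mul, map_inv, LinearEquiv.mul_apply, LinearEquiv.mul_apply]
  show spEquiv m F g' (spEquiv m F A ((spEquiv m F g').symm (spEquiv m F g' w))) = _
  rw [LinearEquiv.symm_apply_apply, comm_of_intertwine hgN]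

theorem even_rank [Finite F] {A : Sp} (hA : A * A = 1) (h : IsAltType A) :
    Even ((A : Matrix (Fin m ⊕ Fin m) (Fin m ⊕ Fin m) F) - 1).rank := by
  rw [rank_eq]
  exact even_rank_of_alt (sympBilin_nondegenerate m F) (sympBilin_isAlt m F) (isMov hA)
    fun v => by rw [← form_eq]; exact h v

theorem rank_pos {A : Sp} (hA : A ≠ 1) :
    0 < ((A : Matrix (Fin m ⊕ Fin m) (Fin m ⊕ Fin m) F) - 1).rank := by
  rw [rank_eq, Nat.pos_iff_ne_zero, Ne, Submodule.finrank_eq_zero, LinearMap.range_eq_bot]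
  refine fun h => hA (spEquiv_injective m F (LinearEquiv.ext fun v => ?_))
  rw [map_one, apply_eq_add_mov, h, LinearMap.zero_apply, add_zero]
  rfl

theorem rank_le {A : Sp} (hA : A * A = 1) :
    ((A : Matrix (Fin m ⊕ Fin m) (Fin m ⊕ Fin m) F) - 1).rank ≤ m := by
  rw [rank_eq]
  have := two_rank_le (isMov hA)
  rw [Module.finrank_fintype_fun_eq_card] at this
  simp at this
  omega

omit [CharP F 2] in
/-- Independent mutually orthogonal vectors. -/
theorem exists_isotropic {ι : Type} (e : ι → Fin m) (he : Function.Injective e) :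
    ∃ w : ι → VV, LinearIndependent F w ∧ ∀ i j, sympBilin m F (w i) (w j) = 0 :=
  ⟨fun i => Pi.single (Sum.inl (e i)) 1,
    (Pi.linearIndependent_single_one (Fin m ⊕ Fin m) F).comp _ (Sum.inl_injective.comp he),
    fun i j => by simp [sympForm_eq]⟩

theorem exists_of_mov {N : VV →ₗ[F] VV} (hN : IsMov (sympBilin m F) N) :
    ∃ A : Sp, A * A = 1 ∧ mov (spEquiv m F A) = N := by
  obtain ⟨A, hA⟩ := exists_spEquiv_eq m F (addMov hN) (addMov_preserves hN)
  refine ⟨A, spEquiv_injective m F (LinearEquiv.ext fun v => ?_), by rw [hA, mov_addMov]⟩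
  rw [map_mul, LinearEquiv.mul_apply, hA, addMov_addMov, map_one]
  rfl

theorem exists_diag (s : ℕ) (hs1 : 1 ≤ s) (hsm : s ≤ m) :
    ∃ A : Sp, orderOf A = 2 ∧ ((A : Matrix (Fin m ⊕ Fin m) (Fin m ⊕ Fin m) F) - 1).rank = s ∧
      ¬IsAltType A := by
  obtain ⟨w, hind, hw⟩ := exists_isotropic (F := F) (Fin.castLE hsm) (Fin.castLE_injective hsm)
  have hN := isMov_build (sympBilin_isAlt m F) (σ := id) (fun i => rfl) hw
  obtain ⟨A, hA, hAN⟩ := exists_of_mov hN
  have hr : ((A : Matrix (Fin m ⊕ Fin m) (Fin m ⊕ Fin m) F) - 1).rank = s := by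
    rw [rank_eq, hAN, range_build (sympBilin_nondegenerate m F) (fun i => rfl) hind,
      Fintype.card_fin]
  haveI : Nonempty (Fin s) := ⟨⟨0, hs1⟩⟩
  obtain ⟨v, hv⟩ := build_id_nonalt (sympBilin_nondegenerate m F) hind
  refine ⟨A, orderOf_eq_two hA fun h => ?_, hr, fun h => hv ?_⟩
  · rw [h] at hr
    simp at hr
    omega
  · rw [← hAN, ← form_eq]; exact h v

theorem exists_pairs (k : ℕ) (hk1 : 1 ≤ k) (hkm : 2 * k ≤ m) :
    ∃ A : Sp, orderOf A = 2 ∧ ((A : Matrix (Fin m ⊕ Fin m) (Fin m ⊕ Fin m) F) - 1).rank = 2 * k ∧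
      IsAltType A := by
  obtain ⟨w, hind, hw⟩ := exists_isotropic (F := F)
    (Fin.castLE (show k + k ≤ m by omega) ∘ finSumFinEquiv)
    ((Fin.castLE_injective _).comp finSumFinEquiv.injective)
  have hN := isMov_build (sympBilin_isAlt m F) (σ := Sum.swap) (fun i => Sum.swap_swap i) hw
  obtain ⟨A, hA, hAN⟩ := exists_of_mov hN
  have hr : ((A : Matrix (Fin m ⊕ Fin m) (Fin m ⊕ Fin m) F) - 1).rank = 2 * k := by
    rw [rank_eq, hAN, range_build (sympBilin_nondegenerate m F) (fun i => Sum.swap_swap i) hind]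
    simp; omega
  refine ⟨A, orderOf_eq_two hA fun h => ?_, hr, fun v => ?_⟩
  · rw [h] at hr
    simp at hr
    omega
  · rw [form_eq, hAN, build_swap_alt (sympBilin_isAlt m F)]

end CfsgLib.InvolTwo.SpMatrix
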