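import Cfsg.Agent.Lib.InvolTwo.CentCount
import Cfsg.Agent.Lib.InvolTwo.SpMatrix

/-! Centraliser orders of involutions of `Sp_{2m}(q)`, `q` even. -/

set_option autoImplicit false

namespace CfsgLib.InvolTwo

open Module

universe u v

/-- `s(s-1)/2` twice. -/
theorem half_pairs (s : ℕ) : 2 * (s * (s - 1) / 2) + s = s * s := by
  rcases s with _ | s
  · rfl
  · obtain ⟨a, ha⟩ := Nat.even_mul_succ_self s
    have h1 : (s + 1) * (s + 1 - 1) = s * (s + 1) := by rw [Nat.add_sub_cancel, mul_comm]
    have h2 : (s + 1) * (s + 1) = s * (s + 1) + (s + 1) := by ring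
    omega

section Abstract

variable {F : Type u} {V : Type v} [Field F] [CharP F 2] [Finite F] [AddCommGroup V] [Module F V]
  [FiniteDimensional F V]
variable {B : LinearMap.BilinForm F V} {N : V →ₗ[F] V}

theorem cent_cancel {q c a b e x : ℕ} (hq : 0 < q) (h : c * q ^ a = x * q ^ b * e)
    {d : ℕ} (hd : d + a = b) : c = q ^ d * x * e := by
  refine Nat.eq_of_mul_eq_mul_right (pow_pos hq a) ?_
  rw [h, ← hd, pow_add]
  ring

/-- Centraliser order, alternating type of rank `2k`. -/
theorem card_cent_alt (hB : B.Nondegenerate) (hA : B.IsAlt) (hN : IsMov B N)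
    (halt : ∀ v, B v (N v) = 0) {m k : ℕ} (hV : finrank F V = 2 * m)
    (hk : finrank F (LinearMap.range N) = 2 * k) :
    Nat.card (Cent B N) =
      Nat.card F ^ (2 * m * (2 * k) - (3 * (2 * k) ^ 2 - 2 * k) / 2) * spOrder (Nat.card F) k *
        spOrder (Nat.card F) (m - 2 * k) := by
  obtain ⟨k', u, h⟩ := exists_frame_alt hB hN hA halt
  have hc := h.finrank_range hN
  rw [hk] at hc
  have hle := two_rank_le hN
  rw [hk, hV] at hle
  obtain rfl : k' = k := by simp at hc; omega
  have hs : Fintype.card (Fin k' ⊕ Fin k') = 2 * k' := by simp; omega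
  have := card_cent_mul hB hA hN h (r := m - 2 * k') (by rw [hV, hs]; omega)
  rw [card_coordIso_swap, hs] at this
  refine cent_cancel Nat.card_pos this ?_
  obtain ⟨r, rfl⟩ := Nat.exists_eq_add_of_le (show 2 * k' ≤ m by omega)
  rw [Nat.add_sub_cancel_left]
  have e1 : 2 * (2 * k' + r) * (2 * k') = 2 * (2 * k' * (2 * k')) + 2 * (r * (2 * k')) := by ring
  have e2 : (2 * k' + 2 * r) * (2 * k') = 2 * k' * (2 * k') + 2 * (r * (2 * k')) := by ring
  have e3 := half_pairs (2 * k')
  rw [e1, e2, sq]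
  omega

/-- Centraliser order, diagonal type of odd rank. -/
theorem card_cent_odd (hB : B.Nondegenerate) (hA : B.IsAlt) (hN : IsMov B N)
    {m k : ℕ} (hV : finrank F V = 2 * m) (hk : finrank F (LinearMap.range N) = 2 * k + 1) :
    Nat.card (Cent B N) =
      Nat.card F ^ (2 * m * (2 * k + 1) - (3 * (2 * k + 1) ^ 2 - (2 * k + 1)) / 2) *
        spOrder (Nat.card F) k * spOrder (Nat.card F) (m - (2 * k + 1)) := by
  have hna : ¬∀ v, B v (N v) = 0 := fun halt => by
    have := even_rank_of_alt hB hA hN halt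
    rw [hk] at this
    exact Nat.not_even_two_mul_add_one k this
  push Not at hna
  obtain ⟨n, u, h⟩ := exists_frame_diag hB hN hA hna
  have hc := h.finrank_range hN
  rw [hk, Fintype.card_fin] at hc
  subst hc
  have hle := two_rank_le hN
  rw [hk, hV] at hle
  have := card_cent_mul hB hA hN h (r := m - (2 * k + 1)) (by rw [hV, Fintype.card_fin]; omega)
  rw [card_coordIso_id, card_isom_dot_odd, Fintype.card_fin] at this
  refine cent_cancel Nat.card_pos this ?_
  obtain ⟨r, rfl⟩ := Nat.exists_eq_add_of_le (show 2 * k + 1 ≤ m by omega)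
  rw [Nat.add_sub_cancel_left]
  generalize 2 * k + 1 = s
  have e1 : 2 * (s + r) * s = 2 * (s * s) + 2 * (r * s) := by ring
  have e2 : (s + 2 * r) * s = s * s + 2 * (r * s) := by ring
  have e3 := half_pairs s
  rw [e1, e2, sq]
  omega

/-- Centraliser order, diagonal type of even rank. -/
theorem card_cent_even (hB : B.Nondegenerate) (hA : B.IsAlt) (hN : IsMov B N)
    (hna : ∃ v, B v (N v) ≠ 0) {m k : ℕ} (hV : finrank F V = 2 * m)
    (hk : finrank F (LinearMap.range N) = 2 * k + 2) :
    Nat.card (Cent B N) =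
      Nat.card F ^ (2 * m * (2 * k + 2) - (3 * (2 * k + 2) ^ 2 - 3 * (2 * k + 2)) / 2 - 1) *
        spOrder (Nat.card F) k * spOrder (Nat.card F) (m - (2 * k + 2)) := by
  obtain ⟨n, u, h⟩ := exists_frame_diag hB hN hA hna
  have hc := h.finrank_range hN
  rw [hk, Fintype.card_fin] at hc
  subst hc
  have hle := two_rank_le hN
  rw [hk, hV] at hle
  have := card_cent_mul hB hA hN h (r := m - (2 * k + 2)) (by rw [hV, Fintype.card_fin]; omega)
  rw [card_coordIso_id, card_isom_dot_even, Fintype.card_fin,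
    mul_comm (Nat.card F ^ (2 * k + 1)) (spOrder (Nat.card F) k),
    mul_assoc (spOrder (Nat.card F) k), ← pow_add] at this
  refine cent_cancel Nat.card_pos this ?_
  obtain ⟨r, rfl⟩ := Nat.exists_eq_add_of_le (show 2 * k + 2 ≤ m by omega)
  rw [Nat.add_sub_cancel_left, show 2 * k + 1 = 2 * k + 2 - 1 by omega]
  have hs : 1 ≤ 2 * k + 2 := by omega
  revert hs
  generalize 2 * k + 2 = s
  intro hs
  have e1 : 2 * (s + r) * s = 2 * (s * s) + 2 * (r * s) := by ring
  have e2 : (s + 2 * r) * s = s * s + 2 * (r * s) := by ring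
  have e3 := half_pairs s
  have e4 : 1 ≤ s * s := Nat.mul_pos hs hs
  rw [e1, e2, sq]
  omega

end Abstract

namespace SpMatrix

open Matrix CfsgLib.Geometry

variable {F : Type*} [Field F] [CharP F 2] {m : ℕ}

omit [CharP F 2] in
/-- The centraliser as isometries commuting with `t - 1`. -/
theorem card_centralizer (t : Matrix.symplecticGroup (Fin m) F) :
    Nat.card ↥(Subgroup.centralizer ({t} : Set ↥(Matrix.symplecticGroup (Fin m) F))) =
      Nat.card (Cent (sympBilin m F) (mov (spEquiv m F t))) := by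
  have hcomm : ∀ g : Matrix.symplecticGroup (Fin m) F,
      g ∈ Subgroup.centralizer ({t} : Set ↥(Matrix.symplecticGroup (Fin m) F)) ↔
        ∀ v, spEquiv m F g (mov (spEquiv m F t) v) = mov (spEquiv m F t) (spEquiv m F g v) := by
    intro g
    rw [Subgroup.mem_centralizer_singleton_iff, ← (spEquiv_injective m F).eq_iff, LinearEquiv.ext_iff]
    refine forall_congr' fun v => ?_
    simp only [map_mul, LinearEquiv.mul_apply, mov_apply, map_sub]
    exact (sub_left_inj).symm
  refine Nat.card_congr (Equiv.ofBijective (fun g =>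
    (⟨⟨spEquiv m F g.1, spEquiv_preserves m F g.1⟩, (hcomm g.1).1 g.2⟩ :
      Cent (sympBilin m F) (mov (spEquiv m F t)))) ⟨fun a b h => ?_, fun g => ?_⟩)
  · exact Subtype.ext (spEquiv_injective m F (congrArg (fun x : Cent _ _ => x.1.1) h))
  · obtain ⟨A, hA⟩ := exists_spEquiv_eq m F g.1.1 g.1.2
    exact ⟨⟨A, (hcomm A).2 (by rw [hA]; exact g.2)⟩, Subtype.ext (Subtype.ext hA)⟩

omit [CharP F 2] in
theorem finrank_space : finrank F (Fin m ⊕ Fin m → F) = 2 * m := by simp; omega

end SpMatrix

end CfsgLib.InvolTwo
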