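import Cfsg.Agent.Lib.InvolTwo.OrthGroup
import Cfsg.Agent.Lib.Geometry.AutStd

/-! Involutions of the standard plus and minus orthogonal groups in characteristic two. -/

set_option autoImplicit false

namespace CfsgLib.InvolTwo.StdTypes

open Module Matrix QuadraticMap CfsgLib.Geometry CfsgLib.InvolTwo.OrthGroup

variable {F : Type*} [Field F]

theorem polar_plus (m : ℕ) (u v : Fin m ⊕ Fin m → F) :
    polarBilin (matQuad (plusMat m F)) u v =
      ∑ i, (u (Sum.inl i) * v (Sum.inr i) + u (Sum.inr i) * v (Sum.inl i)) := by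
  rw [polarBilin_apply_apply, polar, coe_matQuad_plus]
  simp only [Cfsg.quadFormPlus, ← Finset.sum_sub_distrib, Pi.add_apply]
  exact Finset.sum_congr rfl fun i _ => by ring

theorem polar_minus (n : ℕ) (a b : F) (u v : (Fin n ⊕ Fin n) ⊕ Fin 2 → F) :
    polarBilin (matQuad (minusMat n F a b)) u v =
      (∑ i, (u (Sum.inl (Sum.inl i)) * v (Sum.inl (Sum.inr i)) +
        u (Sum.inl (Sum.inr i)) * v (Sum.inl (Sum.inl i)))) +
      (2 * u (Sum.inr 0) * v (Sum.inr 0) + a * (u (Sum.inr 0) * v (Sum.inr 1) +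
        u (Sum.inr 1) * v (Sum.inr 0)) + 2 * b * u (Sum.inr 1) * v (Sum.inr 1)) := by
  rw [polarBilin_apply_apply, polar, coe_matQuad_minus]
  simp only [Cfsg.quadFormMinus, Pi.add_apply]
  have : (∑ i, (u (Sum.inl (Sum.inl i)) + v (Sum.inl (Sum.inl i))) *
      (u (Sum.inl (Sum.inr i)) + v (Sum.inl (Sum.inr i)))) =
      (∑ i, u (Sum.inl (Sum.inl i)) * u (Sum.inl (Sum.inr i))) +
      (∑ i, v (Sum.inl (Sum.inl i)) * v (Sum.inl (Sum.inr i))) +
      ∑ i, (u (Sum.inl (Sum.inl i)) * v (Sum.inl (Sum.inr i)) +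
        u (Sum.inl (Sum.inr i)) * v (Sum.inl (Sum.inl i))) := by
    simp only [← Finset.sum_add_distrib]
    exact Finset.sum_congr rfl fun i _ => by ring
  rw [this]
  ring

variable [Fintype F] [CharP F 2]

/-- The vectors `e_i + f_i` and `e_i` of the plus form. -/
theorem exists_diag_plus {m s : ℕ} (hs : 1 ≤ s) (hsm : s ≤ m) :
    ∃ g : Cfsg.isometryGroup F ⇑(matQuad (plusMat m F)), orderOf g = 2 ∧
      (((g : GL (Fin m ⊕ Fin m) F) : Matrix (Fin m ⊕ Fin m) (Fin m ⊕ Fin m) F) - 1).rank = s ∧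
      ¬IsAltType g := by
  let w : Fin s → (Fin m ⊕ Fin m → F) := fun i =>
    Pi.single (Sum.inl (Fin.castLE hsm i)) 1 + Pi.single (Sum.inr (Fin.castLE hsm i)) 1
  refine exists_diag (nondegenerate_plus m) hs w ?_ (fun i j => ?_) fun i => ?_
  · rw [Fintype.linearIndependent_iff]
    intro c hc i
    have := congrFun hc (Sum.inl (Fin.castLE hsm i))
    simpa [w, Pi.single_apply, Finset.sum_apply, (Fin.castLE_injective hsm).eq_iff] using this
  · rw [polar_plus]
    simp [w, Pi.single_apply, Finset.sum_add_distrib, Finset.sum_ite_eq', eq_comm,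
      CharTwo.add_self_eq_zero]
  · rw [coe_matQuad_plus]
    simp [w, Cfsg.quadFormPlus, Pi.single_apply]

theorem exists_pairs_plus {m k : ℕ} (hk : 1 ≤ k) (hkm : 2 * k ≤ m) :
    ∃ g : Cfsg.isometryGroup F ⇑(matQuad (plusMat m F)), orderOf g = 2 ∧
      (((g : GL (Fin m ⊕ Fin m) F) : Matrix (Fin m ⊕ Fin m) (Fin m ⊕ Fin m) F) - 1).rank = 2 * k ∧
      IsAltType g := by
  let e : Fin k ⊕ Fin k → Fin m := Fin.castLE (show k + k ≤ m by omega) ∘ finSumFinEquiv
  have he : Function.Injective e := (Fin.castLE_injective _).comp finSumFinEquiv.injective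
  let w : Fin k ⊕ Fin k → (Fin m ⊕ Fin m → F) := fun i => Pi.single (Sum.inl (e i)) 1
  refine exists_pairs (nondegenerate_plus m) hk w
    ((Pi.linearIndependent_single_one (Fin m ⊕ Fin m) F).comp _ (Sum.inl_injective.comp he))
    (fun i j => ?_) fun i => ?_
  · rw [polar_plus]; simp [w]
  · rw [coe_matQuad_plus]; simp [w, Cfsg.quadFormPlus]

theorem exists_diag_minus {n s : ℕ} {a b : F}
    (hab : ∀ z₁ z₂ : F, z₁ ^ 2 + a * z₁ * z₂ + b * z₂ ^ 2 = 0 → z₁ = 0 ∧ z₂ = 0)
    (hs : 1 ≤ s) (hsn : s ≤ n + 1) :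
    ∃ g : Cfsg.isometryGroup F ⇑(matQuad (minusMat n F a b)), orderOf g = 2 ∧
      (((g : GL ((Fin n ⊕ Fin n) ⊕ Fin 2) F) :
        Matrix ((Fin n ⊕ Fin n) ⊕ Fin 2) ((Fin n ⊕ Fin n) ⊕ Fin 2) F) - 1).rank = s ∧
      ¬IsAltType g := by
  let all : Fin (n + 1) → ((Fin n ⊕ Fin n) ⊕ Fin 2 → F) := Fin.snoc
    (fun i => Pi.single (Sum.inl (Sum.inl i)) 1 + Pi.single (Sum.inl (Sum.inr i)) 1)
    (Pi.single (Sum.inr 0) 1)
  let w : Fin s → ((Fin n ⊕ Fin n) ⊕ Fin 2 → F) := all ∘ Fin.castLE hsn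
  have hall : LinearIndependent F all := by
    rw [Fintype.linearIndependent_iff]
    intro c hc i
    induction i using Fin.lastCases with
    | last =>
      have := congrFun hc (Sum.inr 0)
      simpa [all, Fin.sum_univ_castSucc, Pi.single_apply, Finset.sum_apply] using this
    | cast i =>
      have := congrFun hc (Sum.inl (Sum.inl i))
      simpa [all, Fin.sum_univ_castSucc, Pi.single_apply, Finset.sum_apply] using this
  have hpol : ∀ i j, polarBilin (matQuad (minusMat n F a b)) (all i) (all j) = 0 := by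
    intro i j
    rw [polar_minus]
    induction i using Fin.lastCases <;> induction j using Fin.lastCases <;>
      simp [all, Pi.single_apply, Finset.sum_add_distrib, Finset.sum_ite_eq', eq_comm,
        CharTwo.add_self_eq_zero, CharTwo.two_eq_zero]
  have hQ1 : ∀ i, matQuad (minusMat n F a b) (all i) = 1 := by
    intro i
    rw [coe_matQuad_minus]
    induction i using Fin.lastCases <;> simp [all, Cfsg.quadFormMinus, Pi.single_apply]
  exact exists_diag (nondegenerate_minus n hab) hs w (hall.comp _ (Fin.castLE_injective hsn))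
    (fun i j => hpol _ _) fun i => hQ1 _

theorem exists_pairs_minus {n k : ℕ} {a b : F}
    (hab : ∀ z₁ z₂ : F, z₁ ^ 2 + a * z₁ * z₂ + b * z₂ ^ 2 = 0 → z₁ = 0 ∧ z₂ = 0)
    (hk : 1 ≤ k) (hkn : 2 * k ≤ n) :
    ∃ g : Cfsg.isometryGroup F ⇑(matQuad (minusMat n F a b)), orderOf g = 2 ∧
      (((g : GL ((Fin n ⊕ Fin n) ⊕ Fin 2) F) :
        Matrix ((Fin n ⊕ Fin n) ⊕ Fin 2) ((Fin n ⊕ Fin n) ⊕ Fin 2) F) - 1).rank = 2 * k ∧
      IsAltType g := by
  let e : Fin k ⊕ Fin k → Fin n := Fin.castLE (show k + k ≤ n by omega) ∘ finSumFinEquiv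
  have he : Function.Injective e := (Fin.castLE_injective _).comp finSumFinEquiv.injective
  let w : Fin k ⊕ Fin k → ((Fin n ⊕ Fin n) ⊕ Fin 2 → F) := fun i =>
    Pi.single (Sum.inl (Sum.inl (e i))) 1
  refine exists_pairs (nondegenerate_minus n hab) hk w
    ((Pi.linearIndependent_single_one ((Fin n ⊕ Fin n) ⊕ Fin 2) F).comp _
      (Sum.inl_injective.comp (Sum.inl_injective.comp he)))
    (fun i j => ?_) fun i => ?_
  · rw [polar_minus]; simp [w]
  · rw [coe_matQuad_minus]; simp [w, Cfsg.quadFormMinus]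

/-- In minus type the alternating classes have rank at most the Witt index. -/
theorem alt_rank_le_minus {n : ℕ} {a b : F}
    (hab : ∀ z₁ z₂ : F, z₁ ^ 2 + a * z₁ * z₂ + b * z₂ ^ 2 = 0 → z₁ = 0 ∧ z₂ = 0)
    (g : Cfsg.isometryGroup F ⇑(matQuad (minusMat n F a b))) (halt : IsAltType g) :
    (((g : GL ((Fin n ⊕ Fin n) ⊕ Fin 2) F) :
      Matrix ((Fin n ⊕ Fin n) ⊕ Fin 2) ((Fin n ⊕ Fin n) ⊕ Fin 2) F) - 1).rank ≤ n := by
  rw [rank_eq]
  exact singular_finrank_le_minus n hab _ (alt_range_singular (lin_mem g) halt)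

end CfsgLib.InvolTwo.StdTypes
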