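import Mathlib
import Cfsg.Agent.Lib.Involutions.ZStar.Main

/-!
An involution `j` whose centraliser is `(L * L')⟨n⟩`, where `n ^ 2 = j` interchanges the
commuting subgroups `L` and `L'` meeting in `⟨j⟩`, and `L` has the properties of `SL₂` over a
field of odd order: `j` is isolated, by counting square roots in the centraliser of a second
involution.
-/

set_option autoImplicit false
set_option linter.style.haveILetI false

open Subgroup

namespace CfsgLib.InvolTwo.SwappedPair

universe u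

/-- An element of a Sylow `2`-subgroup conjugate to its distinct inverse is not central there. -/
theorem not_commute_of_conj_inv {L : Type*} [Group L] [Finite L] (Q : Sylow 2 L) {a : L}
    (ha : a ∈ (Q : Subgroup L)) (hne : a⁻¹ ≠ a) (hc : IsConj a a⁻¹) :
    ∃ y ∈ (Q : Subgroup L), y * a ≠ a * y := by
  by_contra hno
  push Not at hno
  have haC : a ∈ centralizer ((Q : Subgroup L) : Set L) :=
    mem_centralizer_iff.2 fun y hy => hno y hy
  obtain ⟨c, hcc⟩ := isConj_iff.1 hc
  obtain ⟨d, hd, hda⟩ := Q.conj_eq_normalizer_conj_of_mem_centralizer a c⁻¹ haC (by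
    rw [inv_inv, hcc]; exact inv_mem haC)
  rw [inv_inv, hcc] at hda
  -- `d` acts on `⟨a⟩` as inversion; so does its `2`-part
  set e := d⁻¹ with he
  have hea : e * a * e⁻¹ = a⁻¹ := by rw [he, inv_inv, hda]
  have hodd : ∀ k : ℕ, e ^ (2 * k + 1) * a * (e ^ (2 * k + 1))⁻¹ = a⁻¹ := by
    intro k
    induction k with
    | zero => simpa using hea
    | succ k ih =>
      have h2 : e * a⁻¹ * e⁻¹ = a := by
        calc e * a⁻¹ * e⁻¹ = (e * a * e⁻¹)⁻¹ := by group
          _ = a := by rw [hea, inv_inv]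
      calc e ^ (2 * (k + 1) + 1) * a * (e ^ (2 * (k + 1) + 1))⁻¹
          = e * (e * (e ^ (2 * k + 1) * a * (e ^ (2 * k + 1))⁻¹) * e⁻¹) * e⁻¹ := by
            rw [show 2 * (k + 1) + 1 = (2 * k + 1) + 1 + 1 by ring, pow_succ', pow_succ']; group
        _ = a⁻¹ := by rw [ih, h2, hea]
  obtain ⟨t, m, hm, htm⟩ := Nat.exists_eq_pow_mul_and_not_dvd (orderOf_pos e).ne' 2 (by norm_num)
  obtain ⟨k, rfl⟩ : Odd m := Nat.odd_iff.2 (by omega)
  have heQ : e ^ (2 * k + 1) ∈ (Q : Subgroup L) := by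
    have hN : e ^ (2 * k + 1) ∈ normalizer ((Q : Subgroup L) : Set L) := pow_mem (inv_mem hd) _
    have hp : IsPGroup 2 (zpowers (e ^ (2 * k + 1))) := by
      refine IsPGroup.of_card_dvd_pow (n := t) ?_
      rw [Nat.card_zpowers]
      refine orderOf_dvd_of_pow_eq_one ?_
      rw [← pow_mul, mul_comm, ← htm, pow_orderOf_eq_one]
    have := Q.is_maximal' (Q.isPGroup'.to_sup_of_normal_left' hp (zpowers_le.2 hN)) le_sup_left
    exact this ▸ le_sup_right (a := (Q : Subgroup L)) (mem_zpowers _)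
  have h := hodd k
  rw [hno _ heQ, mul_inv_cancel_right] at h
  exact hne h.symm

variable {G : Type u} [Group G]

/-- The hypotheses on `L`, `j` and `n`. -/
structure Data (L : Subgroup G) (j n : G) : Prop where
  jL : j ∈ L
  j_ne : j ≠ 1
  j_sq : j * j = 1
  n_sq : n * n = j
  comm : ∀ a ∈ L, ∀ b ∈ L, Commute a (n * b * n⁻¹)
  inter : ∀ a ∈ L, n * a * n⁻¹ ∈ L → a = 1 ∨ a = j
  invol : ∀ a ∈ L, a * a = 1 → a = 1 ∨ a = j
  conj : ∀ a ∈ L, ∀ b ∈ L, a * a = j → b * b = j → ∃ c ∈ L, c * a * c⁻¹ = b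
  abel : ∀ a ∈ L, a * a = j → ∀ x ∈ L, ∀ y ∈ L, Commute x a → Commute y a → Commute x y
  root : ∃ a ∈ L, a * a = j
  cent : ∀ x : G, Commute x j → ∃ a ∈ L, ∃ b ∈ L, x = a * (n * b * n⁻¹) ∨ x = a * (n * b * n⁻¹) * n

namespace Data

variable {L : Subgroup G} {j n : G} (D : Data L j n)
include D

theorem n_j : Commute n j := by rw [← D.n_sq]; exact (Commute.refl n).mul_right (Commute.refl n)

theorem j_inv : j⁻¹ = j := inv_eq_of_mul_eq_one_right D.j_sq

theorem conj_j : n * j * n⁻¹ = j := by rw [D.n_j.eq, mul_inv_cancel_right]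

theorem comm_j {a : G} (ha : a ∈ L) : Commute a j := by
  have := D.comm a ha j D.jL
  rwa [D.conj_j] at this

theorem theta2 {b : G} (hb : b ∈ L) : n * (n * b * n⁻¹) * n⁻¹ = b := by
  calc n * (n * b * n⁻¹) * n⁻¹ = n * n * b * (n * n)⁻¹ := by group
    _ = b := by rw [D.n_sq, ← (D.comm_j hb).eq, mul_inv_cancel_right]

/-- The map `(a, b) ↦ a * (n b n⁻¹)`. -/
noncomputable def psi : L × L →* G :=
  MonoidHom.noncommCoprod L.subtype ((MulAut.conj n).toMonoidHom.comp L.subtype)
    fun a b => D.comm a a.2 b b.2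

theorem psi_apply (p : L × L) : D.psi p = (p.1 : G) * (n * (p.2 : G) * n⁻¹) := rfl

theorem n_psi (p : L × L) : n * D.psi p * n⁻¹ = D.psi p.swap := by
  rw [psi_apply, psi_apply]
  calc n * ((p.1 : G) * (n * (p.2 : G) * n⁻¹)) * n⁻¹
      = n * (p.1 : G) * n⁻¹ * (n * (n * (p.2 : G) * n⁻¹) * n⁻¹) := by group
    _ = n * (p.1 : G) * n⁻¹ * (p.2 : G) := by rw [D.theta2 p.2.2]
    _ = _ := (D.comm _ p.2.2 _ p.1.2).eq.symm

/-- The element `j` of `L`. -/
noncomputable def J : L := ⟨j, D.jL⟩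

theorem J_mul_J : D.J * D.J = 1 := Subtype.ext D.j_sq

theorem J_comm (a : L) : Commute D.J a := Subtype.ext (D.comm_j a.2).eq.symm

theorem ker_psi {p : L × L} (h : D.psi p = 1) : p = (1, 1) ∨ p = (D.J, D.J) := by
  rw [psi_apply, mul_eq_one_iff_eq_inv] at h
  have hmem : n * (p.2 : G)⁻¹ * n⁻¹ ∈ L := by
    rw [show n * (p.2 : G)⁻¹ * n⁻¹ = (n * (p.2 : G) * n⁻¹)⁻¹ by group, ← h]
    exact p.1.2
  rcases D.inter _ (inv_mem p.2.2) hmem with h2 | h2
  · left
    have h2' : p.2 = 1 := Subtype.ext (inv_eq_one.1 h2)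
    refine Prod.ext (Subtype.ext ?_) h2'
    rw [h, h2']; simp
  · right
    have h2' : p.2 = D.J := Subtype.ext (by rw [← inv_inv (p.2 : G), h2, D.j_inv]; rfl)
    refine Prod.ext (Subtype.ext ?_) h2'
    rw [h, h2']
    show (n * j * n⁻¹)⁻¹ = j
    rw [D.conj_j, D.j_inv]

theorem psi_eq_iff {p q : L × L} :
    D.psi p = D.psi q ↔ q = p ∨ q = p * (D.J, D.J) := by
  constructor
  · intro h
    have h1 : D.psi (p⁻¹ * q) = 1 := by rw [map_mul, map_inv, h, inv_mul_cancel]
    rcases D.ker_psi h1 with h2 | h2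
    · exact Or.inl (inv_mul_eq_one.1 h2).symm
    · exact Or.inr (by rw [← h2, mul_inv_cancel_left])
  · rintro (rfl | rfl)
    · rfl
    · rw [map_mul, show D.psi (D.J, D.J) = 1 by
        rw [psi_apply]; show j * (n * j * n⁻¹) = 1; rw [D.conj_j, D.j_sq], mul_one]

theorem psi_JJ : D.psi (D.J, D.J) = 1 := by
  rw [psi_apply]; show j * (n * j * n⁻¹) = 1; rw [D.conj_j, D.j_sq]

theorem psi_J : D.psi (D.J, 1) = j := by rw [psi_apply]; simp [J]

theorem psi_J' : D.psi (1, D.J) = j := by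
  rw [psi_apply]; simp only [OneMemClass.coe_one, one_mul]; exact D.conj_j

/-- `r (p, b) = psi p * n ^ b`. -/
noncomputable def r (x : (L × L) × Bool) : G := D.psi x.1 * if x.2 then n else 1

theorem sq_n (p : L × L) : (D.psi p * n) * (D.psi p * n) = D.psi (p * p.swap * (D.J, 1)) := by
  calc (D.psi p * n) * (D.psi p * n) = D.psi p * (n * D.psi p * n⁻¹) * (n * n) := by group
    _ = _ := by rw [D.n_psi, D.n_sq, map_mul, map_mul, D.psi_J]

theorem n_not_psi (p : L × L) : D.psi p ≠ n := by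
  intro h
  obtain ⟨a, ha, haj⟩ := D.root
  have h1 : D.psi (p * (⟨a, ha⟩, 1) * p⁻¹) = n * a * n⁻¹ := by
    rw [map_mul, map_mul, map_inv, h, psi_apply]; simp
  have h2 : n * a * n⁻¹ ∈ L := by
    rw [← h1, psi_apply]
    simp only [Prod.fst_mul, Prod.snd_mul, Prod.fst_inv, Prod.snd_inv, mul_one, mul_inv_cancel,
      OneMemClass.coe_one, mul_one, mul_inv_cancel]
    exact SetLike.coe_mem _
  rcases D.inter a ha h2 with h3 | h3
  · rw [h3, one_mul] at haj; exact D.j_ne haj.symm
  · rw [h3, D.j_sq] at haj; exact D.j_ne haj.symm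

theorem r_eq_iff {x y : (L × L) × Bool} :
    D.r x = D.r y ↔ x.2 = y.2 ∧ D.psi x.1 = D.psi y.1 := by
  constructor
  · intro h
    rcases x with ⟨p, bp⟩
    rcases y with ⟨q, bq⟩
    cases bp <;> cases bq <;> simp only [r, Bool.false_eq_true, if_false, if_true, mul_one] at h
    · exact ⟨rfl, h⟩
    · exact absurd (show D.psi (q⁻¹ * p) = n by rw [map_mul, map_inv, h, inv_mul_cancel_left])
        (D.n_not_psi _)
    · exact absurd (show D.psi (p⁻¹ * q) = n by rw [map_mul, map_inv, ← h, inv_mul_cancel_left])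
        (D.n_not_psi _)
    · exact ⟨rfl, mul_right_cancel h⟩
  · rintro ⟨h1, h2⟩
    simp only [r, h1, h2]

theorem exists_r {x : G} (hx : Commute x j) : ∃ p : (L × L) × Bool, D.r p = x := by
  obtain ⟨a, ha, b, hb, h | h⟩ := D.cent x hx
  · exact ⟨((⟨a, ha⟩, ⟨b, hb⟩), false), by simp [r, psi_apply, h]⟩
  · exact ⟨((⟨a, ha⟩, ⟨b, hb⟩), true), by simp [r, psi_apply, h]⟩

theorem no_outer_involution (p : L × L) : (D.psi p * n) * (D.psi p * n) ≠ 1 := by
  intro h
  rw [D.sq_n] at h
  have hJ : D.J ≠ 1 := fun h' => D.j_ne (congrArg Subtype.val h')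
  obtain ⟨a, b⟩ := p
  rcases D.ker_psi h with h' | h' <;> simp only [Prod.swap_prod_mk, Prod.mk_mul_mk, mul_one,
    Prod.mk.injEq] at h'
  · obtain ⟨h1, h2⟩ := h'
    rw [eq_inv_of_mul_eq_one_left h2, mul_inv_cancel, one_mul] at h1
    exact hJ h1
  · obtain ⟨h1, h2⟩ := h'
    have h3 : a * b = 1 := by
      have := congrArg (· * D.J) h1
      simpa only [mul_assoc, D.J_mul_J, mul_one] using this
    rw [eq_inv_of_mul_eq_one_right h3, inv_mul_cancel] at h2
    exact hJ h2.symm

/-- The subgroup generated by `psi (Q × Q)` and `n`. -/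
noncomputable def sylT (Q : Subgroup L) : Subgroup G where
  carrier := {x | ∃ p : (L × L) × Bool, p.1.1 ∈ Q ⊔ zpowers D.J ∧ p.1.2 ∈ Q ⊔ zpowers D.J ∧ D.r p = x}
  one_mem' := ⟨((1, 1), false), one_mem _, one_mem _, by simp [r, ← Prod.one_eq_mk]⟩
  mul_mem' := by
    rintro _ _ ⟨⟨⟨a, b⟩, s⟩, ha, hb, rfl⟩ ⟨⟨⟨c, d⟩, t⟩, hc, hd, rfl⟩
    cases s
    · exact ⟨((a * c, b * d), t), mul_mem ha hc, mul_mem hb hd, by
        simp [r, ← map_mul, ← mul_assoc]⟩
    · have h1 : n * D.psi (c, d) = D.psi (d, c) * n := by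
        rw [show D.psi (d, c) = n * D.psi (c, d) * n⁻¹ from (D.n_psi (c, d)).symm,
          inv_mul_cancel_right]
      cases t
      · refine ⟨((a * d, b * c), true), mul_mem ha hd, mul_mem hb hc, ?_⟩
        simp only [r, Bool.false_eq_true, if_false, if_true, mul_one]
        rw [mul_assoc, h1, ← mul_assoc, ← map_mul]; rfl
      · refine ⟨((a * d * D.J, b * c), false),
          mul_mem (mul_mem ha hd) (le_sup_right (a := Q) (mem_zpowers _)), mul_mem hb hc, ?_⟩
        simp only [r, Bool.false_eq_true, if_false, if_true, mul_one]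
        calc D.psi (a * d * D.J, b * c) = D.psi ((a, b) * (d, c) * (D.J, 1)) := by simp
          _ = D.psi (a, b) * D.psi (d, c) * (n * n) := by rw [map_mul, map_mul, D.psi_J, D.n_sq]
          _ = D.psi (a, b) * (D.psi (d, c) * n) * n := by group
          _ = D.psi (a, b) * n * (D.psi (c, d) * n) := by rw [← h1]; group
  inv_mem' := by
    rintro _ ⟨⟨⟨a, b⟩, s⟩, ha, hb, rfl⟩
    cases s
    · exact ⟨((a⁻¹, b⁻¹), false), inv_mem ha, inv_mem hb, by simp [r, ← map_inv]⟩
    · refine ⟨((b⁻¹ * D.J, a⁻¹), true),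
        mul_mem (inv_mem hb) (le_sup_right (a := Q) (mem_zpowers _)), inv_mem ha, ?_⟩
      simp only [r, if_true]
      have h1 := D.sq_n (b⁻¹, a⁻¹)
      rw [eq_inv_iff_mul_eq_one]
      calc D.psi (b⁻¹ * D.J, a⁻¹) * n * (D.psi (a, b) * n)
          = D.psi (b⁻¹ * D.J, a⁻¹) * (n * D.psi (a, b) * n⁻¹) * (n * n) := by group
        _ = D.psi ((b⁻¹ * D.J, a⁻¹) * (b, a) * (D.J, 1)) := by
            rw [D.n_psi, D.n_sq, map_mul, map_mul, D.psi_J]; rfl
        _ = 1 := by
            rw [Prod.mk_mul_mk, Prod.mk_mul_mk, mul_assoc b⁻¹, (D.J_comm b).eq, ← mul_assoc,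
              inv_mul_cancel, one_mul, D.J_mul_J, inv_mul_cancel, one_mul]
            exact map_one D.psi

/-- Preimages under `r` of subsets of the image: all fibres have two points. -/
theorem card_preimage (S : Set G) (hS : ∀ x ∈ S, ∃ p, D.r p = x) :
    Nat.card {p : (L × L) × Bool // D.r p ∈ S} = 2 * Nat.card S := by
  classical
  choose s hs using hS
  have hJ : D.J ≠ 1 := fun h' => D.j_ne (congrArg Subtype.val h')
  let f : S × Bool → {p : (L × L) × Bool // D.r p ∈ S} := fun x =>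
    ⟨((s x.1 x.1.2).1 * (if x.2 then (D.J, D.J) else 1), (s x.1 x.1.2).2), by
      have : D.r ((s x.1 x.1.2).1 * (if x.2 then (D.J, D.J) else 1), (s x.1 x.1.2).2) = x.1 := by
        refine Eq.trans ((D.r_eq_iff (y := s x.1 x.1.2)).2 ⟨rfl, ?_⟩) (hs x.1 x.1.2)
        cases x.2 <;> simp [D.psi_JJ]
      rw [this]; exact x.1.2⟩
  have hval : ∀ x, D.r (f x).1 = x.1 := fun x => by
    refine Eq.trans ((D.r_eq_iff (y := s x.1 x.1.2)).2 ⟨rfl, ?_⟩) (hs x.1 x.1.2)
    rcases x with ⟨y, _ | _⟩ <;> simp [f, D.psi_JJ]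
  have hb : Function.Bijective f := by
    constructor
    · rintro ⟨y, b⟩ ⟨y', b'⟩ h
      have hy : y = y' := Subtype.ext (by
        rw [← hval (y, b), ← hval (y', b'), h])
      subst hy
      have h1 : (s y y.2).1 * (if b then (D.J, D.J) else 1) =
          (s y y.2).1 * (if b' then (D.J, D.J) else 1) :=
        congrArg (fun z => (Subtype.val z).1) h
      have h2 := mul_left_cancel h1
      cases b <;> cases b' <;> first | rfl | simp [Prod.ext_iff, hJ, Ne.symm hJ] at h2
    · intro q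
      obtain ⟨h1, h2⟩ := D.r_eq_iff.1 ((hs _ q.2).trans rfl : D.r (s _ q.2) = D.r q.1)
      rcases D.psi_eq_iff.1 h2 with h3 | h3
      · exact ⟨(⟨_, q.2⟩, false), Subtype.ext (Prod.ext (by simp [f, h3]) h1)⟩
      · exact ⟨(⟨_, q.2⟩, true), Subtype.ext (Prod.ext (by simp [f, h3]) h1)⟩
  rw [← Nat.card_congr (Equiv.ofBijective f hb), Nat.card_prod]
  simp [mul_comm]

variable [Finite G]

/-- A Sylow subgroup containing `j` and an element `a₀` with square `j` normal in it. -/
theorem exists_sylow : ∃ (Q : Sylow 2 L) (a₀ : L), D.J ∈ (Q : Subgroup L) ∧ a₀ ∈ (Q : Subgroup L) ∧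
    a₀ * a₀ = D.J ∧ (∀ x ∈ (Q : Subgroup L), x * a₀ * x⁻¹ = a₀ ∨ x * a₀ * x⁻¹ = a₀ * D.J) := by
  classical
  haveI : Fact (Nat.Prime 2) := ⟨Nat.prime_two⟩
  obtain ⟨a, ha, haj⟩ := D.root
  have hp : IsPGroup 2 (zpowers (⟨a, ha⟩ : L)) := by
    refine IsPGroup.of_card_dvd_pow (n := 2) ?_
    rw [Nat.card_zpowers]
    refine orderOf_dvd_of_pow_eq_one (Subtype.ext ?_)
    show a ^ (2 ^ 2) = 1
    rw [show a ^ (2 ^ 2) = a * a * (a * a) by simp only [pow_succ, pow_zero, one_mul, mul_assoc]; norm_num [pow_succ, mul_assoc], haj, D.j_sq]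
  obtain ⟨Q, hQ⟩ := hp.exists_le_sylow
  have haQ : (⟨a, ha⟩ : L) ∈ (Q : Subgroup L) := hQ (mem_zpowers _)
  have haa : (⟨a, ha⟩ : L) * ⟨a, ha⟩ = D.J := Subtype.ext haj
  have hJQ : D.J ∈ (Q : Subgroup L) := haa ▸ mul_mem haQ haQ
  let J' : Subgroup (Q : Subgroup L) := zpowers ⟨D.J, hJQ⟩
  haveI : J'.Normal := by
    refine ⟨fun x hx g => ?_⟩
    obtain ⟨k, rfl⟩ := hx
    have hc : Commute (⟨D.J, hJQ⟩ : (Q : Subgroup L)) g := Subtype.ext (D.J_comm g).eq
    rw [← (hc.zpow_left k).eq, mul_inv_cancel_right]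
    exact ⟨k, rfl⟩
  have hJ'2 : ∀ x ∈ J', x = 1 ∨ x = ⟨D.J, hJQ⟩ := by
    rintro _ ⟨k, rfl⟩
    have h2 : (⟨D.J, hJQ⟩ : (Q : Subgroup L)) ^ (2 : ℤ) = 1 := by
      rw [zpow_two]; exact Subtype.ext D.J_mul_J
    rcases Int.even_or_odd' k with ⟨l, rfl | rfl⟩
    · left; show _ ^ _ = _; rw [zpow_mul, h2, one_zpow]
    · right; show _ ^ _ = _; rw [zpow_add, zpow_mul, h2, one_zpow, one_mul, zpow_one]
  haveI : Nontrivial ((Q : Subgroup L) ⧸ J') := by
    refine ⟨⟨QuotientGroup.mk ⟨⟨a, ha⟩, haQ⟩, 1, fun h => ?_⟩⟩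
    have hv : ∀ x : (Q : Subgroup L), x = 1 ∨ x = ⟨D.J, hJQ⟩ → ((x : L) : G) = 1 ∨ ((x : L) : G) = j := by
      rintro x (rfl | rfl)
      · exact Or.inl rfl
      · exact Or.inr rfl
    rcases hv _ (hJ'2 _ ((QuotientGroup.eq_one_iff _).1 h)) with h' | h'
    · exact D.j_ne (by rw [← haj, show a = 1 from h', one_mul])
    · exact D.j_ne (by rw [← haj, show a = j from h', D.j_sq])
  have hP := Q.isPGroup'.to_quotient J'
  haveI := hP.center_nontrivial
  obtain ⟨k, hk0, hk⟩ := (hP.to_subgroup (center _)).nontrivial_iff_card.1 inferInstance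
  obtain ⟨c, hc⟩ := exists_prime_orderOf_dvd_card' (G := center ((Q : Subgroup L) ⧸ J')) 2
    (hk ▸ dvd_pow_self 2 hk0.ne')
  obtain ⟨a₀, ha₀⟩ := QuotientGroup.mk_surjective (c : (Q : Subgroup L) ⧸ J')
  have hc1 : a₀ ∉ J' := fun h => by
    rw [← QuotientGroup.eq_one_iff, ha₀] at h
    rw [OneMemClass.coe_eq_one.1 h, orderOf_one] at hc
    exact absurd hc (by norm_num)
  have hc2 : a₀ * a₀ ∈ J' := by
    have hcc : c * c = 1 := by
      have := pow_orderOf_eq_one c
      rwa [hc, pow_two] at this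
    rw [← QuotientGroup.eq_one_iff, QuotientGroup.mk_mul, ha₀, ← Subgroup.coe_mul, hcc,
      OneMemClass.coe_one]
  refine ⟨Q, a₀, hJQ, a₀.2, ?_, fun x hx => ?_⟩
  · rcases hJ'2 _ hc2 with h | h
    · exfalso
      rcases D.invol _ (a₀ : L).2 (congrArg (fun z : (Q : Subgroup L) => ((z : L) : G)) h) with h' | h'
      · exact hc1 (by rw [show a₀ = 1 from Subtype.ext (Subtype.ext h')]; exact one_mem _)
      · exact hc1 (by rw [show a₀ = ⟨D.J, hJQ⟩ from Subtype.ext (Subtype.ext h')]; exact mem_zpowers _)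
    · exact congrArg Subtype.val h
  · set y : (Q : Subgroup L) := ⟨x, hx⟩
    have hy : a₀⁻¹ * (y * a₀ * y⁻¹) ∈ J' := by
      refine (QuotientGroup.eq (s := J')).1 ?_
      rw [QuotientGroup.mk_mul, QuotientGroup.mk_mul, ha₀, QuotientGroup.mk_inv,
        mem_center_iff.1 c.2, mul_inv_cancel_right]
    rcases hJ'2 _ hy with h | h
    · left; exact (congrArg Subtype.val (inv_mul_eq_one.1 h)).symm
    · right; exact congrArg Subtype.val (inv_mul_eq_iff_eq_mul.1 h)

set_option maxHeartbeats 1000000 in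
/-- `j` is an isolated involution. -/
theorem isolated : Cfsg.IsIsolatedInvolution j := by
  classical
  haveI : Fact (Nat.Prime 2) := ⟨Nat.prime_two⟩
  refine ⟨orderOf_eq_prime (by rw [pow_two, D.j_sq]) D.j_ne, fun g hg => ?_⟩
  by_contra hgj
  obtain ⟨Q, a₀, hJQ, ha₀Q, ha₀, hQa⟩ := D.exists_sylow
  have hsup : (Q : Subgroup L) ⊔ zpowers D.J = Q := sup_eq_left.2 (zpowers_le.2 hJQ)
  have hmemT : ∀ x, x ∈ D.sylT Q ↔ ∃ p : (L × L) × Bool,
      p.1.1 ∈ (Q : Subgroup L) ∧ p.1.2 ∈ (Q : Subgroup L) ∧ D.r p = x := fun x => by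
    show (∃ p : (L × L) × Bool, _ ∧ _ ∧ _) ↔ _
    rw [hsup]
  set T := D.sylT Q with hT
  have hJ : D.J ≠ 1 := fun h' => D.j_ne (congrArg Subtype.val h')
  -- every other involution commuting with `j` is conjugate to `u`
  set u := D.psi (a₀, a₀) with hu
  obtain ⟨g₁, hg₁⟩ : ∃ g₁, g₁ * j * g₁⁻¹ = u := by
    obtain ⟨⟨⟨a, b⟩, s⟩, hab⟩ := D.exists_r hg.symm
    have hsq : (g * j * g⁻¹) * (g * j * g⁻¹) = 1 := by
      rw [show (g * j * g⁻¹) * (g * j * g⁻¹) = g * (j * j) * g⁻¹ by group, D.j_sq]; group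
    cases s
    · simp only [r, Bool.false_eq_true, if_false, mul_one] at hab
      rw [← hab, ← map_mul] at hsq
      have hne1 : D.psi (a, b) ≠ 1 := by
        rw [hab]; exact fun h => D.j_ne (conj_eq_one_iff.1 h)
      have hroot : a * a = D.J ∧ b * b = D.J := by
        rcases D.ker_psi hsq with h' | h' <;> simp only [Prod.mk_mul_mk, Prod.mk.injEq] at h'
        · exfalso
          have key : ∀ x : L, x * x = 1 → x = 1 ∨ x = D.J := fun x hx => by
            rcases D.invol x x.2 (congrArg Subtype.val hx) with h | h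
            · exact Or.inl (Subtype.ext h)
            · exact Or.inr (Subtype.ext h)
          rcases key a h'.1 with rfl | rfl <;> rcases key b h'.2 with rfl | rfl
          · exact hne1 (map_one _)
          · exact hgj (hab.symm.trans D.psi_J')
          · exact hgj (hab.symm.trans D.psi_J)
          · exact hne1 ((D.psi_eq_iff (p := (1, 1)).2 (Or.inr (by simp))).symm.trans (map_one _))
        · exact h'
      obtain ⟨ca, hca, hca'⟩ := D.conj _ a.2 _ a₀.2 (congrArg Subtype.val hroot.1)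
        (congrArg Subtype.val ha₀)
      obtain ⟨cb, hcb, hcb'⟩ := D.conj _ b.2 _ a₀.2 (congrArg Subtype.val hroot.2)
        (congrArg Subtype.val ha₀)
      refine ⟨D.psi (⟨ca, hca⟩, ⟨cb, hcb⟩) * g, ?_⟩
      rw [show ∀ w : G, w * g * j * (w * g)⁻¹ = w * (g * j * g⁻¹) * w⁻¹ from fun w => by group,
        ← hab, ← map_inv, ← map_mul, ← map_mul, hu]
      congr 1
      exact Prod.ext (Subtype.ext hca') (Subtype.ext hcb')
    · simp only [r, if_true] at hab
      exact absurd (by rw [hab]; exact hsq) (D.no_outer_involution (a, b))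
  -- basic properties of `T`
  have hjT : j ∈ T := (hmemT j).2 ⟨((D.J, 1), false), hJQ, one_mem _, by simp [r, D.psi_J]⟩
  have hTj : ∀ x ∈ T, Commute x j := by
    intro x hx
    obtain ⟨⟨⟨a, b⟩, s⟩, -, -, rfl⟩ := (hmemT x).1 hx
    refine Commute.mul_left ?_ ?_
    · have := Commute.map (show Commute (a, b) (D.J, 1) from
        Prod.ext (D.J_comm a).eq.symm (by simp)) D.psi
      rwa [D.psi_J] at this
    · cases s
      · exact Commute.one_left j
      · exact D.n_j
  have hpsiT : ∀ a b : L, a ∈ (Q : Subgroup L) → b ∈ (Q : Subgroup L) → D.psi (a, b) ∈ T :=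
    fun a b ha hb => (hmemT _).2 ⟨((a, b), false), ha, hb, by simp [r]⟩
  have hnT : n ∈ T := (hmemT n).2 ⟨((1, 1), true), one_mem _, one_mem _, by simp [r, ← Prod.one_eq_mk]⟩
  have hTp : IsPGroup 2 T := by
    rintro ⟨x, hx⟩
    have hx2 : ∃ p : L × L, p.1 ∈ (Q : Subgroup L) ∧ p.2 ∈ (Q : Subgroup L) ∧ D.psi p = x * x := by
      obtain ⟨⟨⟨a, b⟩, s⟩, ha, hb, rfl⟩ := (hmemT x).1 hx
      cases s
      · exact ⟨(a * a, b * b), mul_mem ha ha, mul_mem hb hb, by simp [r, ← map_mul]⟩
      · exact ⟨(a * b * D.J, b * a * 1), mul_mem (mul_mem ha hb) hJQ,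
          mul_mem (mul_mem hb ha) (one_mem _), by simp only [r, if_true]; rw [D.sq_n]; rfl⟩
    obtain ⟨⟨a, b⟩, ha, hb, hab⟩ := hx2
    obtain ⟨k, hk⟩ := Q.isPGroup' ⟨a, ha⟩
    obtain ⟨l, hl⟩ := Q.isPGroup' ⟨b, hb⟩
    refine ⟨k + l + 1, Subtype.ext ?_⟩
    show x ^ 2 ^ (k + l + 1) = 1
    have hk' : a ^ 2 ^ k = 1 := congrArg Subtype.val hk
    have hl' : b ^ 2 ^ l = 1 := congrArg Subtype.val hl
    rw [pow_succ', pow_mul, pow_two, ← hab, ← map_pow, Prod.pow_mk, pow_add, pow_mul, hk', one_pow,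
      mul_comm, pow_mul, hl', one_pow]
    exact map_one D.psi
  have hTmax : ∀ U : Subgroup G, IsPGroup 2 U → T ≤ U → (∀ x ∈ U, Commute x j) → U = T := by
    intro U hU hTU hUj
    refine le_antisymm (fun x hx => ?_) hTU
    let W : Subgroup (L × L) := U.comap D.psi
    have hW : IsPGroup 2 W := by
      intro w
      obtain ⟨k, hk⟩ := hU ⟨D.psi (w : L × L), w.2⟩
      refine ⟨k + 1, Subtype.ext ?_⟩
      have hk' : D.psi ((w : L × L) ^ 2 ^ k) = 1 := by
        rw [map_pow]; exact congrArg Subtype.val hk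
      show (w : L × L) ^ 2 ^ (k + 1) = 1
      rw [pow_succ, pow_mul]
      rcases D.ker_psi hk' with h | h <;> rw [h] <;> simp [pow_two, D.J_mul_J, ← Prod.one_eq_mk]
    have hfst : W.map (MonoidHom.fst L L) = Q :=
      Q.is_maximal' (hW.map _) fun a ha => ⟨(a, 1), hTU (hpsiT a 1 ha (one_mem _)), rfl⟩
    have hsnd : W.map (MonoidHom.snd L L) = Q :=
      Q.is_maximal' (hW.map _) fun a ha => ⟨(1, a), hTU (hpsiT 1 a (one_mem _) ha), rfl⟩
    obtain ⟨⟨⟨a, b⟩, s⟩, hab⟩ := D.exists_r (hUj x hx)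
    have hmem : (a, b) ∈ W := by
      show D.psi (a, b) ∈ U
      cases s
      · simp only [r, Bool.false_eq_true, if_false, mul_one] at hab; rw [hab]; exact hx
      · simp only [r, if_true] at hab
        rw [show D.psi (a, b) = x * n⁻¹ by rw [← hab, mul_inv_cancel_right]]
        exact mul_mem hx (inv_mem (hTU hnT))
    exact (hmemT x).2 ⟨((a, b), s), hfst.le ⟨_, hmem, rfl⟩, hsnd.le ⟨_, hmem, rfl⟩, hab⟩
  -- the only involution in the centre
  have hroot : ∀ a ∈ (Q : Subgroup L), a * a = D.J → ∃ y ∈ (Q : Subgroup L), y * a ≠ a * y := by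
    intro a ha haj
    have hinv : a⁻¹ * a⁻¹ = D.J := by
      rw [← mul_inv_rev, haj]; exact inv_eq_of_mul_eq_one_right D.J_mul_J
    refine not_commute_of_conj_inv Q ha (fun h => ?_) ?_
    · rw [inv_eq_iff_mul_eq_one, haj] at h; exact hJ h
    · obtain ⟨c, hc, hc'⟩ := D.conj _ a.2 _ (a⁻¹).2 (congrArg Subtype.val haj)
        (congrArg Subtype.val hinv)
      exact isConj_iff.2 ⟨⟨c, hc⟩, Subtype.ext hc'⟩
  have hZ : ∀ z ∈ T, z * z = 1 → z ≠ 1 → (∀ t ∈ T, Commute z t) → z = j := by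
    intro z hz hz2 hz1 hzc
    obtain ⟨⟨⟨a, b⟩, s⟩, ha, hb, rfl⟩ := (hmemT z).1 hz
    cases s
    swap
    · exact absurd (by simpa [r] using hz2) (D.no_outer_involution (a, b))
    simp only [r, Bool.false_eq_true, if_false, mul_one] at hz2 hz1 hzc ⊢
    have hab : ∀ x y : L, D.psi (x, y) = 1 → (x = 1 ∧ y = 1) ∨ (x = D.J ∧ y = D.J) := fun x y h => by
      rcases D.ker_psi h with h' | h'
      · exact Or.inl (Prod.mk.inj h')
      · exact Or.inr (Prod.mk.inj h')
    have hca : ∀ x ∈ (Q : Subgroup L), x * a = a * x := by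
      intro x hx
      have h := hzc _ (hpsiT x 1 hx (one_mem _))
      have h' : D.psi ((x * a) * (a * x)⁻¹, 1) = 1 := by
        have := h.eq
        rw [← map_mul, ← map_mul, Prod.mk_mul_mk, Prod.mk_mul_mk, mul_one, one_mul] at this
        have h2 := (mul_inv_eq_one (a := D.psi (x * a, b)) (b := D.psi (a * x, b))).2 this.symm
        rw [← map_inv, ← map_mul] at h2
        simpa using h2
      rcases hab _ _ h' with h'' | h''
      · exact mul_inv_eq_one.1 h''.1
      · exact absurd h''.2.symm hJ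
    rw [← map_mul] at hz2
    rcases hab _ _ hz2 with h' | h'
    · rcases D.invol a a.2 (congrArg Subtype.val h'.1) with ha1 | ha1 <;>
        rcases D.invol b b.2 (congrArg Subtype.val h'.2) with hb1 | hb1
      · exact absurd (by rw [psi_apply]; simp [ha1, hb1]) hz1
      · rw [psi_apply]; simp [ha1, hb1, D.conj_j]
      · rw [psi_apply]; simp [ha1, hb1]
      · exact absurd (by rw [psi_apply]; simp [ha1, hb1, D.conj_j, D.j_sq]) hz1
    · obtain ⟨y, hy, hne⟩ := hroot a ha h'.1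
      exact absurd (hca y hy) hne
  -- `T` is a Sylow subgroup of `G`
  obtain ⟨S, hTS⟩ := hTp.exists_le_sylow
  have hCS : (S : Subgroup G) ⊓ centralizer {j} = T := by
    refine hTmax _ (S.isPGroup'.to_le inf_le_left)
      (le_inf hTS fun x hx => mem_centralizer_singleton_iff.2 (hTj x hx).eq)
      fun x hx => mem_centralizer_singleton_iff.1 hx.2
  have hST : (S : Subgroup G) = T := by
    haveI : Nontrivial (S : Subgroup G) := ⟨⟨⟨j, hTS hjT⟩, 1, fun h => D.j_ne (congrArg Subtype.val h)⟩⟩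
    haveI := S.isPGroup'.center_nontrivial
    obtain ⟨k, hk0, hk⟩ := (S.isPGroup'.to_subgroup (center (S : Subgroup G))).nontrivial_iff_card.1
      inferInstance
    obtain ⟨w, hw⟩ := exists_prime_orderOf_dvd_card' (G := center (S : Subgroup G)) 2
      (hk ▸ dvd_pow_self 2 hk0.ne')
    set z : G := ((w : (S : Subgroup G)) : G)
    have hzc : ∀ x ∈ (S : Subgroup G), Commute z x := fun x hx =>
      (congrArg Subtype.val (mem_center_iff.1 w.2 ⟨x, hx⟩)).symm
    have hzT : z ∈ T := hCS ▸ ⟨(w : (S : Subgroup G)).2,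
      mem_centralizer_singleton_iff.2 (hzc j (hTS hjT)).eq⟩
    have hz2 : z * z = 1 := by
      have h : w * w = 1 := by
        have := pow_orderOf_eq_one w
        rwa [hw, pow_two] at this
      exact congrArg (fun v : center (S : Subgroup G) => ((v : (S : Subgroup G)) : G)) h
    have hz1 : z ≠ 1 := fun h => by
      rw [show w = 1 from Subtype.ext (Subtype.ext h), orderOf_one] at hw
      exact absurd hw (by norm_num)
    have hzj := hZ z hzT hz2 hz1 fun t ht => hzc t (hTS ht)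
    refine le_antisymm (fun x hx => hCS ▸ ⟨hx, mem_centralizer_singleton_iff.2 ?_⟩) hTS
    exact hzj ▸ (hzc x hx).symm.eq
  -- the centraliser of `u` in `T` has index `2`
  have huT : u ∈ T := hpsiT _ _ ha₀Q ha₀Q
  set R : Subgroup G := T ⊓ centralizer {u} with hR
  have huj : ∀ x ∈ T, x * u * x⁻¹ = u ∨ x * u * x⁻¹ = u * j := by
    intro x hx
    obtain ⟨⟨⟨a, b⟩, s⟩, ha, hb, rfl⟩ := (hmemT x).1 hx
    have hconj : D.r ((a, b), s) * u * (D.r ((a, b), s))⁻¹ =
        D.psi (a * a₀ * a⁻¹, b * a₀ * b⁻¹) := by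
      have h1 : (if s then n else 1) * u * (if s then n else 1)⁻¹ = u := by
        cases s
        · simp
        · simp only [if_true]; rw [hu, D.n_psi]; rfl
      calc _ = D.psi (a, b) * ((if s then n else 1) * u * (if s then n else 1)⁻¹) * (D.psi (a, b))⁻¹ := by
            simp only [r]; group
        _ = _ := by rw [h1, hu, ← map_inv, ← map_mul, ← map_mul]; rfl
    rw [hconj]
    rcases hQa a ha with ha' | ha' <;> rcases hQa b hb with hb' | hb' <;> rw [ha', hb', hu]
    · exact Or.inl rfl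
    · right
      rw [show ((a₀, a₀ * D.J) : L × L) = (a₀, a₀) * (1, D.J) by simp, map_mul, D.psi_J']
    · right
      rw [show ((a₀ * D.J, a₀) : L × L) = (a₀, a₀) * (D.J, 1) by simp, map_mul, D.psi_J]
    · left; exact ((D.psi_eq_iff (p := (a₀, a₀))).2 (Or.inr rfl)).symm
  obtain ⟨y₀, hy₀, hy₀a⟩ := hroot a₀ ha₀Q ha₀
  set x₀ := D.psi (y₀, 1)
  have hx₀ : x₀ * u * x₀⁻¹ = u * j := by
    rw [hu, ← map_inv, ← map_mul, ← map_mul]
    refine Eq.trans (congrArg D.psi (?_ : _ = (a₀, a₀) * (D.J, 1))) (by rw [map_mul, D.psi_J])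
    refine Prod.ext ?_ (by simp)
    rcases hQa y₀ hy₀ with h | h
    · exact absurd (mul_inv_eq_iff_eq_mul.1 h) hy₀a
    · exact h
  have hRidx : R.relIndex T = 2 := by
    refine relIndex_eq_two_iff.2 ⟨x₀, hpsiT _ _ hy₀ (one_mem _), fun b hb => ?_⟩
    have hbj : b * j * b⁻¹ = j := by rw [(hTj b hb).eq, mul_inv_cancel_right]
    have hkey : ∀ x ∈ T, (x ∈ R ↔ x * u * x⁻¹ = u) := fun x hx => by
      simp [hR, Subgroup.mem_inf, hx, mem_centralizer_singleton_iff, mul_inv_eq_iff_eq_mul]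
    have hne : u * j ≠ u := fun h => D.j_ne (mul_eq_left.1 h)
    have hbx : b * x₀ * u * (b * x₀)⁻¹ = b * u * b⁻¹ * j := by
      calc b * x₀ * u * (b * x₀)⁻¹ = b * (x₀ * u * x₀⁻¹) * b⁻¹ := by group
        _ = b * u * b⁻¹ * (b * j * b⁻¹) := by rw [hx₀]; group
        _ = _ := by rw [hbj]
    rw [hkey _ (mul_mem hb (hpsiT _ _ hy₀ (one_mem _))), hkey _ hb, hbx]
    rcases huj b hb with h | h <;> rw [h]
    · exact Or.inr ⟨rfl, hne⟩
    · refine Or.inl ⟨by rw [mul_assoc, D.j_sq, mul_one], hne⟩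
  -- a Sylow subgroup of `C(u)` containing `R`
  obtain ⟨k, hk, hkR⟩ : ∃ k : G, k * j * k⁻¹ = u ∧ R ≤ T.map (MulAut.conj k).toMonoidHom := by
    set C : Subgroup G := centralizer {u}
    have hle : (g₁ • S : Sylow 2 G) ≤ C := by
      intro x hx
      obtain ⟨y, hy, rfl⟩ : ∃ y ∈ T, g₁ * y * g₁⁻¹ = x := by
        rw [Sylow.smul_def] at hx
        obtain ⟨y, hy, rfl⟩ := hx
        exact ⟨y, hST ▸ hy, rfl⟩
      rw [mem_centralizer_singleton_iff, ← hg₁]
      calc g₁ * y * g₁⁻¹ * (g₁ * j * g₁⁻¹) = g₁ * (y * j) * g₁⁻¹ := by group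
        _ = g₁ * (j * y) * g₁⁻¹ := by rw [(hTj y hy).eq]
        _ = g₁ * j * g₁⁻¹ * (g₁ * y * g₁⁻¹) := by group
    obtain ⟨U, hU⟩ := (hTp.to_le (inf_le_left : R ≤ T)).comap_subtype.exists_le_sylow (G := C)
    obtain ⟨c, hc⟩ := MulAction.exists_smul_eq C ((g₁ • S).subtype hle) U
    refine ⟨(c : G) * g₁, ?_, fun x hx => ?_⟩
    · calc (c : G) * g₁ * j * ((c : G) * g₁)⁻¹ = c * (g₁ * j * g₁⁻¹) * (c : G)⁻¹ := by group
        _ = u := by rw [hg₁, mem_centralizer_singleton_iff.1 c.2, mul_inv_cancel_right]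
    · have h1 : (⟨x, hx.2⟩ : C) ∈ (U : Subgroup C) := hU hx
      rw [← hc, Sylow.smul_def] at h1
      obtain ⟨y, hy, hyx⟩ := h1
      have hy' : (y : G) ∈ ((g₁ • S : Sylow 2 G) : Subgroup G) := hy
      rw [Sylow.smul_def] at hy'
      obtain ⟨t, ht, hty⟩ := hy'
      refine ⟨t, hST ▸ ht, ?_⟩
      have hyx' : (c : G) * y * (c : G)⁻¹ = x := congrArg Subtype.val hyx
      show (c : G) * g₁ * t * ((c : G) * g₁)⁻¹ = x
      rw [← hyx', ← (show g₁ * t * g₁⁻¹ = y from hty)]; group
  set T' := T.map (MulAut.conj k).toMonoidHom with hT'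
  have hcardT' : Nat.card T' = Nat.card T :=
    Nat.card_congr (T.equivMapOfInjective _ (MulAut.conj k).injective).toEquiv.symm
  have hRidx' : R.relIndex T' = 2 := by
    have h1 := card_mul_index (R.subgroupOf T)
    have h2 := card_mul_index (R.subgroupOf T')
    rw [← Subgroup.relIndex, hRidx, Nat.card_congr (subgroupOfEquivOfLe (inf_le_left : R ≤ T)).toEquiv] at h1
    rw [← Subgroup.relIndex, hcardT', ← h1, Nat.card_congr (subgroupOfEquivOfLe hkR).toEquiv] at h2
    exact Nat.eq_of_mul_eq_mul_left Nat.card_pos h2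
  have hTN : T ≤ normalizer (R : Set G) := by
    haveI := normal_of_index_eq_two (H := R.subgroupOf T) hRidx
    exact (normal_subgroupOf_iff_le_normalizer inf_le_left).1 inferInstance
  have hT'N : T' ≤ normalizer (R : Set G) := by
    haveI := normal_of_index_eq_two (H := R.subgroupOf T') hRidx'
    exact (normal_subgroupOf_iff_le_normalizer hkR).1 inferInstance
  set N := normalizer (R : Set G)
  obtain ⟨m, hm⟩ := MulAction.exists_smul_eq N (S.subtype (hST.le.trans hTN))
    ((k • S).subtype (show ((k • S : Sylow 2 G) : Subgroup G) ≤ N by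
      rw [Sylow.smul_def]
      intro x hx
      obtain ⟨t, ht, rfl⟩ := hx
      exact hT'N ⟨t, hST ▸ ht, rfl⟩))
  have hmT : ∀ t ∈ T, ∃ t' ∈ T, k * t' * k⁻¹ = (m : G) * t * (m : G)⁻¹ := by
    intro t ht
    have h1 : (m * ⟨t, hTN ht⟩ * m⁻¹ : N) ∈ ((m • S.subtype (hST.le.trans hTN) : Sylow 2 N) : Subgroup N) := by
      rw [Sylow.smul_def]
      exact ⟨⟨t, hTN ht⟩, show t ∈ (S : Subgroup G) from hST ▸ ht, rfl⟩
    rw [hm] at h1
    have h2 : (m : G) * t * (m : G)⁻¹ ∈ ((k • S : Sylow 2 G) : Subgroup G) := h1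
    rw [Sylow.smul_def] at h2
    obtain ⟨t', ht', hteq⟩ := h2
    exact ⟨t', hST ▸ ht', hteq⟩
  have hmj : (m : G) * j * (m : G)⁻¹ = u := by
    obtain ⟨z, hz, hzm⟩ := hmT j hjT
    have hzz : z = k⁻¹ * ((m : G) * j * (m : G)⁻¹) * k := by rw [← hzm]; group
    have hz2 : z * z = 1 := by
      rw [hzz]
      calc _ = k⁻¹ * ((m : G) * (j * j) * (m : G)⁻¹) * k := by group
        _ = 1 := by rw [D.j_sq]; group
    have hz1 : z ≠ 1 := fun h => D.j_ne (by
      rw [h, mul_one, mul_inv_cancel] at hzm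
      exact conj_eq_one_iff.1 hzm.symm)
    have hzc : ∀ t ∈ T, Commute z t := by
      intro t ht
      -- every element of `T` arises
      have hsurj : ∃ t₀ ∈ T, (m : G) * t₀ * (m : G)⁻¹ = k * t * k⁻¹ := by
        let f : T → T := fun t₀ => ⟨_, (hmT t₀ t₀.2).choose_spec.1⟩
        have hf : ∀ t₀ : T, k * (f t₀ : G) * k⁻¹ = (m : G) * t₀ * (m : G)⁻¹ := fun t₀ =>
          (hmT t₀ t₀.2).choose_spec.2
        have hinj : Function.Injective f := fun p q h => by
          have := hf p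
          rw [h, hf q] at this
          exact Subtype.ext (mul_left_cancel (mul_right_cancel this)).symm
        obtain ⟨t₀, ht₀⟩ := (Finite.surjective_of_injective hinj) ⟨t, ht⟩
        exact ⟨t₀, t₀.2, by rw [← hf t₀, ht₀]⟩
      obtain ⟨t₀, ht₀, hteq⟩ := hsurj
      have hjt : j * t₀ = t₀ * j := (hTj t₀ ht₀).eq.symm
      have : t = k⁻¹ * ((m : G) * t₀ * (m : G)⁻¹) * k := by rw [hteq]; group
      rw [hzz, this]
      show _ * _ = _ * _
      calc _ = k⁻¹ * ((m : G) * (j * t₀) * (m : G)⁻¹) * k := by group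
        _ = k⁻¹ * ((m : G) * (t₀ * j) * (m : G)⁻¹) * k := by rw [hjt]
        _ = _ := by group
    rw [← hzm, hZ z hz hz2 hz1 hzc, hk]
  -- equality of the numbers of square roots
  let roots : G → Set G := fun w => {x | x ∈ R ∧ x * x = w}
  have hbij : Nat.card (roots j) = Nat.card (roots u) := by
    have hmR : ∀ x, x ∈ R ↔ (m : G) * x * (m : G)⁻¹ ∈ R := fun x => mem_normalizer_iff.1 m.2 x
    refine Nat.card_congr (Equiv.subtypeEquiv (MulAut.conj (m : G)).toEquiv fun x => ?_)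
    show x ∈ R ∧ x * x = j ↔ _ ∈ R ∧ _ = u
    refine and_congr (hmR x) ?_
    show x * x = j ↔ (m : G) * x * (m : G)⁻¹ * ((m : G) * x * (m : G)⁻¹) = u
    rw [show (m : G) * x * (m : G)⁻¹ * ((m : G) * x * (m : G)⁻¹) = (m : G) * (x * x) * (m : G)⁻¹ by
      group]
    rw [← hmj]
    exact ⟨fun h => by rw [h], fun h => mul_left_cancel (mul_right_cancel h)⟩
  have hrT : ∀ w, ∀ x ∈ roots w, ∃ p, D.r p = x := fun w x hx => D.exists_r (hTj x hx.1.1)
  have hEj := D.card_preimage (roots j) (hrT j)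
  have hEu := D.card_preimage (roots u) (hrT u)
  have hmemR : ∀ p : (L × L) × Bool, D.r p ∈ R ↔
      p.1.1 ∈ (Q : Subgroup L) ∧ p.1.2 ∈ (Q : Subgroup L) ∧
        ((Commute p.1.1 a₀ ∧ Commute p.1.2 a₀) ∨ (¬ Commute p.1.1 a₀ ∧ ¬ Commute p.1.2 a₀)) := by
    rintro ⟨⟨a, b⟩, s⟩
    have hin : D.r ((a, b), s) ∈ T ↔ a ∈ (Q : Subgroup L) ∧ b ∈ (Q : Subgroup L) := by
      refine ⟨fun h => ?_, fun h => (hmemT _).2 ⟨_, h.1, h.2, rfl⟩⟩
      obtain ⟨⟨⟨c, d⟩, t⟩, hc, hd, he⟩ := (hmemT _).1 h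
      obtain ⟨-, h2⟩ := D.r_eq_iff.1 he
      rcases D.psi_eq_iff.1 h2 with h3 | h3
      · obtain ⟨rfl, rfl⟩ := Prod.mk.inj h3; exact ⟨hc, hd⟩
      · obtain ⟨rfl, rfl⟩ := Prod.mk.inj h3; exact ⟨mul_mem hc hJQ, mul_mem hd hJQ⟩
    rw [hR, Subgroup.mem_inf, hin, and_assoc]
    refine and_congr_right fun ha => and_congr_right fun hb => ?_
    have hconj : D.r ((a, b), s) * u * (D.r ((a, b), s))⁻¹ =
        D.psi (a * a₀ * a⁻¹, b * a₀ * b⁻¹) := by
      have h1 : (if s then n else 1) * u * (if s then n else 1)⁻¹ = u := by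
        cases s
        · simp
        · simp only [if_true]; rw [hu, D.n_psi]; rfl
      calc _ = D.psi (a, b) * ((if s then n else 1) * u * (if s then n else 1)⁻¹) * (D.psi (a, b))⁻¹ := by
            simp only [r]; group
        _ = _ := by rw [h1, hu, ← map_inv, ← map_mul, ← map_mul]; rfl
    rw [mem_centralizer_singleton_iff, ← mul_inv_eq_iff_eq_mul, hconj, hu, D.psi_eq_iff]
    have hc : ∀ c : L, Commute c a₀ ↔ c * a₀ * c⁻¹ = a₀ := fun c => mul_inv_eq_iff_eq_mul.symm
    have hn0 : a₀ * D.J ≠ a₀ := fun h => hJ (mul_eq_left.1 h)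
    have ha0J : a₀ * D.J * D.J = a₀ := by rw [mul_assoc, D.J_mul_J, mul_one]
    rw [hc, hc]
    rcases hQa a ha with ha' | ha' <;> rcases hQa b hb with hb' | hb' <;> rw [ha', hb'] <;>
      simp [hn0, Ne.symm hn0, ha0J, Prod.ext_iff]
  haveI : Finite (L × L) := inferInstance
  -- lower bound
  have hlow : 2 * Nat.card (Q : Subgroup L) + 4 ≤ Nat.card {p // D.r p ∈ roots j} := by
    have hca : Commute a₀ a₀ := Commute.refl a₀
    have hcJ : Commute D.J a₀ := D.J_comm a₀
    let f : (↥(Q : Subgroup L) × Bool) ⊕ (Bool × Bool) → {p // D.r p ∈ roots j} := Sum.elim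
      (fun x => ⟨(((x.1 : L), (x.1 : L)⁻¹ * if x.2 then D.J else 1), true), by
        have hmem : (if x.2 then D.J else 1) ∈ (Q : Subgroup L) := by
          split_ifs; exacts [hJQ, one_mem _]
        refine ⟨(hmemR _).2 ⟨x.1.2, mul_mem (inv_mem x.1.2) hmem, ?_⟩, ?_⟩
        · have hiff : Commute ((x.1 : L)⁻¹ * if x.2 then D.J else 1) a₀ ↔ Commute (x.1 : L) a₀ := by
            have h0 : Commute (if x.2 then D.J else 1) a₀ := by
              split_ifs; exacts [hcJ, Commute.one_left _]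
            constructor
            · intro h
              have := h.mul_left h0.inv_left
              rw [mul_inv_cancel_right] at this
              simpa using this.inv_left
            · exact fun h => h.inv_left.mul_left h0
          by_cases h : Commute (x.1 : L) a₀
          · exact Or.inl ⟨h, hiff.2 h⟩
          · exact Or.inr ⟨h, fun h' => h (hiff.1 h')⟩
        · rcases x with ⟨y, _ | _⟩ <;> simp only [r, if_true, Bool.false_eq_true, if_false, mul_one]
          · rw [D.sq_n]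
            refine Eq.trans (congrArg D.psi ?_) D.psi_J
            simp
          · rw [D.sq_n]
            refine Eq.trans (congrArg D.psi ?_) D.psi_J'
            simp only [Prod.swap_prod_mk, Prod.mk_mul_mk, Prod.mk.injEq, mul_one]
            refine ⟨?_, ?_⟩
            · rw [← mul_assoc, mul_inv_cancel, one_mul, D.J_mul_J]
            · rw [mul_assoc, (D.J_comm (y : L)).eq, inv_mul_cancel_left]⟩)
      (fun x => ⟨((if x.1 then (1, if x.2 then a₀ else a₀ * D.J)
          else (if x.2 then a₀ else a₀ * D.J, 1)), false), by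
        have hmem : (if x.2 then a₀ else a₀ * D.J) ∈ (Q : Subgroup L) := by
          split_ifs; exacts [ha₀Q, mul_mem ha₀Q hJQ]
        have hcm : Commute (if x.2 then a₀ else a₀ * D.J) a₀ := by
          split_ifs; exacts [hca, hca.mul_left hcJ]
        have hsq : (if x.2 then a₀ else a₀ * D.J) * (if x.2 then a₀ else a₀ * D.J) = D.J := by
          split_ifs
          · exact ha₀
          · rw [mul_assoc, ← mul_assoc D.J, (D.J_comm a₀).eq, mul_assoc a₀, D.J_mul_J, mul_one, ha₀]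
        refine ⟨(hmemR _).2 ?_, ?_⟩
        · cases x.1 <;> simp [hmem, hcm, one_mem]
        · cases x.1 <;> simp only [r, Bool.false_eq_true, if_false, if_true, mul_one] <;>
            rw [← map_mul, Prod.mk_mul_mk, hsq, mul_one]
          · exact D.psi_J
          · exact D.psi_J'⟩)
    have ha01 : a₀ ≠ 1 := fun h => hJ (by rw [← ha₀, h, one_mul])
    have ha0J : a₀ * D.J ≠ 1 := fun h => hJ (by
      rw [eq_inv_of_mul_eq_one_left h, ← mul_inv_rev, D.J_mul_J, inv_one] at ha₀; exact ha₀.symm)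
    have hinj : Function.Injective f := by
      rintro (⟨y, b⟩ | ⟨c, d⟩) (⟨y', b'⟩ | ⟨c', d'⟩) h <;>
        simp only [f, Sum.elim_inl, Sum.elim_inr, Subtype.mk.injEq, Prod.mk.injEq] at h
      · obtain ⟨⟨h1, h2⟩, -⟩ := h
        have hy : y = y' := Subtype.ext h1
        subst hy
        have h3 := mul_left_cancel h2
        cases b <;> cases b' <;> simp [hJ, Ne.symm hJ] at h3 ⊢
      · simp at h
      · simp at h
      · obtain ⟨h1, -⟩ := h
        cases c <;> cases c' <;> cases d <;> cases d' <;>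
          simp [Prod.ext_iff, ha01, Ne.symm ha01, ha0J, Ne.symm ha0J, hJ, left_eq_mul,
            mul_eq_left] at h1 ⊢
    have := Nat.card_le_card_of_injective f hinj
    simpa [Nat.card_sum, Nat.card_prod, mul_comm] using this
  -- upper bound
  have hupp : Nat.card {p // D.r p ∈ roots u} ≤
      2 * Nat.card {x : (Q : Subgroup L) // ¬ Commute (x : L) a₀} + 8 := by
    let Rt : L → Type _ := fun w => {x : L // x * x = w}
    have hRt : ∀ e : L, e = a₀ ∨ e = a₀ * D.J → Nat.card {x : L // x * x = e} ≤ 2 := by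
      intro e he
      by_cases hne : ∃ x : L, x * x = e
      swap
      · haveI : IsEmpty {x : L // x * x = e} := ⟨fun x => hne ⟨x.1, x.2⟩⟩
        simp
      obtain ⟨x₁, hx₁⟩ := hne
      have hsurj : Function.Surjective
          (fun b : Bool => (⟨x₁ * (if b then D.J else 1), by
            split_ifs
            · rw [mul_assoc, ← mul_assoc D.J, (D.J_comm x₁).eq, mul_assoc x₁, D.J_mul_J, mul_one, hx₁]
            · simpa using hx₁⟩ : {x : L // x * x = e})) := by
        rintro ⟨x, hx⟩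
        have hcx : ∀ y : L, y * y = e → Commute y a₀ := by
          intro y hy
          have : Commute y e := by rw [← hy]; exact (Commute.refl y).mul_right (Commute.refl y)
          rcases he with rfl | rfl
          · exact this
          · have := this.mul_right (D.J_comm y).symm
            rwa [mul_assoc, D.J_mul_J, mul_one] at this
        have hcomm : Commute x₁ x := Subtype.ext (D.abel _ a₀.2 (congrArg Subtype.val ha₀) _ x₁.2 _
          x.2 (congrArg Subtype.val (hcx x₁ hx₁)) (congrArg Subtype.val (hcx x hx)))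
        have h1 : (x₁⁻¹ * x) * (x₁⁻¹ * x) = 1 := by
          calc (x₁⁻¹ * x) * (x₁⁻¹ * x) = x₁⁻¹ * (x * x₁⁻¹) * x := by group
            _ = x₁⁻¹ * (x₁⁻¹ * x) * x := by rw [hcomm.symm.inv_right.eq]
            _ = (x₁ * x₁)⁻¹ * (x * x) := by group
            _ = 1 := by rw [hx₁, hx, inv_mul_cancel]
        rcases D.invol _ (x₁⁻¹ * x).2 (congrArg Subtype.val h1) with h | h
        · exact ⟨false, Subtype.ext (by simpa using (inv_mul_eq_one.1 (Subtype.ext h)))⟩
        · refine ⟨true, Subtype.ext ?_⟩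
          have h' : x₁⁻¹ * x = D.J := Subtype.ext h
          simp only [if_true]; rw [← h', mul_inv_cancel_left]
      simpa using Nat.card_le_card_of_surjective _ hsurj
    -- a covering by explicit pieces
    let Tn := {x : (Q : Subgroup L) // ¬ Commute (x : L) a₀}
    let e : Bool → L := fun b => if b then a₀ * D.J else a₀
    let A := (b : Bool) × ({x : L // x * x = e b} × {x : L // x * x = e b})
    let g : (Tn × Bool) ⊕ A → (L × L) × Bool := Sum.elim
      (fun x => (((x.1.1 : L), (x.1.1 : L)⁻¹ * e x.2 * D.J), true))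
      (fun x => ((x.2.1.1, x.2.2.1), false))
    have hcov : ∀ p : {p // D.r p ∈ roots u}, ∃ x, g x = p.1 := by
      rintro ⟨⟨⟨a, b⟩, s⟩, hpR, hpu⟩
      obtain ⟨ha, hb, hcond⟩ := (hmemR _).1 hpR
      cases s
      · simp only [r, Bool.false_eq_true, if_false, mul_one, ← map_mul, hu] at hpu
        rcases D.psi_eq_iff.1 hpu.symm with h | h <;>
          simp only [Prod.mk_mul_mk, Prod.mk.injEq] at h
        · exact ⟨Sum.inr ⟨false, ⟨a, by simpa [e] using h.1⟩, ⟨b, by simpa [e] using h.2⟩⟩, rfl⟩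
        · exact ⟨Sum.inr ⟨true, ⟨a, by simpa [e] using h.1⟩, ⟨b, by simpa [e] using h.2⟩⟩, rfl⟩
      · simp only [r, if_true, D.sq_n, hu] at hpu
        have key : ∀ t : Bool, a * b * D.J = e t → b * a = e t →
            ∃ x, g x = ((a, b), true) := by
          intro t h1 h2
          have hb' : b = a⁻¹ * e t * D.J := by
            rw [← h1]
            calc b = a⁻¹ * (a * b) * (D.J * D.J) := by rw [D.J_mul_J]; group
              _ = _ := by group
          have hnc : ¬ Commute a a₀ := by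
            intro hca
            have hce : Commute a (e t) := by
              cases t
              · exact hca
              · exact hca.mul_right (D.J_comm a).symm
            rw [hb'] at h2
            have h3 : D.J = 1 := by
              have : a⁻¹ * e t * D.J * a = e t * D.J := by
                rw [mul_assoc, (D.J_comm a).eq, ← mul_assoc, mul_assoc a⁻¹, ← hce.eq,
                  inv_mul_cancel_left]
              rw [this] at h2
              exact mul_eq_left.1 h2
            exact hJ h3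
          exact ⟨Sum.inl (⟨⟨a, ha⟩, hnc⟩, t), by simp [g, hb']⟩
        rcases D.psi_eq_iff.1 hpu.symm with h | h <;>
          simp only [Prod.swap_prod_mk, Prod.mk_mul_mk, mul_one, Prod.mk.injEq] at h
        · exact key false (by simpa [e] using h.1) (by simpa [e] using h.2)
        · exact key true (by simpa [e] using h.1) (by simpa [e] using h.2)
    choose x hx using hcov
    have hxinj : Function.Injective x := fun p q h => Subtype.ext (by rw [← hx p, ← hx q, h])
    refine (Nat.card_le_card_of_injective x hxinj).trans ?_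
    rw [Nat.card_sum, Nat.card_prod]
    have hA : Nat.card A ≤ 8 := by
      rw [Nat.card_sigma, Fintype.sum_bool, Nat.card_prod, Nat.card_prod]
      have h1 := hRt (e true) (by simp [e])
      have h2 := hRt (e false) (by simp [e])
      nlinarith
    have hB : Nat.card Bool = 2 := by simp
    rw [hB, mul_comm (Nat.card Tn) 2]
    exact Nat.add_le_add_left hA _
  -- the elements commuting with `a₀`
  have hfour : Nat.card {x : (Q : Subgroup L) // ¬ Commute (x : L) a₀} + 4 ≤
      Nat.card (Q : Subgroup L) := by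
    let P : ↥(Q : Subgroup L) → Prop := fun x => Commute (x : L) a₀
    rw [← Nat.card_congr (Equiv.sumCompl P), Nat.card_sum, add_comm]
    refine Nat.add_le_add ?_ le_rfl
    let f : Bool × Bool → {x : (Q : Subgroup L) // P x} := fun c =>
      ⟨⟨(if c.1 then a₀ else 1) * (if c.2 then D.J else 1),
        mul_mem (by split_ifs; exacts [ha₀Q, one_mem _]) (by split_ifs; exacts [hJQ, one_mem _])⟩,
        Commute.mul_left (by split_ifs; exacts [Commute.refl _, Commute.one_left _])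
          (by split_ifs; exacts [D.J_comm a₀, Commute.one_left _])⟩
    have hinj : Function.Injective f := by
      have h1 : a₀ ≠ 1 := fun h => hJ (by rw [← ha₀, h, one_mul])
      have h2 : a₀ ≠ D.J := fun h => hJ (by rw [← ha₀, h, D.J_mul_J])
      have h3 : a₀ * D.J ≠ 1 := fun h => h2 (by
        rw [← mul_one a₀, ← D.J_mul_J, ← mul_assoc, h, one_mul])
      rintro ⟨c, d⟩ ⟨c', d'⟩ h
      have h' := congrArg (fun v : {x : (Q : Subgroup L) // P x} => ((v.1 : L))) h
      cases c <;> cases d <;> cases c' <;> cases d' <;>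
        simp [f, h1, Ne.symm h1, h2, Ne.symm h2, h3, Ne.symm h3, hJ, Ne.symm hJ,
          mul_eq_left, left_eq_mul, mul_eq_right, right_eq_mul] at h' ⊢
    simpa [Nat.card_prod] using Nat.card_le_card_of_injective f hinj
  omega

end Data

end CfsgLib.InvolTwo.SwappedPair
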