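import Cfsg.Agent.Lib.KnownB.UnitaryConj
import Cfsg.Agent.Lib.KnownB.Jordan
import Cfsg.Agent.Lib.Classical.UnitarySU
import Cfsg.Agent.Lib.InvolTwo.Classes
import Cfsg.Agent.S2165

/-! Involutions of `SU_n(q)`, `q` even: conjugacy is decided by the rank of `a - 1`. -/

set_option autoImplicit false

namespace CfsgLib.InvolTwo.Unitary

open Matrix

variable {F : Type*} [Field F] {n q : ℕ}

/-- The general linear group element of an element of `SU`. -/
def toGL (a : ↥(Cfsg.SU n F q)) : GL (Fin n) F :=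
  Matrix.SpecialLinearGroup.toGL (a : Matrix.SpecialLinearGroup (Fin n) F)

theorem toGL_val (a : ↥(Cfsg.SU n F q)) :
    ((toGL a : GL (Fin n) F) : Matrix (Fin n) (Fin n) F) =
      ((a : Matrix.SpecialLinearGroup (Fin n) F) : Matrix (Fin n) (Fin n) F) := rfl

theorem toGL_mem (a : ↥(Cfsg.SU n F q)) : toGL a ∈ Cfsg.GU n F q := fun u v => a.2 u v

theorem matrix_sq {a : ↥(Cfsg.SU n F q)} (ha : orderOf a = 2) :
    ((a : Matrix.SpecialLinearGroup (Fin n) F) : Matrix (Fin n) (Fin n) F) *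
      ((a : Matrix.SpecialLinearGroup (Fin n) F) : Matrix (Fin n) (Fin n) F) = 1 :=
  congrArg (fun x : ↥(Cfsg.SU n F q) =>
    ((x : Matrix.SpecialLinearGroup (Fin n) F) : Matrix (Fin n) (Fin n) F)) (sq_eq_one_of_orderOf ha)

variable [CharP F 2]

theorem sub_one_sq {A : Matrix (Fin n) (Fin n) F} (h : A * A = 1) : (A - 1) * (A - 1) = 0 := by
  rw [Matrix.sub_mul, Matrix.mul_sub, Matrix.mul_sub, h, Matrix.one_mul, Matrix.mul_one,
    Matrix.one_mul]
  ext i j
  simp only [Matrix.sub_apply, Matrix.zero_apply, CharTwo.sub_eq_add]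
  linear_combination (A i j + (1 : Matrix (Fin n) (Fin n) F) i j) * CharTwo.two_eq_zero (R := F)

theorem two_rank_le {A : Matrix (Fin n) (Fin n) F} (h : A * A = 1) : 2 * (A - 1).rank ≤ n := by
  have h1 := LinearMap.finrank_range_add_finrank_ker (A - 1).mulVecLin
  have h2 : LinearMap.range (A - 1).mulVecLin ≤ LinearMap.ker (A - 1).mulVecLin := by
    rintro _ ⟨v, rfl⟩
    rw [LinearMap.mem_ker, Matrix.mulVecLin_apply, Matrix.mulVecLin_apply, Matrix.mulVec_mulVec,
      sub_one_sq h, Matrix.zero_mulVec]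
  have h3 := Submodule.finrank_mono h2
  rw [Module.finrank_fintype_fun_eq_card, Fintype.card_fin] at h1
  show 2 * Module.finrank F (LinearMap.range (A - 1).mulVecLin) ≤ n
  omega

theorem isConj_matrix {A B : Matrix (Fin n) (Fin n) F} (hA : A * A = 1) (hB : B * B = 1)
    (hr : (A - 1).rank = (B - 1).rank) : IsConj A B := by
  refine CfsgLib.KnownB.Jordan.isConj_of_rank ⟨2, by rw [sq, sub_one_sq hA]⟩
    ⟨2, by rw [sq, sub_one_sq hB]⟩ fun j => ?_
  rcases j with _ | _ | j
  · simp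
  · simpa using hr
  · rw [pow_add (A - 1) j 2, pow_add (B - 1) j 2, sq, sq, sub_one_sq hA, sub_one_sq hB, mul_zero,
      mul_zero]

variable [Fintype F]

theorem exists_gu_conj (hF : Fintype.card F = q ^ 2) {a b : ↥(Cfsg.SU n F q)}
    (ha : orderOf a = 2) (hb : orderOf b = 2)
    (hr : (((a : Matrix.SpecialLinearGroup (Fin n) F) : Matrix (Fin n) (Fin n) F) - 1).rank =
      (((b : Matrix.SpecialLinearGroup (Fin n) F) : Matrix (Fin n) (Fin n) F) - 1).rank) :
    ∃ u ∈ Cfsg.GU n F q, u * toGL a = toGL b * u := by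
  have hF' : Nat.card F = q ^ 2 := by rw [Nat.card_eq_fintype_card, hF]
  obtain ⟨σ, hσ, hσ1, hσ2⟩ := CfsgLib.Classical.exists_frob hF'
  obtain ⟨h, hh⟩ := isConj_matrix (matrix_sq ha) (matrix_sq hb) hr
  have hne : σ ≠ RingHom.id F := hσ1
  have hmem := fun g : GL (Fin n) F => CfsgLib.KnownB.UnitaryConj.mem_GU_iff_adj hσ2 hσ g
  obtain ⟨u, hu, hua⟩ := CfsgLib.KnownB.UnitaryConj.exists_unitary_conjugator hne hσ2
    ((hmem _).1 (toGL_mem a)) ((hmem _).1 (toGL_mem b)) (h := h) (Units.ext hh)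
  exact ⟨u, (hmem u).2 hu, hua⟩

theorem exists_cent_det (hF : Fintype.card F = q ^ 2) (hn : 3 ≤ n) {b : ↥(Cfsg.SU n F q)}
    (hb : orderOf b = 2) {x : F} (hx : x ^ (q + 1) = 1) :
    ∃ z ∈ Cfsg.GU n F q, z * toGL b = toGL b * z ∧ ((z : GL (Fin n) F) : Matrix (Fin n) (Fin n) F).det = x := by
  classical
  have hF' : Nat.card F = q ^ 2 := by rw [Nat.card_eq_fintype_card, hF]
  set B : Matrix (Fin n) (Fin n) F := ((b : Matrix.SpecialLinearGroup (Fin n) F) : Matrix (Fin n) (Fin n) F)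
  have hpos : 1 ≤ (B - 1).rank := by
    by_contra h
    have h0 : (B - 1).rank = 0 := by omega
    have h1 : LinearMap.range (B - 1).mulVecLin = ⊥ := Submodule.finrank_eq_zero.1 h0
    rw [LinearMap.range_eq_bot, ← Matrix.mulVecLin_zero] at h1
    have h2 : B - 1 = 0 := Matrix.ext_of_mulVec_single fun i => LinearMap.congr_fun h1 _
    exact ne_one_of_orderOf hb (Subtype.ext (Subtype.ext (sub_eq_zero.1 h2)))
  have hle := two_rank_le (matrix_sq hb)
  set l := (B - 1).rank
  obtain ⟨a, haM, hao, har⟩ := Cfsg.Agent.S2165.result hF hn l hpos hle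
  obtain ⟨u, hu, hua⟩ := exists_gu_conj hF hb hao har.symm
  -- a diagonal unitary element commuting with the standard involution
  obtain ⟨d, hd1, hdet, hdM⟩ : ∃ d : Fin n → F, (∀ i, d i ^ (q + 1) = 1) ∧ ∏ i, d i = x ∧
      ∀ i j, ((a : Matrix.SpecialLinearGroup (Fin n) F) : Matrix (Fin n) (Fin n) F) i j ≠ 0 →
        d i = d j := by
    have hM : ∀ i j, ((a : Matrix.SpecialLinearGroup (Fin n) F) : Matrix (Fin n) (Fin n) F) i j ≠ 0 →
        (j.val < l ∧ i.val = j.val + (n - l)) ∨ (i.val < l ∧ j.val = i.val + (n - l)) ∨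
          (i = j ∧ l ≤ i.val ∧ i.val < n - l) := fun i j h => by
      rw [haM, Matrix.of_apply] at h
      by_contra hc
      exact h (if_neg hc)
    by_cases hmid : 2 * l < n
    · refine ⟨fun i => if i = ⟨l, by omega⟩ then x else 1, fun i => ?_, by simp, fun i j hij => ?_⟩
      · dsimp only; split_ifs <;> simp [hx]
      · rcases hM i j hij with h | h | h
        · simp only [Fin.ext_iff]; rw [if_neg (by omega), if_neg (by omega)]
        · simp only [Fin.ext_iff]; rw [if_neg (by omega), if_neg (by omega)]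
        · rw [h.1]
    · obtain ⟨r, hr⟩ := FiniteField.isSquare_of_char_two (ringChar.eq F 2) x
      have hr1 : r ^ (q + 1) = 1 := CharTwo.sq_injective (by
        show (r ^ (q + 1)) ^ 2 = (1 : F) ^ 2
        rw [one_pow, ← pow_mul, mul_comm, pow_mul, sq r, ← hr, hx])
      refine ⟨fun i => if i.val = 0 ∨ i.val = l then r else 1, fun i => ?_, ?_, fun i j hij => ?_⟩
      · dsimp only; split_ifs <;> simp [hr1]
      · rw [Finset.prod_ite, Finset.prod_const, Finset.prod_const_one, mul_one, hr, ← sq]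
        congr 1
        rw [show Finset.univ.filter (fun i : Fin n => i.val = 0 ∨ i.val = l) =
          {⟨0, by omega⟩, ⟨l, by omega⟩} by ext i; simp [Fin.ext_iff]]
        rw [Finset.card_pair (by simp [Fin.ext_iff]; omega)]
      · rcases hM i j hij with h | h | h
        · dsimp only; congr 1; apply propext; omega
        · dsimp only; congr 1; apply propext; omega
        · rw [h.1]
  have hdet0 : (Matrix.diagonal d).det ≠ 0 := by
    rw [Matrix.det_diagonal, hdet]
    intro h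
    rw [h, zero_pow (by omega)] at hx
    exact zero_ne_one hx
  set D : GL (Fin n) F := Matrix.GeneralLinearGroup.mkOfDetNeZero _ hdet0
  have hDmem : D ∈ Cfsg.GU n F q := fun v w => by
    show Cfsg.hermForm n F q (Matrix.diagonal d *ᵥ v) (Matrix.diagonal d *ᵥ w) = _
    rw [CfsgLib.Classical.diag_mulVec_herm]
    exact Finset.sum_congr rfl fun i _ => by rw [hd1 i, one_mul]
  have hDa : D * toGL a = toGL a * D := Units.ext (by
    ext i j
    show (Matrix.diagonal d * ((a : Matrix.SpecialLinearGroup (Fin n) F) : Matrix (Fin n) (Fin n) F)) i j =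
      (((a : Matrix.SpecialLinearGroup (Fin n) F) : Matrix (Fin n) (Fin n) F) * Matrix.diagonal d) i j
    rw [Matrix.diagonal_mul, Matrix.mul_diagonal]
    by_cases h : ((a : Matrix.SpecialLinearGroup (Fin n) F) : Matrix (Fin n) (Fin n) F) i j = 0
    · rw [h, mul_zero, zero_mul]
    · rw [hdM i j h, mul_comm])
  refine ⟨u⁻¹ * D * u, mul_mem (mul_mem (inv_mem hu) hDmem) hu, ?_, ?_⟩
  · calc u⁻¹ * D * u * toGL b = u⁻¹ * D * (u * toGL b) := by group
      _ = u⁻¹ * (D * toGL a) * u := by rw [hua]; group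
      _ = u⁻¹ * (toGL a * u) * u⁻¹ * D * u := by rw [hDa]; group
      _ = toGL b * (u⁻¹ * D * u) := by rw [← hua]; group
  · rw [Units.val_mul, Units.val_mul, Matrix.det_mul, Matrix.det_mul, mul_right_comm,
      ← Matrix.det_mul, Units.inv_mul, Matrix.det_one, one_mul]
    show (Matrix.diagonal d).det = x
    rw [Matrix.det_diagonal, hdet]

/-- Equal ranks give conjugacy in `SU`. -/
theorem isConj_of_rank (hF : Fintype.card F = q ^ 2) (hn : 3 ≤ n) {a b : ↥(Cfsg.SU n F q)}
    (ha : orderOf a = 2) (hb : orderOf b = 2)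
    (hr : (((a : Matrix.SpecialLinearGroup (Fin n) F) : Matrix (Fin n) (Fin n) F) - 1).rank =
      (((b : Matrix.SpecialLinearGroup (Fin n) F) : Matrix (Fin n) (Fin n) F) - 1).rank) :
    IsConj a b := by
  have hF' : Nat.card F = q ^ 2 := by rw [Nat.card_eq_fintype_card, hF]
  obtain ⟨u, hu, hua⟩ := exists_gu_conj hF ha hb hr
  have hN : CfsgLib.Classical.guDet n F q ⟨u, hu⟩ ∈ CfsgLib.Classical.normOne F q := by
    rw [← CfsgLib.Classical.guDet_range (n := n) hF' (by omega)]
    exact ⟨_, rfl⟩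
  have hx : ((u : Matrix (Fin n) (Fin n) F).det) ^ (q + 1) = 1 := by
    simpa [CfsgLib.Classical.normOne, CfsgLib.Classical.guDet, Units.ext_iff] using hN
  have hne : (u : Matrix (Fin n) (Fin n) F).det ≠ 0 := fun h => by
    rw [h, zero_pow (by omega)] at hx
    exact zero_ne_one hx
  obtain ⟨z, hz, hzb, hzdet⟩ := exists_cent_det hF hn hb (x := ((u : Matrix (Fin n) (Fin n) F).det)⁻¹)
    (by rw [inv_pow, hx, inv_one])
  let c : Matrix.SpecialLinearGroup (Fin n) F :=
    ⟨((z * u : GL (Fin n) F) : Matrix (Fin n) (Fin n) F), by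
      rw [Units.val_mul, Matrix.det_mul, hzdet, inv_mul_cancel₀ hne]⟩
  have hcm : c ∈ Cfsg.SU n F q := fun v w => (mul_mem hz hu) v w
  refine isConj_iff.2 ⟨⟨c, hcm⟩, ?_⟩
  rw [mul_inv_eq_iff_eq_mul]
  refine Subtype.ext (Subtype.ext ?_)
  have e : (z * u) * toGL a = toGL b * (z * u) := by
    rw [mul_assoc, hua, ← mul_assoc, hzb, mul_assoc]
  exact congrArg Units.val e

theorem main (hF : Fintype.card F = q ^ 2) (hn : 3 ≤ n) {a b : ↥(Cfsg.SU n F q)}
    (ha : orderOf a = 2) (hb : orderOf b = 2) :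
    (IsConj a b ↔ IsConj (a : Matrix.SpecialLinearGroup (Fin n) F) (b : Matrix.SpecialLinearGroup (Fin n) F)) ∧
    (IsConj a b ↔ (((a : Matrix.SpecialLinearGroup (Fin n) F) : Matrix (Fin n) (Fin n) F) - 1).rank =
      (((b : Matrix.SpecialLinearGroup (Fin n) F) : Matrix (Fin n) (Fin n) F) - 1).rank) := by
  have h1 : IsConj a b → IsConj (a : Matrix.SpecialLinearGroup (Fin n) F) (b : Matrix.SpecialLinearGroup (Fin n) F) :=
    fun h => (Cfsg.SU n F q).subtype.map_isConj h
  have h2 : IsConj (a : Matrix.SpecialLinearGroup (Fin n) F) (b : Matrix.SpecialLinearGroup (Fin n) F) →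
      (((a : Matrix.SpecialLinearGroup (Fin n) F) : Matrix (Fin n) (Fin n) F) - 1).rank =
      (((b : Matrix.SpecialLinearGroup (Fin n) F) : Matrix (Fin n) (Fin n) F) - 1).rank := fun h => by
    obtain ⟨c, hc⟩ := isConj_iff.1 h
    rw [← hc, Matrix.SpecialLinearGroup.coe_mul, Matrix.SpecialLinearGroup.coe_mul,
      show (c : Matrix (Fin n) (Fin n) F) * ((a : Matrix.SpecialLinearGroup (Fin n) F) : Matrix _ _ F) *
        ((c⁻¹ : Matrix.SpecialLinearGroup (Fin n) F) : Matrix _ _ F) - 1 =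
        (c : Matrix (Fin n) (Fin n) F) *
          (((a : Matrix.SpecialLinearGroup (Fin n) F) : Matrix _ _ F) - 1) *
          ((c⁻¹ : Matrix.SpecialLinearGroup (Fin n) F) : Matrix _ _ F) by
        rw [Matrix.mul_sub, Matrix.sub_mul, Matrix.mul_one, ← Matrix.SpecialLinearGroup.coe_mul c c⁻¹,
          mul_inv_cancel, Matrix.SpecialLinearGroup.coe_one],
      Matrix.rank_mul_eq_left_of_isUnit_det _ _ (by
        rw [(c⁻¹ : Matrix.SpecialLinearGroup (Fin n) F).2]; exact isUnit_one),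
      Matrix.rank_mul_eq_right_of_isUnit_det _ _ (by rw [c.2]; exact isUnit_one)]
  exact ⟨⟨h1, fun h => isConj_of_rank hF hn ha hb (h2 h)⟩,
    ⟨fun h => h2 (h1 h), isConj_of_rank hF hn ha hb⟩⟩

end CfsgLib.InvolTwo.Unitary
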